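import Cfsg.Agent.H31.O7B

/-! O7, chapter B: the kit. -/

set_option autoImplicit false

namespace H31.O7

open H56 QuadraticMap Module Cfsg Subgroup
open H20.LD (cp)
open H56.SL2M (xx yy hh)
open scoped MatrixGroups commutatorElement

universe u

section grp

variable {Γ Γ' : Type*} [Group Γ] [Group Γ'] {x w z i j : Γ}

theorem cp_zero (g a : Γ) : cp g 0 a = a := by simp [cp]
theorem cp_one (g a : Γ) : cp g 1 a = g * a * g⁻¹ := by simp [cp]
theorem cp_cp (g a : Γ) (m n : ℕ) : cp g m (cp g n a) = cp g (m + n) a := by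
  simp only [cp, pow_add]; group
theorem cp_mul (g a b : Γ) (m : ℕ) : cp g m (a * b) = cp g m a * cp g m b := by
  simp only [cp]; group
theorem cp_pow (g a : Γ) (m n : ℕ) : cp g m (a ^ n) = cp g m a ^ n := by rw [cp, cp, conj_pow]
theorem cp_comm (g : Γ) (m : ℕ) {a b : Γ} (h : Commute a b) : Commute (cp g m a) (cp g m b) := by
  rw [Commute, SemiconjBy, ← cp_mul, ← cp_mul, h.eq]
theorem isConj_cp (g a : Γ) (m : ℕ) : IsConj a (cp g m a) := isConj_iff.2 ⟨_, rfl⟩
theorem map_cp (f : Γ →* Γ') (g a : Γ) (m : ℕ) : f (cp g m a) = cp (f g) m (f a) := by simp [cp]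

theorem T3.cp3 (h : T3 x w) (a : Γ) : cp w 3 a = a := by rw [cp, h.w3]; simp

theorem T3.comm12 (h : T3 x w) : Commute (cp w 1 x) (cp w 2 x) := by
  simpa only [cp_cp] using cp_comm w 1 h.comm

theorem T3.comm02 (h : T3 x w) : Commute x (cp w 2 x) := by
  have := cp_comm w 2 h.comm
  rw [cp_cp, h.cp3] at this
  exact this.symm

theorem T3.pow (h : T3 x w) (m : ℕ) : T3 (x ^ m) w where
  w3 := h.w3
  comm := by rw [cp_pow]; exact h.comm.pow_pow m m
  prod := by
    rw [cp_pow, cp_pow, ← h.comm.mul_pow, ← (h.comm02.mul_left h.comm12).mul_pow, h.prod, one_pow]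

theorem A4.of_T3 (h : T3 x w) {m : ℕ} (e : x ^ m = z) (h1 : z ≠ 1) (h2 : z * z = 1) : A4 z w :=
  ⟨e ▸ h.pow m, h1, h2⟩

theorem Q8.sq_sq (h : Q8 i j) : i * i * (i * i) = 1 := by
  have a : i * (j * j) * i⁻¹ = (j * j)⁻¹ := by
    rw [mul_inv_rev, ← h.cj]; group
  rw [h.sq] at a
  rw [← mul_inv_cancel (i * i), ← a]; group

theorem Q8.fr (h : Q8 i j) : Fr (i * i) := ⟨h.ne, h.sq_sq, .inl ⟨i, j, h, rfl⟩⟩

theorem E7.fr {a g : Γ} (h : E7 a g) : Fr a := ⟨h.ne, h.sq, .inr (.inl ⟨g, h⟩)⟩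

theorem exists_q8 (F : Type*) [Field F] [Fintype F] :
    ∃ i j : SL(2, F), i * i = -1 ∧ j * j = -1 ∧ i * j * i⁻¹ = j⁻¹ := by
  obtain ⟨p, hp⟩ := CharP.exists F
  have : Fact p.Prime := ⟨CharP.char_is_prime F p⟩
  obtain ⟨a, b, h⟩ := CharP.sq_add_sq F p (-1)
  push_cast at h
  let i : SL(2, F) := ⟨!![0, 1; -1, 0], by simp [Matrix.det_fin_two]⟩
  let j : SL(2, F) := ⟨!![a, b; b, -a], by rw [Matrix.det_fin_two_of]; linear_combination -h⟩
  have e1 : j * j = -1 := Subtype.ext (by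
    change j.1 * j.1 = -1
    ext s t; fin_cases s <;> fin_cases t <;> simp [j, Matrix.mul_apply, Fin.sum_univ_two] <;>
      first | linear_combination h | ring)
  have e2 : j * i * j = i := Subtype.ext (by
    change j.1 * i.1 * j.1 = i.1
    ext s t; fin_cases s <;> fin_cases t <;> simp [i, j, Matrix.mul_apply, Fin.sum_univ_two] <;>
      first | linear_combination h | linear_combination -h | ring)
  refine ⟨i, j, Subtype.ext ?_, e1, ?_⟩
  · change i.1 * i.1 = -1
    ext s t; fin_cases s <;> fin_cases t <;> simp [i, Matrix.mul_apply, Fin.sum_univ_two]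
  · rw [mul_inv_eq_iff_eq_mul, eq_inv_mul_iff_mul_eq, ← mul_assoc, e2]

theorem fr_sl2 {F : Type*} [Field F] [Fintype F] (φ : SL(2, F) →* Γ) (h : φ (-1) ≠ 1) :
    Fr (φ (-1)) := by
  obtain ⟨i, j, a, b, c⟩ := exists_q8 F
  have e : φ i * φ i = φ (-1) := by rw [← map_mul, a]
  exact e ▸ Q8.fr (j := φ j) ⟨by rw [e, ← map_mul, b],
    by rw [← map_inv, ← map_mul, ← map_mul, c, map_inv], e ▸ h⟩

theorem hh_neg_one {F : Type*} [Field F] : hh (-1 : Fˣ) = -1 := by
  ext s t; fin_cases s <;> fin_cases t <;> simp [H56.SL2M.hh_coe]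

theorem W7.map {r : ℕ} (h : W7 Γ r) (f : Γ →* Γ') (hf : Function.Injective f) : W7 Γ' r := by
  obtain ⟨A, a1, a2, a3, n, a4, a5, a6⟩ := h
  refine ⟨A.map f, fun e => a1 ((map_eq_bot_iff_of_injective _ hf).1 e), ?_, ?_, fun i => f (n i),
    ?_, ?_, ?_⟩
  · rintro _ ⟨a, ha, rfl⟩; rw [← map_pow, a2 a ha, map_one]
  · rintro _ ⟨a, ha, rfl⟩ _ ⟨b, hb, rfl⟩; rw [← map_mul, a3 a ha b hb, map_mul]
  · rintro i _ ⟨a, ha, rfl⟩; exact ⟨_, a4 i a ha, by simp⟩
  · rintro i j e _ ⟨a, ha, rfl⟩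
    obtain ⟨b, hb, c⟩ := a5 i j e a ha
    exact ⟨f b, ⟨b, hb, rfl⟩, by rw [c]; simp⟩
  · rintro i j _ ⟨a, ha, rfl⟩
    obtain ⟨b, hb, c⟩ := a6 i j a ha
    exact ⟨f b, ⟨b, hb, rfl⟩, by rw [c]; simp⟩

end grp

section lin

variable {K : Type u} [Field K] {V : Type u} [AddCommGroup V] [Module K V] {Q : QuadraticForm K V}
  {S : Type u} [AddCommGroup S] [Module K S] {g h : O Q} {v : V}

theorem comm_mem_fix (c : Commute g h) (hv : v ∈ h.fix) : g v ∈ h.fix := by
  rw [O.mem_fix] at hv ⊢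
  rw [← O.mul_apply, ← c.eq, O.mul_apply, hv]

theorem comm_mem_mov (c : Commute g h) (hv : v ∈ h.mov) : g v ∈ h.mov := by
  obtain ⟨y, rfl⟩ := O.mem_mov.1 hv
  exact O.mem_mov.2 ⟨g y, by rw [map_sub, ← O.mul_apply, ← c.eq, O.mul_apply]⟩

theorem mem_mov_of_inv (h2 : (2 : K) ≠ 0) (hg : g * g = 1) : v ∈ g.mov ↔ g v = -v := by
  refine ⟨fun hv => ?_, fun e => O.mem_mov.2 ⟨-(2 : K)⁻¹ • v, ?_⟩⟩
  · obtain ⟨y, rfl⟩ := O.mem_mov.1 hv
    rw [map_sub, ← O.mul_apply, hg, O.one_apply, neg_sub]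
  · rw [map_smul, e, ← smul_sub, ← neg_add', ← two_smul K v, smul_neg, smul_smul]
    simp [h2]

theorem mov_conj (g h : O Q) : (g * h * g⁻¹).mov = h.mov.map g.lin := by
  ext v
  simp only [O.mem_mov, Submodule.mem_map, O.mul_apply, O.lin_apply]
  constructor
  · rintro ⟨y, rfl⟩; exact ⟨_, ⟨g⁻¹ y, rfl⟩, by simp⟩
  · rintro ⟨_, ⟨y, rfl⟩, rfl⟩; exact ⟨g y, by simp⟩

theorem rk_conj (c : IsConj g h) : g.rk = h.rk := by
  obtain ⟨a, rfl⟩ := isConj_iff.1 c
  rw [O.rk, O.rk, mov_conj]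
  exact (LinearEquiv.finrank_map_eq a.1 _).symm

theorem rk_eq_zero [FiniteDimensional K V] : g.rk = 0 ↔ g = 1 := by
  refine ⟨fun e => O.ext fun x => ?_, fun e => e ▸ O.rk_one⟩
  have := g.sub_mem_mov x
  rw [Submodule.finrank_eq_zero.1 e, Submodule.mem_bot, sub_eq_zero] at this
  exact this

theorem rk_even [FiniteDimensional K V] (hQ : Q.polarBilin.Nondegenerate) (h2 : (2 : K) ≠ 0)
    (hd : LinearMap.det g.lin = 1) : Even g.rk :=
  (dickson_eq_one_iff hQ g).1 ((dickson_eq_one_iff_det hQ h2 g).2 hd)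

theorem det_of_even [FiniteDimensional K V] (hQ : Q.polarBilin.Nondegenerate) (e : Even g.rk) :
    LinearMap.det g.lin = 1 := by rw [O.det_eq_neg_one_pow_rk hQ, e.neg_one_pow]

theorem det_of_odd [FiniteDimensional K V] (hQ : Q.polarBilin.Nondegenerate) {n : ℕ} (hn : Odd n)
    (e : g ^ n = 1) : LinearMap.det g.lin = 1 := by
  refine (O.det_eq_or hQ g).elim id fun c => ?_
  have := congrArg (fun x => (O.det Q x : K)) e
  simp only [map_pow, Units.val_pow_eq_pow_val, O.val_det, c, hn.neg_one_pow] at this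
  rw [c, this]; simp

theorem charpoly_conj [FiniteDimensional K V] (c : IsConj g h) :
    g.lin.charpoly = h.lin.charpoly := by
  obtain ⟨a, rfl⟩ := isConj_iff.1 c
  exact (LinearEquiv.charpoly_conj a.1 g.lin).symm

variable {γ : V →ₗ[K] S →ₗ[K] S} {s : S} {G : S ≃ₗ[K] S}

theorem Lf.smul (a : Lf γ g G) (c : Kˣ) : Lf γ g (c • G) := fun v s => by
  simp only [LinearEquiv.smul_apply, a v s, Units.smul_def, map_smul]

theorem mem_Fix : g ∈ Fix γ s ↔ ∃ G, Lf γ g G ∧ G s = s := Iff.rfl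

theorem mem_Fix_of_eig (a : Lf γ g G) (hs : s ≠ 0) {c : K} (e : G s = c • s) : g ∈ Fix γ s := by
  have hc : c ≠ 0 := fun h => hs (G.injective (by rw [e, h, zero_smul, map_zero]))
  exact ⟨_, a.smul (Units.mk0 c hc)⁻¹, by
    simp [LinearEquiv.smul_apply, e, Units.smul_def, smul_smul, hc]⟩

theorem Kit.eig {β : QuadraticForm K S} (k : Kit Q β γ) (hg : g ∈ Fix γ s) (a : Lf γ g G) :
    ∃ c : K, G s = c • s := by
  obtain ⟨G', b, e⟩ := hg
  obtain ⟨c, hc⟩ := k.uniq g G' G b a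
  exact ⟨c, by rw [hc, e]⟩

theorem Lf.neg {β : QuadraticForm K S} {G : O β} (a : Lf γ g G.1) :
    Lf γ g (O.negOne β * G).1 := fun v s => by
  change -(G.1 (γ v s)) = γ (g v) (-(G.1 s))
  rw [a, map_neg]

theorem Lf.pow (a : Lf γ g G) (n : ℕ) : Lf γ (g ^ n) (G ^ n) := by
  induction n with
  | zero => simpa using Lf.one γ
  | succ n ih => rw [pow_succ, pow_succ]; exact ih.mul a

theorem Spin.anti {β : QuadraticForm K S} (h : Spin Q β γ) (u v : V) (s : S) :
    γ u (γ v s) + γ v (γ u s) = polar Q u v • s := by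
  have := h.sq (u + v) s
  simp only [map_add, LinearMap.add_apply, h.sq, Q_add, add_smul] at this
  rw [← sub_eq_zero] at this ⊢
  rw [← this]; abel

theorem Spin.norm {β : QuadraticForm K S} (h : Spin Q β γ) (v : V) (s : S) :
    β (γ v s) = -Q v * β s := by
  apply mul_left_cancel₀ h.two
  rw [← polar_self', h.skew, h.sq, polar_smul_right, polar_self', smul_eq_mul]; ring

end lin

section rp

variable {K : Type u} [Field K] {V : Type u} [AddCommGroup V] [Module K V] {Q : QuadraticForm K V}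
  {S : Type u} [AddCommGroup S] [Module K S] {v : V} {γ : V →ₗ[K] S →ₗ[K] S} {s : S}
  {Γ Γ' : Type} [Group Γ] [Group Γ'] {p : ℕ} {ρ : Γ →* O Q}

theorem FixS.of_closure {T : Set Γ} (hT : closure T = ⊤) (hs : s ≠ 0)
    (h : ∀ x ∈ T, ρ x ∈ Fix γ s) : FixS γ ρ :=
  ⟨s, hs, fun x => ((closure_le ((Fix γ s).comap ρ)).2 h) (hT ▸ mem_top x)⟩

theorem FixS.of_trans (e : Γ ≃* Γ') (h : FixS γ (ρ.comp e.symm.toMonoidHom)) : FixS γ ρ := by
  obtain ⟨s, a, b⟩ := h
  exact ⟨s, a, fun x => by simpa using b (e x)⟩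

namespace Rp

variable (h : Rp p ρ)
include h

theorem two : (2 : K) ≠ 0 := fun e => by
  have := h.char
  exact h.odd ((Nat.prime_dvd_prime_iff_eq h.prime Nat.prime_two).1
    ((CharP.cast_eq_zero_iff K p 2).1 (by exact_mod_cast e)))

theorem three : (3 : K) = 0 ↔ p = 3 := by
  have := h.char
  rw [← Nat.prime_dvd_prime_iff_eq h.prime Nat.prime_three, ← CharP.cast_eq_zero_iff K p 3]
  norm_num

theorem irr (W : Submodule K V) (hW : ∀ x, ∀ v ∈ W, ρ x v ∈ W) : W = ⊥ ∨ W = ⊤ := by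
  refine or_iff_not_imp_left.2 fun c => eq_top_iff.2 fun y _ => ?_
  obtain ⟨v, hv, v0⟩ := Submodule.exists_mem_ne_zero_of_ne_bot c
  obtain ⟨f, hf⟩ : ∃ f : V →ₗ[K] V, f v = y := by
    obtain ⟨φ, hφ⟩ := Module.Projective.exists_dual_eq_one K v0
    exact ⟨φ.smulRight y, by simp [hφ]⟩
  have : ∀ f ∈ Submodule.span K (Set.range fun x => (ρ x).lin), f v ∈ W := fun f hf => by
    induction hf using Submodule.span_induction with
    | mem _ a => obtain ⟨x, rfl⟩ := a; exact hW x v hv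
    | zero => exact W.zero_mem
    | add _ _ _ _ a b => exact W.add_mem a b
    | smul c _ _ a => exact W.smul_mem c a
  exact hf ▸ this f (h.span ▸ Submodule.mem_top)

/-- An invariant subspace of dimension at most six is zero. -/
theorem eq_bot (W : Submodule K V) (hW : ∀ x, ∀ v ∈ W, ρ x v ∈ W) (d : finrank K W ≤ 6) :
    W = ⊥ := (h.irr W hW).resolve_right fun e => by
  rw [e, finrank_top, h.dim] at d; omega

/-- The same for generators. -/
theorem eq_bot' [Finite Γ] {T : Set Γ} (hT : closure T = ⊤) (W : Submodule K V)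
    (hW : ∀ x ∈ T, ∀ v ∈ W, ρ x v ∈ W) (d : finrank K W ≤ 6) : W = ⊥ := by
  refine h.eq_bot W (fun x => ?_) d
  have : x ∈ Submonoid.closure T := by
    rw [← closure_toSubmonoid_of_finite, hT]; trivial
  induction this using Submonoid.closure_induction with
  | mem x a => exact hW x a
  | one => simp
  | mul x y _ _ a b => exact fun v hv => by rw [map_mul, O.mul_apply]; exact a _ (b v hv)

theorem no_fix {T : Set Γ} (hT : closure T = ⊤) (hv : ∀ x ∈ T, ρ x v = v) : v = 0 := by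
  have a : ∀ x, ρ x v = v := fun x => by
    have : x ∈ closure T := hT ▸ mem_top x
    induction this using closure_induction with
    | mem x a => exact hv x a
    | one => simp
    | mul x y _ _ a b => rw [map_mul, O.mul_apply, b, a]
    | inv x _ a => rw [map_inv, O.inv_apply_eq, a]
  have := h.eq_bot (K ∙ v) (fun x w hw => by
    obtain ⟨c, rfl⟩ := Submodule.mem_span_singleton.1 hw
    rw [map_smul, a]; exact hw) ((finrank_span_le_card _).trans (by simp))
  exact Submodule.span_singleton_eq_bot.1 this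

theorem trans (e : Γ ≃* Γ') : Rp p (ρ.comp e.symm.toMonoidHom) where
  prime := h.prime
  odd := h.odd
  char := h.char
  dim := h.dim
  nd := h.nd
  inj := h.inj.comp e.symm.injective
  det := fun _ => h.det _
  span := by
    rw [← h.span]; congr 1
    exact e.symm.surjective.range_comp fun x => (ρ x).lin
  w24 := fun x a b => h.w24 _ (by simpa using a) (by rw [← map_mul, b, map_one])
  simple := have := h.simple; e.symm.isSimpleGroup
  nab := fun c => h.nab ⟨⟨fun a b => e.injective (by rw [map_mul, map_mul, c.1.1])⟩⟩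

theorem eq_one {x : Γ} : ρ x = 1 ↔ x = 1 := map_eq_one_iff ρ h.inj

omit h in
theorem rk_conj {x y : Γ} (c : IsConj x y) : (ρ x).rk = (ρ y).rk := O7.rk_conj (ρ.map_isConj c)

variable [FiniteDimensional K V]

theorem rk_even (x : Γ) : Even (ρ x).rk := O7.rk_even h.nd h.two (h.det x)

theorem rk_add (x : Γ) : (ρ x).rk + finrank K (ρ x).fix = 7 := h.dim ▸ O.rk_add_finrank_fix _

theorem rk_le (x : Γ) : (ρ x).rk ≤ 6 := by
  have := h.rk_add x
  obtain ⟨k, hk⟩ := h.rk_even x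
  omega

end Rp

end rp

end H31.O7
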