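import Cfsg.Agent.H14.CBSpec

/-! # S1308, tower CB: the second elementary subgroup of `P T`. -/

set_option autoImplicit false

namespace H31.CBS2

open Cfsg Subgroup MulAction H14 H98 H1.Gold H31.S2 H14.GC H14.FE H14.NF H14.CB
open scoped commutatorElement

universe u

variable {G : Type u} [Group G]

theorem el_pt {Q E Q₁ T : Subgroup G} (h : El E) (p : Pt Q E Q₁ T) : El T := by
  obtain ⟨g, -, rfl⟩ := p
  intro a ha
  have := h _ (mem_cj.1 ha)
  calc a * a = g * (g⁻¹ * a * g * (g⁻¹ * a * g)) * g⁻¹ := by group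
    _ = 1 := by rw [this]; group

theorem jobS2 : JS2.{u} := by
  intro act jln G _ _ Q E tg Q₁ T Q₂ T' P sp ln ln' s1
  have elT : El T := el_pt tg.el ln.col.p2
  have EP : E ≤ P := ln.pg.lt.le
  have TE : T ≤ cen E := ln.col.comm
  have ET' : E ≤ cen T' := le_centralizer_iff.1 ln'.col.comm
  have TP : T ≤ nor P := fun t ht => mem_normalizer_fintype fun y hy => by
    have e : t * y * t⁻¹ = ⁅t, y⁆ * y := by simp only [commutatorElement_def]; group
    rw [e]; exact mul_mem (EP (ln.pg.cm t ht y hy)) hy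
  have dec : ∀ x ∈ P ⊔ T, ∃ t ∈ T, ∃ y ∈ P, x = t * y := fun x hx => by
    rw [sup_comm] at hx; exact (mem_sup_left_norm TP).1 hx
  obtain ⟨a₀, ha₀, hn₀⟩ := SetLike.not_le_iff_exists.1 sp.nc
  have a1 : a₀ ≠ 1 := fun e => hn₀ (e ▸ one_mem _)
  have triv : ∀ t ∈ T, t ∈ cen T' → t = 1 := fun t ht hc => by
    by_contra h1
    exact s1.2 t ht a₀ ha₀ h1 a1
      (commutatorElement_eq_one_iff_mul_comm.2 (mem_centralizer_iff.1 hc a₀ ha₀).symm)
  have lE : E ≤ (P ⊔ T) ⊓ cen T' := le_inf (EP.trans le_sup_left) ET'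
  have cov1 : ∀ t ∈ T, ∃ y ∈ P, t * y ∈ (P ⊔ T) ⊓ cen T' ∧ (t ≠ 1 → y ∉ E) := fun t ht => by
    have hc : ∀ a ∈ T', ⁅a, t⁆ ∈ E := fun a ha => by
      rw [← commutatorElement_inv]; exact inv_mem (sp.cm t ht a ha)
    obtain ⟨y, hy, e⟩ := act G Q E tg Q₂ T' P ln' t (TE ht) hc
    refine ⟨y, hy, ⟨mul_mem (mem_sup_right ht) (mem_sup_left hy),
      mem_centralizer_iff.2 fun a ha => commutatorElement_eq_one_iff_mul_comm.1 ?_⟩, fun h1 hE => ?_⟩
    · have e1 : ⁅a, t * y⁆ = ⁅a, t⁆ * (t * ⁅a, y⁆ * t⁻¹) := by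
        simp only [commutatorElement_def]; group
      have e2 : ⁅a, t⁆ * t = t * ⁅a, t⁆ := mem_centralizer_iff.1 (TE ht) _ (hc a ha)
      rw [e1, ← e a ha, ← e2, mul_inv_cancel_right]
      exact tg.el _ (hc a ha)
    · refine h1 (triv t ht (mem_centralizer_iff.2 fun a ha =>
        commutatorElement_eq_one_iff_mul_comm.1 ?_))
      rw [e a ha]
      exact commutatorElement_eq_one_iff_mul_comm.2 (mem_centralizer_iff.1 (ET' hE) a ha)
  have cov2 : ∀ y ∈ P, ∃ t ∈ T, t * y ∈ (P ⊔ T) ⊓ cen T' := by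
    choose f hf hf' using cov1
    let φ : T → P ⧸ E.subgroupOf P := fun t => QuotientGroup.mk ⟨f t.1 t.2, hf t.1 t.2⟩
    have inj : Function.Injective φ := fun t t' e => by
      have m : (f t.1 t.2)⁻¹ * f t'.1 t'.2 ∈ E := mem_subgroupOf.1 (QuotientGroup.eq.1 e)
      have k1 : t'.1 * f t'.1 t'.2 ∈ cen T' := (hf' t'.1 t'.2).1.2
      have k2 : t.1 * f t.1 t.2 ∈ cen T' := (hf' t.1 t.2).1.2
      have m2 := mul_mem (mul_mem k1 (inv_mem (ET' m))) (inv_mem k2)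
      have e2 : t'.1 * f t'.1 t'.2 * ((f t.1 t.2)⁻¹ * f t'.1 t'.2)⁻¹ * (t.1 * f t.1 t.2)⁻¹ =
          t'.1 * t.1⁻¹ := by group
      rw [e2] at m2
      exact Subtype.ext (mul_inv_eq_one.1 (triv _ (mul_mem t'.2 (inv_mem t.2)) m2)).symm
    have cT : Nat.card T = Nat.card E := by
      obtain ⟨g, -, rfl⟩ := ln.col.p2
      exact card_cj _ _
    have cP : Nat.card (P ⧸ E.subgroupOf P) = Nat.card E := by
      have h1 := (jln G Q E tg Q₁ T P ln).1
      rw [card_eq_card_quotient_mul_card_subgroup (E.subgroupOf P),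
        Nat.card_congr (subgroupOfEquivOfLe EP).toEquiv] at h1
      exact Nat.eq_of_mul_eq_mul_right Nat.card_pos h1
    have sur := (inj.bijective_of_nat_card_le (by rw [cT, cP])).2
    intro y hy
    obtain ⟨t, e⟩ := sur (QuotientGroup.mk ⟨y, hy⟩)
    have m : (f t.1 t.2)⁻¹ * y ∈ E := mem_subgroupOf.1 (QuotientGroup.eq.1 e)
    have := mul_mem (hf' t.1 t.2).1 (lE m)
    rw [show t.1 * f t.1 t.2 * ((f t.1 t.2)⁻¹ * y) = t.1 * y by group] at this
    exact ⟨t.1, t.2, this⟩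
  refine ⟨inf_le_left, s1.1, lE, cov1, cov2, fun x hx h2 => ?_, fun x hx => ?_⟩
  · obtain ⟨t, ht, y, hy, rfl⟩ := dec x hx
    by_cases hE : y ∈ E
    · exact Or.inl (mul_mem (mem_sup_right ht) (mem_sup_left hE))
    obtain ⟨t', ht', m⟩ := cov2 y hy
    have h3 := s1.1 _ m
    have i1 : t⁻¹ = t := inv_eq_of_mul_eq_one_right (elT t ht)
    have i2 : t'⁻¹ = t' := inv_eq_of_mul_eq_one_right (elT t' ht')
    have e1 : t * y * t⁻¹ = y⁻¹ := by
      rw [i1]; exact eq_inv_of_mul_eq_one_left (by rw [← h2]; group)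
    have e2 : t' * y * t'⁻¹ = y⁻¹ := by
      rw [i2]; exact eq_inv_of_mul_eq_one_left (by rw [← h3]; group)
    have e3 : t'⁻¹ * t = 1 := by
      by_contra h1
      refine ln.pg.nd y hy hE _ (mul_mem (inv_mem ht') ht) h1 ?_
      calc ⁅t'⁻¹ * t, y⁆ = t'⁻¹ * (t * y * t⁻¹) * t' * y⁻¹ := by
            simp only [commutatorElement_def]; group
        _ = t'⁻¹ * (t' * y * t'⁻¹) * t' * y⁻¹ := by rw [e1, e2]
        _ = 1 := by group
    rw [← inv_mul_eq_one.1 e3]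
    exact Or.inr m
  · obtain ⟨r, hr, t, ht, rfl⟩ :=
      (mem_sup_right_norm (le_normalizer_of_le_centralizer TE)).1 hx.2
    rw [triv t ht ((mul_mem_cancel_left (ET' hr)).1 hx.1.2), mul_one]
    exact hr

end H31.CBS2
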