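import Cfsg.Agent.H31.O7A
import Cfsg.Agent.H20.LD4Spec
import Cfsg.Agent.H56.SL2M3
import Cfsg.Agent.H94.GHDefs
import Cfsg.Agent.H92.MW5
import Cfsg.Agent.H10.WSpec
import Cfsg.Prelude.Def_Spor_J1

/-! O7 (blueprints/O7.md), chapter B: simple subgroups of `SO₇` without negative reflections. -/

set_option autoImplicit false
set_option linter.unusedVariables false

namespace H31.O7

open H56 QuadraticMap Module Cfsg Polynomial Subgroup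
open H20.LD (cp Heis E15)
open H56.SL2M (xx yy hh)
open scoped MatrixGroups commutatorElement

universe u

/-! ### Representations and spinors -/

section rep

variable {K : Type u} [Field K] {V : Type u} [AddCommGroup V] [Module K V] {Q : QuadraticForm K V}
  {S : Type u} [AddCommGroup S] [Module K S] {Γ : Type} [Group Γ]

/-- The standing hypothesis. -/
structure Rp (p : ℕ) (ρ : Γ →* O Q) : Prop where
  prime : p.Prime
  odd : p ≠ 2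
  char : CharP K p
  dim : finrank K V = 7
  nd : Q.polarBilin.Nondegenerate
  inj : Function.Injective ρ
  det : ∀ x, LinearMap.det (ρ x).lin = 1
  span : Submodule.span K (Set.range fun x => (ρ x).lin) = ⊤
  w24 : ∀ x, x ≠ 1 → x * x = 1 → (ρ x).rk = 2 ∨ (ρ x).rk = 4
  simple : IsSimpleGroup Γ
  nab : ¬ IsMulCommutative Γ

variable (Q) in
/-- The spin module. -/
structure Spin (β : QuadraticForm K S) (γ : V →ₗ[K] S →ₗ[K] S) : Prop where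
  two : (2 : K) ≠ 0
  dimV : finrank K V = 7
  ndV : Q.polarBilin.Nondegenerate
  dim : finrank K S = 8
  nd : β.polarBilin.Nondegenerate
  sq : ∀ v s, γ v (γ v s) = Q v • s
  skew : ∀ v s t, polar β (γ v s) t = -polar β s (γ v t)

/-- `G` lifts `g`. -/
def Lf (γ : V →ₗ[K] S →ₗ[K] S) (g : O Q) (G : S ≃ₗ[K] S) : Prop :=
  ∀ v s, G (γ v s) = γ (g v) (G s)

theorem Lf.one (γ : V →ₗ[K] S →ₗ[K] S) : Lf γ (1 : O Q) 1 := fun _ _ => rfl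

theorem Lf.mul {γ : V →ₗ[K] S →ₗ[K] S} {g h : O Q} {G H : S ≃ₗ[K] S} (a : Lf γ g G)
    (b : Lf γ h H) : Lf γ (g * h) (G * H) := fun v s => by
  rw [LinearEquiv.mul_apply, LinearEquiv.mul_apply, b, a, O.mul_apply]

theorem Lf.inv {γ : V →ₗ[K] S →ₗ[K] S} {g : O Q} {G : S ≃ₗ[K] S} (a : Lf γ g G) :
    Lf γ g⁻¹ G⁻¹ := fun v s => G.injective (by
  rw [a, O.apply_inv_apply]
  change G (G.symm _) = γ v (G (G.symm _))
  rw [G.apply_symm_apply, G.apply_symm_apply])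

/-- The stabiliser of the line of the spinor `s`. -/
def Fix (γ : V →ₗ[K] S →ₗ[K] S) (s : S) : Subgroup (O Q) where
  carrier := {g | ∃ G, Lf γ g G ∧ G s = s}
  one_mem' := ⟨1, Lf.one γ, rfl⟩
  mul_mem' := fun ⟨G, a, b⟩ ⟨H, c, d⟩ => ⟨G * H, a.mul c, by rw [LinearEquiv.mul_apply, d, b]⟩
  inv_mem' := fun ⟨G, a, b⟩ => ⟨G⁻¹, a.inv, G.injective (by
    change G (G.symm _) = _
    rw [G.apply_symm_apply, b])⟩

/-- The group fixes the line of a spinor. -/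
def FixS (γ : V →ₗ[K] S →ₗ[K] S) (ρ : Γ →* O Q) : Prop := ∃ s, s ≠ 0 ∧ ∀ x, ρ x ∈ Fix γ s

/-- An isometric lift of `z` has a fixed vector. -/
def Sp1 (β : QuadraticForm K S) (γ : V →ₗ[K] S →ₗ[K] S) (z : O Q) : Prop :=
  ∃ G : O β, Lf γ z G.1 ∧ ∃ s, s ≠ 0 ∧ G s = s

variable (Q) in
/-- A hyperbolic basis. -/
structure Hb (e : V) (v w : Fin 3 → V) : Prop where
  ee : Q e ≠ 0
  ev : ∀ i, polar Q e (v i) = 0
  ew : ∀ i, polar Q e (w i) = 0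
  vv : ∀ i j, polar Q (v i) (v j) = 0
  ww : ∀ i j, polar Q (w i) (w j) = 0
  vw : ∀ i j, polar Q (v i) (w j) = if i = j then 1 else 0

/-- `g` is diagonal. -/
def Dg (g : O Q) (e : V) (v w : Fin 3 → V) (l : Fin 3 → K) : Prop :=
  g e = e ∧ ∀ i, l i ≠ 0 ∧ g (v i) = l i • v i ∧ g (w i) = (l i)⁻¹ • w i

/-- `g` permutes the basis cyclically. -/
def Cy (g : O Q) (e : V) (v w : Fin 3 → V) : Prop :=
  g e = e ∧ ∀ i, g (v i) = v (i + 1) ∧ g (w i) = w (i + 1)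

/-- The basis of the spin module attached to a hyperbolic basis. -/
structure SB (β : QuadraticForm K S) (γ : V →ₗ[K] S →ₗ[K] S) (e : V) (v w : Fin 3 → V)
    (b : Basis (Finset (Fin 3)) K S) : Prop where
  pol : ∀ I J, polar β (b I) (b J) ≠ 0 ↔ J = Iᶜ
  diag : ∀ (g : O Q) (l : Fin 3 → K), Dg g e v w l → ∀ G : O β, Lf γ g G.1 →
    ∃ μ : K, μ ^ 2 = l 0 * l 1 * l 2 ∧ ∀ I, G (b I) = (μ * ∏ i ∈ I, (l i)⁻¹) • b I
  cyc : ∀ g : O Q, Cy g e v w → ∀ G : O β, Lf γ g G.1 →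
    ∃ c : K, G (b ∅) = c • b ∅ ∧ G (b Finset.univ) = c • b Finset.univ

variable (Q) in
/-- The spin kit. -/
structure Kit (β : QuadraticForm K S) (γ : V →ₗ[K] S →ₗ[K] S) : Prop where
  lift : ∀ g : O Q, LinearMap.det g.lin = 1 → ∃ G : O β, Lf γ g G.1
  det : ∀ (g : O Q) (G : O β), LinearMap.det g.lin = 1 → Lf γ g G.1 → LinearMap.det G.lin = 1
  uniq : ∀ (g : O Q) (G G' : S ≃ₗ[K] S), Lf γ g G → Lf γ g G' → ∃ c : K, ∀ s, G' s = c • G s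
  pm : ∀ (g : O Q) (G G' : O β), Lf γ g G.1 → Lf γ g G'.1 → G' = G ∨ G' = O.negOne β * G
  odd : ∀ (g : O Q) (n : ℕ), Odd n → g ^ n = 1 → ∃ G : O β, Lf γ g G.1 ∧ G ^ n = 1
  odd' : ∀ (g : O Q) (G G' : O β) (n m : ℕ), Odd n → Odd m → G ^ n = 1 → G' ^ m = 1 →
    Lf γ g G.1 → Lf γ g G'.1 → G' = G
  bas : ∀ e v w, Hb Q e v w → ∃ b, SB (Q := Q) β γ e v w b

/-- The eigenvectors of the subgroups of order eight. -/
def EV (ρ : Γ →* O Q) : Set V :=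
  {v | v ≠ 0 ∧ ∃ A : Subgroup Γ, Nat.card A = 8 ∧ ∀ a ∈ A, ∃ c : K, ρ a v = c • v}

end rep

/-! ### Configurations in abstract groups -/

section cfg

variable {Γ : Type*} [Group Γ]

/-- The quaternion group. -/
structure Q8 (i j : Γ) : Prop where
  sq : j * j = i * i
  cj : i * j * i⁻¹ = j⁻¹
  ne : i * i ≠ 1

/-- `2³ : 7`. -/
structure E7 (a g : Γ) : Prop where
  ne : a ≠ 1
  sq : a * a = 1
  c1 : Commute a (cp g 1 a)
  c2 : Commute a (cp g 2 a)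
  rel : cp g 3 a = a * cp g 1 a

/-- Three conjugates of `x` generate. -/
def G3 (x : Γ) : Prop := ∃ a b c, IsConj x a ∧ IsConj x b ∧ IsConj x c ∧ closure {a, b, c} = ⊤

/-- An involution which is forced to have weight four. -/
def Fr (z : Γ) : Prop :=
  z ≠ 1 ∧ z * z = 1 ∧ ((∃ i j, Q8 i j ∧ i * i = z) ∨ (∃ g, E7 z g) ∨ G3 z)

/-- The product of the three conjugates of `x` under `w` is trivial. -/
structure T3 (x w : Γ) : Prop where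
  w3 : w ^ 3 = 1
  comm : Commute x (cp w 1 x)
  prod : x * cp w 1 x * cp w 2 x = 1

/-- The alternating group of degree four. -/
structure A4 (z w : Γ) : Prop extends T3 z w where
  ne : z ≠ 1
  sq : z * z = 1

variable (Γ) in
/-- `Q₈ × 2`. -/
def Q2 : Prop :=
  ∃ i j c : Γ, Q8 i j ∧ c ≠ 1 ∧ c * c = 1 ∧ c ≠ i * i ∧ Commute c i ∧ Commute c j

variable (Γ) in
def CA : Prop :=
  ∃ z z' a b c d : Γ, z ≠ 1 ∧ z * z = 1 ∧ Commute z z' ∧ IsConj z z' ∧ IsConj z (z * z') ∧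
    (∀ x ∈ [a, b, c, d], Commute x z ∧ Commute x z') ∧ ⁅⁅a, b⁆, ⁅c, d⁆⁆ = z

/-- Two commuting copies of `SL₂(3)` with the same centre. -/
structure CD (i j y w : Γ) : Prop extends Q8 i j where
  yi : y * i * y⁻¹ = j
  yj : y * j * y⁻¹ = i * j
  wz : Commute w (i * i)
  ci : Commute (w * i * w⁻¹) i
  cj' : Commute (w * i * w⁻¹) j
  cy : Commute (w * i * w⁻¹) y

variable (Γ) in
def CL : Prop :=
  ∃ i j y w z : Γ, CD i j y w ∧ z ≠ 1 ∧ z * z = 1 ∧ z ≠ i * i ∧ Commute z (i * i) ∧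
    closure {g | ∃ c, (c * (i * i) * c⁻¹ = i * i ∨ c * (i * i) * c⁻¹ = z ∨
      c * (i * i) * c⁻¹ = i * i * z) ∧ g = c * i * c⁻¹} = ⊤

variable (Γ) in
/-- The configuration of `PSp₄(3)`. -/
def PS3 : Prop :=
  ∃ (i j y g : Γ) (k : ℕ), CD i j y (cp g k (i * i)) ∧ y ^ 3 = 1 ∧
    Commute (cp g k (i * i) * y * (cp g k (i * i))⁻¹) y ∧ g ^ 5 = 1 ∧
    (∀ m, Commute (i * i) (cp g m (i * i))) ∧ cp g k (i * i) ≠ i * i ∧
    i * i * cp g 1 (i * i) * cp g 2 (i * i) * cp g 3 (i * i) * cp g 4 (i * i) = 1 ∧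
    closure ({x | ∃ c, (c * (i * i) * c⁻¹ = i * i ∨ c * (i * i) * c⁻¹ = cp g k (i * i)) ∧
      x = c * i * c⁻¹} ∪ {y}) = ⊤

variable (Γ) in
/-- An abelian group of exponent `r` whose nontrivial characters have eight conjugates up to
inversion. -/
def W7 (r : ℕ) : Prop :=
  ∃ A : Subgroup Γ, A ≠ ⊥ ∧ (∀ a ∈ A, a ^ r = 1) ∧ (∀ a ∈ A, ∀ b ∈ A, a * b = b * a) ∧
    ∃ n : Fin 4 → Γ, (∀ i, ∀ a ∈ A, n i * a * (n i)⁻¹ ∈ A) ∧
      (∀ i j, i ≠ j → ∀ a ∈ A, ∃ b ∈ A, a = n i * b * (n i)⁻¹ * (n j * b * (n j)⁻¹)⁻¹) ∧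
      ∀ i j, ∀ a ∈ A, ∃ b ∈ A, a = n i * b * (n i)⁻¹ * (n j * b * (n j)⁻¹)

variable (Γ) in
/-- The obstruction in cross characteristic. -/
def Crs (r : ℕ) : Prop := W7 Γ r ∨ (5 ≤ r ∧ ∃ a b : Γ, Heis r a b)

variable (Γ) in
def X8 : Prop :=
  ∃ a g c : Γ, E7 a g ∧ Commute c a ∧ Commute c (cp g 1 a) ∧ Commute c (cp g 2 a) ∧ c * c ≠ 1

variable (Γ) in
def I5 : Prop := ∃ z w : Γ, A4 z w ∧ (closure {z, w}).index ≤ 6

variable (Γ) in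
def T33 : Prop :=
  ∃ a b : Γ, a ^ 3 = 1 ∧ Commute a b ∧ IsConj a b ∧
    (IsConj (a * b) (a * b⁻¹) ∨ IsConj (a * b) (a⁻¹ * b)) ∧ G3 a ∧ G3 (a * b)

variable (Γ) in
def C7 : Prop :=
  ∃ z w a : Γ, A4 z w ∧ Fr z ∧ Commute a z ∧ Commute a w ∧ IsConj w a

/-- Order seven or thirteen with an automizer of order three. -/
def Z7 (z : Γ) : Prop := (z ^ 7 = 1 ∧ IsConj z (z ^ 2)) ∨ (z ^ 13 = 1 ∧ IsConj z (z ^ 3))

variable (Γ) in
/-- A good `(2, 3)`-generation. -/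
def HZ (p : ℕ) : Prop :=
  ∃ x y : Γ, closure {x, y} = ⊤ ∧ x * x = 1 ∧ y ^ 3 = 1 ∧ Z7 (x * y) ∧
    (p = 3 ∨ ∃ t, IsConj x t ∧ A4 t y)

variable (Γ) in
/-- The configuration of `U₃(3)`. -/
def U33 : Prop :=
  ∃ x w t : Γ, T3 t w ∧ Fr (t * t) ∧ IsConj x (t * t) ∧ Z7 (x * w) ∧ t * t ∈ closure {x, w} ∧
    closure {x, w, t} = ⊤

/-- The configuration of `L₂(8)`. -/
structure C8 (a g n x y : Γ) : Prop extends E7 a g where
  g7 : g ^ 7 = 1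
  nn : n * n = 1
  ng : n * g * n⁻¹ = g⁻¹
  na : (n * a) ^ 3 = 1
  card : Nat.card (closure {a, cp g 1 a, cp g 2 a} : Subgroup Γ) = 8
  syl : ∀ A : Subgroup Γ, Nat.card A = 8 → A = closure {a, cp g 1 a, cp g 2 a} ∨
    ∃ c ∈ closure {a, cp g 1 a, cp g 2 a},
      A = (closure {a, cp g 1 a, cp g 2 a}).map (MulAut.conj (c * n)).toMonoidHom
  gen : closure {x, y} = ⊤
  cx : IsConj a x
  cy : IsConj (n * a) y
  cz : ∃ k, ¬ 7 ∣ k ∧ IsConj (g ^ k) (x * y)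

/-- The second torus acts on `φ(SL₂)` by diagonal automorphisms. -/
def Fac {F : Type} [Field F] (φ : SL(2, F) →* Γ) (t : Fˣ → Γ) : Prop :=
  ∀ (s : Fˣ) (a : F), t s * φ (xx a) * (t s)⁻¹ = φ (xx ((s⁻¹ : Fˣ) * a)) ∧
    t s * φ (yy a) * (t s)⁻¹ = φ (yy (s * a))

variable (Γ) in
/-- The split configuration (`L₃(r)`, `G₂(r)`). -/
def TLs (p : ℕ) : Prop :=
  ∃ (F : Type) (_ : Field F) (_ : Fintype F), CharP F p ∧ 5 ≤ Fintype.card F ∧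
    ∃ (φ ψ : SL(2, F) →* Γ) (w : Γ), φ (-1) ≠ 1 ∧ (∀ s, T3 (φ (hh s)) w) ∧
      Fac φ (fun s => cp w 1 (φ (hh s))) ∧ Fac ψ (fun s => cp w 1 (φ (hh s))) ∧
      (∀ g g', Commute (φ g) (ψ g')) ∧
      (∀ s, ψ (hh s) ∈ closure {x | ∃ s', x = φ (hh s') ∨ x = cp w 1 (φ (hh s'))}) ∧
      φ.range ⊔ ψ.range ⊔ zpowers w = ⊤

variable (Γ) in
/-- The non-split configuration (`U₃(r)`, Ree groups). -/
def TLn (p : ℕ) : Prop :=
  ∃ (F : Type) (_ : Field F) (_ : Fintype F), CharP F p ∧ 5 ≤ Fintype.card F ∧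
    ∃ (φ : SL(2, F) →* Γ) (y : SL(2, F)) (w : Γ) (m k : ℕ), orderOf y = Fintype.card F + 1 ∧
      T3 (φ y) w ∧ Fr (φ y ^ m) ∧ (∀ g, Commute (φ g) (cp w k (φ y ^ m))) ∧
      φ.range ⊔ zpowers w = ⊤

variable (Γ) in
/-- An element of odd order of `φ(SL₂)` which centralises an alternating group of degree four. -/
def KC (p : ℕ) : Prop :=
  ∃ (F : Type) (_ : Field F) (_ : Fintype F), CharP F p ∧
    ∃ (φ : SL(2, F) →* Γ) (y : SL(2, F)) (z w : Γ), A4 z w ∧ Fr z ∧ φ y ≠ 1 ∧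
      Odd (orderOf (φ y)) ∧ Commute (φ y) z ∧ Commute (φ y) w ∧
      ((p = 3 ∧ φ (-1) = 1 ∧ ¬ 3 ∣ orderOf y) ∨
        (φ (-1) = z ∧ ∃ (r : ℕ) (s : Fˣ), Fintype.card F = r ^ 3 ∧ y = hh s ∧
          orderOf s = r ^ 2 + r + 1))

end cfg

/-! ### Binders -/

/-- Spin modules over algebraically closed fields. -/
def AllP (P : ∀ (K : Type u) [Field K] (V : Type u) [AddCommGroup V] [Module K V]
    [FiniteDimensional K V] (Q : QuadraticForm K V) (S : Type u) [AddCommGroup S] [Module K S],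
    QuadraticForm K S → (V →ₗ[K] S →ₗ[K] S) → Prop) : Prop :=
  ∀ (K : Type u) [Field K] [IsAlgClosed K] (V : Type u) [AddCommGroup V] [Module K V]
    [FiniteDimensional K V] (Q : QuadraticForm K V) (S : Type u) [AddCommGroup S] [Module K S]
    [FiniteDimensional K S] (β : QuadraticForm K S) (γ : V →ₗ[K] S →ₗ[K] S), Spin Q β γ →
    P K V Q S β γ

/-- Representations over any field. -/
def AllF (P : ∀ (p : ℕ) (K : Type u) [Field K] (V : Type u) [AddCommGroup V] [Module K V]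
    (Q : QuadraticForm K V) (Γ : Type) [Group Γ], (Γ →* O Q) → Prop) : Prop :=
  ∀ (p : ℕ) (K : Type u) [Field K] (V : Type u) [AddCommGroup V] [Module K V]
    [FiniteDimensional K V] (Q : QuadraticForm K V) (Γ : Type) [Group Γ] [Finite Γ]
    (ρ : Γ →* O Q), Rp p ρ → P p K V Q Γ ρ

/-- Representations over algebraically closed fields. -/
def AllK (P : ∀ (p : ℕ) (K : Type u) [Field K] (V : Type u) [AddCommGroup V] [Module K V]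
    (Q : QuadraticForm K V) (Γ : Type) [Group Γ], (Γ →* O Q) → Prop) : Prop :=
  AllF.{u} fun p K _ V _ _ Q Γ _ ρ => IsAlgClosed K → P p K V Q Γ ρ

/-- Under the condition `C` the group fixes the line of a spinor. -/
def AllS (C : ∀ (p : ℕ) (K : Type u) [Field K] (V : Type u) [AddCommGroup V] [Module K V]
    (Q : QuadraticForm K V) (Γ : Type) [Group Γ], (Γ →* O Q) → Prop) : Prop :=
  AllK.{u} fun p K _ V _ _ Q Γ _ ρ => ∀ (S : Type u) [AddCommGroup S] [Module K S]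
    [FiniteDimensional K S] (β : QuadraticForm K S) (γ : V →ₗ[K] S →ₗ[K] S), Spin Q β γ →
    C p K V Q Γ ρ → FixS γ ρ

/-! ### Jobs on spinors -/

def JobSK : Prop := AllP.{u} fun _ _ _ _ _ _ Q _ _ _ β γ => Kit Q β γ

/-- Lifting of `SL₂`. -/
def LFs : Prop := AllP.{u} fun K _ _ _ _ _ Q _ _ _ β γ =>
  ∀ (p : ℕ) (F : Type) [Field F] [Fintype F], CharP K p → CharP F p →
    ∀ φ : SL(2, F) →* O Q, ∃ φ' : SL(2, F) →* O β, ∀ g, Lf γ (φ g) (φ' g).1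

def JobLF : Prop := JobSK.{u} → LFs.{u}

/-- Semisimple elements are diagonal. -/
def JobDG : Prop := AllQ.{u} fun K _ V _ _ Q => IsAlgClosed K → (2 : K) ≠ 0 →
  Q.polarBilin.Nondegenerate → finrank K V = 7 → ∀ (g : O Q) (n : ℕ), (n : K) ≠ 0 → g ^ n = 1 →
    LinearMap.det g.lin = 1 → ∃ e v w l, Hb Q e v w ∧ Dg g e v w l

/-- Criteria for `Sp1`. -/
def SPs : Prop := AllP.{u} fun K _ _ _ _ _ Q _ _ _ β γ =>
  ∀ z : O Q, LinearMap.det z.lin = 1 →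
    (∀ p k : ℕ, CharP K p → p ≠ 0 → z ^ p ^ k = 1 → Sp1 β γ z) ∧
    (∀ (n : ℕ) (a : Fin 3 → K), (n : K) ≠ 0 → z ^ n = 1 → a 0 * a 1 * a 2 = 1 →
      z.lin.charpoly = (X - C 1) * ∏ i, ((X - C (a i)) * (X - C (a i)⁻¹)) → Sp1 β γ z) ∧
    (z ^ 7 = 1 → z.lin.charpoly = (z ^ 2).lin.charpoly → Sp1 β γ z) ∧
    (z ^ 13 = 1 → z.lin.charpoly = (z ^ 3).lin.charpoly → Sp1 β γ z)

def JobSP : Prop := JobSK.{u} → JobDG.{u} → SPs.{u}

/-- Scott's lemma. -/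
def JobSct : Prop := AllQ.{u} fun K _ V _ _ Q => Q.polarBilin.Nondegenerate →
  ∀ x y : O Q, x.rk + y.rk + (x * y).rk < 2 * finrank K V → ∃ s, s ≠ 0 ∧ x s = s ∧ y s = s

/-- Scott's lemma on the spin module. -/
def SCs : Prop := AllP.{u} fun K _ _ _ _ _ Q _ _ _ β γ =>
  ∀ x y : O Q, x * x = 1 → x.rk = 4 → y ^ 3 = 1 → ((3 : K) = 0 ∨ y.rk = 4) → Sp1 β γ (x * y) →
    ∃ s, s ≠ 0 ∧ x ∈ Fix γ s ∧ y ∈ Fix γ s

def JobSC : Prop := JobSK.{u} → JobDG.{u} → JobSct.{u} → SCs.{u}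

/-! ### Jobs on representations -/

/-- Weight four. -/
def JobW4 : Prop := AllF.{u} fun _ _ _ _ _ _ _ Γ _ ρ =>
  (∀ x : Γ, G3 x → 3 ≤ (ρ x).rk) ∧ (∀ z : Γ, Fr z → (ρ z).rk = 4) ∧ ¬ Q2 Γ ∧ ¬ CA Γ ∧ ¬ X8 Γ ∧
    ¬ E15 Γ

def JobCL : Prop := JobW4.{u} → AllF.{u} fun _ _ _ _ _ _ _ Γ _ _ => ¬ CL Γ ∧ ¬ PS3 Γ

def JobWT : Prop := JobW4.{u} → AllK.{u} fun p _ _ _ _ _ _ Γ _ _ =>
  (∀ r : ℕ, r.Prime → r ≠ p → ¬ Crs Γ r) ∧ ¬ I5 Γ ∧ (p ≠ 3 → ¬ T33 Γ)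

/-- Elements of order three which centralise `A₄`. -/
def JobC7 : Prop := AllF.{u} fun _ _ _ _ _ _ _ Γ _ ρ =>
  ∀ z w : Γ, A4 z w → (ρ z).rk = 4 → (ρ w).rk = 4 ∧
    ∀ a : Γ, a ≠ 1 → a ^ 3 = 1 → Commute a z → Commute a w → (ρ a).rk = 6

/-- The basis adapted to `A₄`. -/
def JobTL0 : Prop := AllK.{u} fun _ K _ _ _ _ Q Γ _ ρ =>
  ∀ z w : Γ, A4 z w → (ρ z).rk = 4 → ∃ e v v', Hb Q e v v' ∧ Cy (ρ w) e v v' ∧
    Dg (ρ z) e v v' ![1, -1, -1] ∧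
    (∀ a : Γ, Commute a z → Commute a (cp w 1 z) → Odd (orderOf a) →
      ∃ l, Dg (ρ a) e v v' l) ∧
    ∀ (x : Γ) (m : ℕ), x ^ m = z → T3 x w → ∃ l, Dg (ρ x) e v v' l ∧ l 0 * l 1 * l 2 = 1

def JobSR4 : Prop := AllK.{u} fun _ _ _ _ _ _ _ Γ _ _ => SectionalPRankLE 2 4 Γ

/-- Alternating groups. -/
def JobAN : Prop := JobC7.{u} → AllF.{u} fun _ K _ V _ _ Q Γ _ ρ =>
  ∀ (n : ℕ) (e : Γ ≃* alternatingGroup (Fin n)), 8 ≤ n → ∃ (x : Fin n → V) (N : K),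
    Sx Q x N ∧ SL Q (RA x) N ∧ Submodule.span K (RA x) = ⊤ ∧
      ∀ g i j, ρ g (x i - x j) = x ((e g).1 i) - x ((e g).1 j)

/-- `L₂(8)` in the Weyl group of type `E₇`. -/
def JobL28 : Prop := AllF.{u} fun p K _ V _ _ Q Γ _ ρ =>
  ∀ a g n x y : Γ, C8 a g n x y → p ≠ 3 → (ρ y).rk = 6 → ∃ (b : Fin 8 → V) (N : K), N ≠ 0 ∧
    Sx Q b N ∧ RE (K := K) b ⊆ EV ρ ∧ ∀ v ∈ EV ρ, ∃ r ∈ RE (K := K) b, ∃ c : K, v = c • r

def JobH28 : Prop := JobW4.{u} → JobSct.{u} → SPs.{u} → SCs.{u} →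
  AllS.{u} fun p _ _ _ _ _ _ Γ _ ρ => ∃ a g n x y : Γ, C8 a g n x y ∧ (p = 3 ∨ (ρ y).rk ≠ 6)

def JobH : Prop := JobSK.{u} → JobW4.{u} → JobC7.{u} → JobTL0.{u} → SPs.{u} → SCs.{u} →
  AllS.{u} fun p _ _ _ _ _ _ Γ _ _ => HZ Γ p ∨ U33 Γ

/-- Macbeath generators. -/
def JobMac : Prop :=
  ∀ (F : Type) [Field F] [Fintype F] (p : ℕ) [CharP F p], 7 ≤ p → ∃ x y : SL(2, F),
    x.1.trace = 0 ∧ y.1.trace = -1 ∧ closure {(x : PSL(2, F)), (y : PSL(2, F))} = ⊤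

/-- `L₂(r)` in the defining characteristic. -/
def JobL2D : Prop := JobMac → JobW4.{u} → JobDG.{u} → SPs.{u} → SCs.{u} →
  AllS.{u} fun p _ _ _ _ _ _ Γ _ _ => ∃ (F : Type) (_ : Field F) (_ : Fintype F), CharP F p ∧
    Nonempty (Γ ≃* PSL(2, F))

/-- The data on a four dimensional orthogonal space. -/
structure O4 {K : Type u} [Field K] {W : Type u} [AddCommGroup W] [Module K W]
    (q : QuadraticForm K W) (b b' : W) : Prop where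
  two : (2 : K) ≠ 0
  dim : finrank K W = 4
  nd : q.polarBilin.Nondegenerate
  qb : q b = 0
  qb' : q b' = 0
  ne : polar q b b' ≠ 0

/-- The split case in dimension four. -/
def JobO4s : Prop := AllQ.{u} fun K _ W _ _ q => ∀ b b' : W, O4 q b b' →
  ∀ (p : ℕ) (F : Type) [Field F] [Fintype F], CharP K p → CharP F p → 5 ≤ Fintype.card F →
    ∀ (φ : SL(2, F) →* O q) (t : Fˣ →* O q) (ξ : Fˣ →* Kˣ), Fac φ t →
      (∀ s, t s b = (ξ s : K) • b ∧ t s b' = ((ξ s)⁻¹ : Kˣ) • b' ∧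
        ∀ x, polar q x b = 0 → polar q x b' = 0 → t s x = x) →
      (∀ s, ∃ c : K, ∀ x, polar q x b = 0 → polar q x b' = 0 → φ (hh s) x = c • x) →
      (∀ g, φ g = 1) ∨ ∃ x, x ≠ 0 ∧ polar q x b = 0 ∧ polar q x b' = 0 ∧
        ∀ x', (∀ g, φ g x' = x') ↔ ∃ c : K, x' = c • x

/-- The non-split case in dimension four. -/
def JobO4n : Prop := AllQ.{u} fun K _ W _ _ q => IsAlgClosed K → ∀ b b' : W, O4 q b b' →
  ∀ (p : ℕ) (F : Type) [Field F] [Fintype F], CharP K p → CharP F p → 5 ≤ Fintype.card F →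
    ∀ (φ : SL(2, F) →* O q) (y : SL(2, F)) (c l : K), orderOf y = Fintype.card F + 1 →
      φ y b = l • b → (∃ l' : K, φ y b' = l' • b') →
      (∀ x, polar q x b = 0 → polar q x b' = 0 → φ y x = c • x) →
      ∃ x, x ≠ 0 ∧ polar q x b = 0 ∧ polar q x b' = 0 ∧ ∀ g, φ g x = x

def JobTL : Prop := JobSK.{u} → LFs.{u} → JobW4.{u} → JobTL0.{u} → JobO4s.{u} → JobO4n.{u} →
  AllS.{u} fun p _ _ _ _ _ _ Γ _ _ => TLs Γ p ∨ TLn Γ p

def JobKC : Prop := JobW4.{u} → JobTL0.{u} → AllK.{u} fun p _ _ _ _ _ _ Γ _ _ => ¬ KC Γ p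

/-! ### Jobs on concrete groups -/

def JobMSyl : Prop :=
  ∀ (Γ : Type) [Group Γ] [Finite Γ] (S : Subgroup Γ), (∃ n r a s, H94.GH.SW S n r a s) ∨
    H94.GH.IsU S ∨ H94.GH.IsUφ S ∨ H94.GH.IsUφτ S ∨ H92.MW.J2Type Γ → Q2 Γ

/-- The obstruction `W7` from `SL₂`. -/
def JobMW : Prop :=
  ∀ (F : Type) [Field F] [Fintype F] (r : ℕ) [CharP F r] (Γ : Type) [Group Γ]
    (φ : SL(2, F) →* Γ), r ≠ 2 →
    (φ (xx 1) ≠ 1 → (Fintype.card F % 4 = 3 ∧ 11 ≤ Fintype.card F ∨ 17 ≤ Fintype.card F) →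
      W7 Γ r) ∧
    ∀ u : F → F → Γ, (∀ a b c d, u (a + c) (b + d) = u a b * u c d) → (∃ a b, u a b ≠ 1) →
      (∀ t a b, φ (xx t) * u a b * (φ (xx t))⁻¹ = u (a + t * b) b) →
      (∀ t a b, φ (yy t) * u a b * (φ (yy t))⁻¹ = u a (b + t * a)) → W7 Γ r

def JobML2 : Prop :=
  ∀ (F : Type) [Field F] [Fintype F], (Fintype.card F = 5 → I5 PSL(2, F)) ∧
    (Fintype.card F = 7 ∨ Fintype.card F = 13 → ∀ p, HZ PSL(2, F) p) ∧
    (Fintype.card F = 9 → T33 PSL(2, F))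

def JobML28 : Prop :=
  ∀ (F : Type) [Field F] [Fintype F], Fintype.card F = 8 → ∃ a g n x y : PSL(2, F), C8 a g n x y

def JobMEv : Prop :=
  ∀ (F : Type) [Field F] [Fintype F], (Fintype.card F = 8 → X8 (Lie.Sz F 4)) ∧
    (Fintype.card F = 16 → CA (PSU 3 F 4))

def JobMPm : Prop :=
  C7 (alternatingGroup (Fin 7)) ∧ (W7 Spor.M12 11 ∧ W7 Spor.M12 3) ∧
    ∀ (Γ : Type) [Group Γ] [Finite Γ], IsM11 Γ → W7 Γ 11 ∧ W7 Γ 3

def JobMJ1 : Prop := ∀ p, HZ Spor.J1 p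

def JobML3 : Prop := JobMW →
  ∀ (F : Type) [Field F] [Fintype F] (r : ℕ) [CharP F r], r ≠ 2 → W7 PSL(3, F) r ∧
    (3 < Fintype.card F → TLs PSL(3, F) r) ∧ (Fintype.card F = 3 → HZ PSL(3, F) 3)

def JobMU3 : Prop :=
  ∀ (K : Type) [Field K] [Fintype K] (q r : ℕ) [CharP K r], Fintype.card K = q ^ 2 → Odd q →
    q ≠ 3 → Crs (PSU 3 K q) r ∧ TLn (PSU 3 K q) r

def JobMU33 : Prop :=
  ∀ (K : Type) [Field K] [Fintype K], Fintype.card K = 3 ^ 2 → U33 (PSU 3 K 3)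

def JobMG2 : Prop := JobMW →
  ∀ (F : Type) [Field F] [Fintype F] (r : ℕ) [CharP F r], r ≠ 2 →
    W7 (Lie.chevG2.group F) r ∧ (3 < Fintype.card F → TLs (Lie.chevG2.group F) r)

def JobMG23 : Prop :=
  ∀ (F : Type) [Field F] [Fintype F], Fintype.card F = 3 → HZ (Lie.chevG2.group F) 3

def JobMD4 : Prop := JobMW →
  ∀ (K : Type) [Field K] [Fintype K] (q r : ℕ) [CharP K r], Odd q → Fintype.card K = q ^ 3 →
    W7 (Lie.twistedD4 K q) r ∧ KC (Lie.twistedD4 K q) r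

def JobMJR : Prop := JobMW →
  ∀ (Γ : Type) [Group Γ] [Finite Γ], H10.W.IsJR Γ →
    Spor.IsoJ1 Γ ∨ (W7 Γ 3 ∧ (TLn Γ 3 ∨ KC Γ 3))

def JobMS4 : Prop :=
  ∀ (F : Type) [Field F] [Fintype F], Odd (Fintype.card F) → 3 < Fintype.card F → CL (PSp 2 F)

def JobMS43 : Prop := ∀ (F : Type) [Field F] [Fintype F], Fintype.card F = 3 → PS3 (PSp 2 F)

def JobML4 : Prop :=
  ∀ (F : Type) [Field F] [Fintype F], Fintype.card F % 4 = 3 → CL PSL(4, F)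

def JobMU4 : Prop :=
  ∀ (K : Type) [Field K] [Fintype K] (q : ℕ), Fintype.card K = q ^ 2 → q % 4 = 1 →
    CL (PSU 4 K q)

end H31.O7
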