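import Cfsg.Agent.H2.PrSpec2
import Cfsg.Agent.H45.MO2
import Cfsg.Agent.H45.TwoP

/-! A simple group with a self-centralising subgroup of order 19 and automiser of order 3 has no
character of degree 256 with a small sum on the 19-elements. -/

set_option autoImplicit false
set_option linter.unusedSectionVars false

namespace H31.P19

open Cfsg H28 H29 H35 H39 H45 H45.MO H87 Subgroup

theorem isSquare_of {A w N : ℤ} (hw : w ≠ 0) (h : A ^ 2 = N * w ^ 2) : ∃ c : ℤ, c ^ 2 = N := by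
  obtain ⟨c, rfl⟩ : w ∣ A := (Int.pow_dvd_pow_iff two_ne_zero).1 ⟨N, by rw [h, mul_comm]⟩
  exact ⟨c, mul_right_cancel₀ (pow_ne_zero 2 hw) (by rw [← h]; ring)⟩

theorem not_sq {c N r : ℤ} (h : c ^ 2 = N) (h1 : r ^ 2 < N) (h2 : N < (r + 1) ^ 2) (hr : 0 ≤ r) :
    False := by
  have h3 : |c| ^ 2 = N := by rw [sq_abs, h]
  have h4 := abs_nonneg c
  rcases le_or_gt |c| r with h5 | h5 <;> nlinarith

theorem arith_sq {n2 n3 n4 u2 u3 u4 : ℤ} (hn : 1 + n2 + n3 + n4 = 0) (hu : 1 + u2 + u3 + u4 = 0)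
    (h : n2 * n3 * n4 + u2 ^ 2 * n3 * n4 + u3 ^ 2 * n2 * n4 + u4 ^ 2 * n2 * n3 = 0)
    (h3 : u3 ≠ n3) : ∃ c : ℤ, c ^ 2 = n2 * n3 * n4 := by
  refine isSquare_of (w := u3 - n3) (A := n3 * (n2 + n4) * (u2 - n2) + n2 * n3 * (u3 - n3))
    (sub_ne_zero.2 h3) ?_
  obtain rfl : n4 = -1 - n2 - n3 := by omega
  obtain rfl : u4 = -1 - u2 - u3 := by omega
  linear_combination (-n3 * (1 + n3)) * h

theorem arith_deg {a b x b2 b3 S : ℕ} {c : ℤ} (ha : a % 19 = 1) (ha1 : a ≠ 1) (hb : b % 19 = 18)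
    (hx : x % 19 = 3) (hd : x + b = 1 + a) (hc : c ^ 2 = a * b * x)
    (h1 : 6 * b2 = 10 + S + 6 * b3) (h2 : 1 + b2 * a + b3 * b + S * x ≤ 256) :
    a = 77 ∧ b = 56 ∧ x = 22 := by
  have h3 : 2 * a ≤ b2 * a := Nat.mul_le_mul_right _ (by omega)
  have h4 : 2 * x ≤ S * x := Nat.mul_le_mul_right _ (by omega)
  have h5 : (x = 3 ∧ (a = 20 ∨ a = 39 ∨ a = 58 ∨ a = 77 ∨ a = 96 ∨ a = 115)) ∨
      (x = 22 ∧ (a = 39 ∨ a = 58 ∨ a = 77 ∨ a = 96)) ∨ (x = 41 ∧ (a = 58 ∨ a = 77)) := by omega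
  obtain rfl : b = 1 + a - x := by omega
  rcases h5 with ⟨rfl, rfl | rfl | rfl | rfl | rfl | rfl⟩ | ⟨rfl, rfl | rfl | rfl | rfl⟩ |
    ⟨rfl, rfl | rfl⟩
  · exact (not_sq hc (r := 32) (by norm_num) (by norm_num) (by norm_num)).elim
  · exact (not_sq hc (r := 65) (by norm_num) (by norm_num) (by norm_num)).elim
  · exact (not_sq hc (r := 98) (by norm_num) (by norm_num) (by norm_num)).elim
  · exact (not_sq hc (r := 131) (by norm_num) (by norm_num) (by norm_num)).elim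
  · exact (not_sq hc (r := 164) (by norm_num) (by norm_num) (by norm_num)).elim
  · exact (not_sq hc (r := 197) (by norm_num) (by norm_num) (by norm_num)).elim
  · exact (not_sq hc (r := 124) (by norm_num) (by norm_num) (by norm_num)).elim
  · exact (not_sq hc (r := 217) (by norm_num) (by norm_num) (by norm_num)).elim
  · exact ⟨rfl, rfl, rfl⟩
  · exact (not_sq hc (r := 397) (by norm_num) (by norm_num) (by norm_num)).elim
  · exact (not_sq hc (r := 206) (by norm_num) (by norm_num) (by norm_num)).elim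
  · exact (not_sq hc (r := 341) (by norm_num) (by norm_num) (by norm_num)).elim

variable {G : Type*} [Group G] [Fintype G] {X Y : Finset (IrrCharacter G)}
  {δ : IrrCharacter G → ℤ} {ε : ℤ}

/-- Seven irreducible characters cannot all be `1` on the `7`-singular elements. -/
theorem seven (h7 : 7 ∣ Nat.card G) (h49 : ¬ 7 ^ 2 ∣ Nat.card G) (T : Finset (IrrCharacter G))
    (hT : T.card = 7) (h1 : ∀ ψ ∈ T, ∀ g, 7 ∣ orderOf g → (ψ : G → ℂ) g = 1) : False := by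
  classical
  have : Fact (Nat.Prime 7) := ⟨by norm_num⟩
  obtain ⟨Q⟩ : Nonempty (Sylow 7 G) := inferInstance
  have hQ : Nat.card Q = 7 := by
    have h2 := (Nat.Prime.dvd_iff_one_le_factorization (by norm_num) Nat.card_pos.ne').1 h7
    have h3 := mt (Nat.Prime.pow_dvd_iff_le_factorization (p := 7) (k := 2) (by norm_num)
      Nat.card_pos.ne').2 h49
    rw [Q.card_eq_multiplicity, show (Nat.card G).factorization 7 = 1 by omega, pow_one]
  obtain ⟨t, X, Y, δ, ε, h⟩ := exists_br H37.cycK Q hQ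
  generalize (centralizer ((Q : Subgroup G) : Set G)).relIndex
    (normalizer ((Q : Subgroup G) : Set G)) = e at h
  have h2 : ∀ ψ ∈ T, sI t X Y δ ε ψ = t := fun ψ hψ => by
    have h2 := h.inner_sg_of_const (h1 ψ hψ)
    rw [← sS_apply, br_sS h, one_mul] at h2
    exact_mod_cast h2
  have ht := h.t_pos
  have h3 : T ⊆ X ∪ Y := fun ψ hψ => by
    by_contra h3
    rw [Finset.mem_union, not_or] at h3
    have := h2 ψ hψ
    rw [sI, if_neg h3.1, if_neg h3.2] at this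
    omega
  have h4 : (X ∪ Y).card ≤ T.card := by
    rw [Finset.card_union_of_disjoint h.disj, h.cardX, h.cardY, hT]
    have h4 := h.te
    have h5 := h.e_pos
    nlinarith [Nat.mul_le_mul (show 1 ≤ t from ht) (show 1 ≤ e from h5),
      Nat.zero_le ((t - 1) * (e - 1)), Nat.sub_add_cancel (show 1 ≤ t from ht),
      Nat.sub_add_cancel (show 1 ≤ e from h5)]
  obtain rfl := Finset.eq_of_subset_of_card_le h3 h4
  obtain ⟨θ, hθ⟩ := h.Y_nonempty
  have h5 := h2 θ (Finset.mem_union_right _ hθ)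
  rw [sI, if_neg (Finset.disjoint_right.1 h.disj hθ), if_pos hθ] at h5
  have h6 := h.deg_eq hθ
  have h7 : 0 ≤ ∑ χ ∈ X, δ χ * dg χ := Finset.sum_nonneg fun χ hχ => by
    have h8 := h2 χ (Finset.mem_union_left _ hχ)
    rw [sI, if_pos hχ] at h8
    rcases h.sδ χ with h9 | h9 <;> rw [h9] at h8 ⊢
    · positivity
    · omega
  have h8 := dg_pos θ
  rw [← h6, show ε = -1 by rcases h.sε with h9 | h9 <;> omega] at h7
  omega

theorem rat_X {p e t : ℕ} (h : Br p e t X Y δ ε) (ht : t ≠ 1) {χ : IrrCharacter G} (hχ : χ ∈ X)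
    (hu : ∀ ψ ∈ X, dg ψ = dg χ → ψ = χ) (g : G) : (iv χ g : ℂ) = χ.1 g := by
  refine coe_iv (exists_int_of_forall_fixed (χ.2.isCharacter.isIntegral g) fun σ => ?_)
  have h1 := br_mem_of_const h (ξ := ⟨_, H29.Cfsg.IsIrrCharacter.gal χ.2 (σ : ℂ →+* ℂ)⟩)
    (c := δ χ) (by rcases h.sδ χ with h1 | h1 <;> simp [h1])
    (fun g hg => by simp [h.valX χ hχ g hg]) ht
  exact congrFun (congrArg Subtype.val (hu _ h1 (charDegree_congr (by simp [← coe_dg])))) g

theorem cong_princ {q : ℕ} {M : Ideal AlgInt} [M.IsMaximal] (hM : IsPModular q M)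
    {χ : IrrCharacter G} (hχ : χ ∈ principalBlock M G) {x : G}
    (hx : ¬ q ∣ (centralizer ({x} : Set G)).index) (hi : (iv χ x : ℂ) = χ.1 x) {k : ℕ}
    (hd : dg χ = q * k) : ((q : ℤ) * q) ∣ iv χ x - dg χ := by
  have h1 := P_mul_left (inv_natCast_mem_S hM hx) (hχ x)
  have h0 : ((centralizer ({x} : Set G)).index : ℂ) ≠ 0 := Nat.cast_ne_zero.2 fun h => hx (h ▸ dvd_zero q)
  have hq : (q : ℂ) ≠ 0 := Nat.cast_ne_zero.2 hM.1.ne_zero
  have hk : (k : ℂ) ≠ 0 := Nat.cast_ne_zero.2 fun h => (dg_pos χ).ne' (by rw [hd, h, mul_zero])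
  have h2 := P_mul_left (natCast_mem (S M) k) h1
  have h3 : (k : ℂ) * (((centralizer ({x} : Set G)).index : ℂ)⁻¹ *
      (centralChar (fun _ : G => (1 : ℂ)) x - centralChar χ.1 x)) =
      ((dg χ - iv χ x : ℤ) : ℂ) / q := by
    rw [centralChar, centralChar, ← hi, ← coe_dg, hd]
    push_cast
    field_simp
  rw [h3] at h2
  obtain ⟨m, hm⟩ := (intCast_div_pow_mem_S_iff hM (a := dg χ - iv χ x) (k := 1)).1
    (by simpa using P_mem_S h2)
  rw [hm, pow_one, Int.cast_mul, Int.cast_natCast, mul_div_cancel_left₀ _ hq,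
    P_intCast_iff hM] at h2
  obtain ⟨m', rfl⟩ := h2
  exact ⟨-m', by linear_combination -hm⟩

theorem exists_cen {q : ℕ} [hq : Fact q.Prime] (h : q ∣ Nat.card G) :
    ∃ x : G, orderOf x = q ∧ ¬ q ∣ (centralizer ({x} : Set G)).index := by
  obtain ⟨Q⟩ : Nonempty (Sylow q G) := inferInstance
  have : Nontrivial Q := (Q : Subgroup G).nontrivial_iff_ne_bot.2 (Q.ne_bot_of_dvd_card h)
  have := Q.isPGroup'.center_nontrivial
  obtain ⟨n, hn0, hn⟩ := (Q.isPGroup'.to_subgroup (center Q)).nontrivial_iff_card.1 this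
  obtain ⟨z, hz⟩ := exists_prime_orderOf_dvd_card' (G := center Q) q
    (hn ▸ dvd_pow_self q hn0.ne')
  refine ⟨z, by rw [orderOf_coe, orderOf_coe, hz], fun h1 => Q.not_dvd_index (h1.trans
    (index_dvd_of_le fun y hy => mem_centralizer_singleton_iff.2 ?_))⟩
  exact congrArg Subtype.val (mem_center_iff.1 z.2 ⟨y, hy⟩)

variable [IsSimpleGroup G] [Fact (Nat.Prime 19)] {P : Sylow 19 G}

theorem endgame (hna : ¬ IsMulCommutative G) (hC : Cpl P ⊥)
    (he : (Cen (P : Subgroup G)).relIndex (Nor (P : Subgroup G)) = 3) (h : Br 19 3 6 X Y δ 1)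
    {χ ψ : IrrCharacter G} (hX : X = {one G, χ, ψ}) (h1 : δ χ = 1) (h2 : δ ψ = -1)
    (d1 : dg χ = 77) (d2 : dg ψ = 56) (d3 : ∀ θ ∈ Y, dg θ = 22) : False := by
  classical
  have : Fact (Nat.Prime 7) := ⟨by norm_num⟩
  have n1 : one G ≠ χ := fun e => by rw [← e, dg_one] at d1; omega
  have n2 : one G ≠ ψ := fun e => by rw [← e, dg_one] at d2; omega
  have n3 : χ ≠ ψ := fun e => by rw [e] at d1; omega
  have hs : ∀ {R : Type} [AddCommMonoid R] (f : IrrCharacter G → R),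
      ∑ η ∈ X, f η = f (one G) + f χ + f ψ := fun f => by
    rw [hX, Finset.sum_insert (by simp [n1, n2]), Finset.sum_pair n3, add_assoc]
  have reg : ∀ g, 7 ∣ orderOf g → ∀ θ ∈ Y, θ.1 g = 1 + χ.1 g - ψ.1 g := fun g hg θ hθ => by
    have h3 := h.reg θ hθ g fun h3 => by
      obtain ⟨y, hy, hy1, v, hv, hc⟩ := hC.exists_conj h3
      rw [mem_bot.1 hv, mul_one] at hc
      obtain ⟨c, rfl⟩ := isConj_iff.1 hc
      rw [← H46.orderOf_conj c g, orderOf_eq_of_mem_prime hC.card hy hy1] at hg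
      omega
    rw [hs, h.δ_one, h1, h2] at h3
    simpa [sub_eq_add_neg] using h3
  have h7 : 7 ∣ Nat.card G := (show 7 ∣ dg χ by rw [d1]; norm_num).trans (dg_dvd χ)
  by_cases h49 : 7 ^ 2 ∣ Nat.card G
  swap
  · have h3 : (Nat.card G).factorization 7 ≤ 1 := by
      have := mt (Nat.Prime.pow_dvd_iff_le_factorization (p := 7) (k := 2) (by norm_num)
        Nat.card_pos.ne').2 h49
      omega
    have h4 : ∀ η : IrrCharacter G, 7 ∣ dg η → ∀ g, 7 ∣ orderOf g → η.1 g = 0 := fun η hη g hg =>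
      eq_zero_of_pow_factorization_dvd (by norm_num) η.2
        ((pow_dvd_pow 7 h3).trans (by rwa [pow_one])) hg
    refine seven h7 h49 (insert (one G) Y) (by
      rw [Finset.card_insert_of_notMem fun h5 => h.ne_one h5 rfl, h.cardY]) fun θ hθ g hg => ?_
    rcases Finset.mem_insert.1 hθ with rfl | hθ
    · rfl
    · rw [reg g hg θ hθ, h4 χ (by rw [d1]; norm_num) g hg, h4 ψ (by rw [d2]; norm_num) g hg]; simp
  obtain ⟨M, hM⟩ := exists_isPModular 7 (by norm_num)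
  have := hM.2.1
  obtain ⟨u, hu⟩ : 7 ^ 2 * 3 ∣ Nat.card G := Nat.Coprime.mul_dvd_of_dvd_of_dvd (by norm_num) h49
    (he ▸ card_eq_of_cpl hC ▸ ((dvd_mul_left _ _).mul_right _).mul_right _)
  have h3 := br_block_dvd hC (he ▸ h) hM (B := principalBlock M G) ⟨one G, rfl⟩ (he ▸ hu)
  rw [sum_sI h, Finset.sum_filter, hs, if_pos (mem_bF.2 H37.one_mem_principalBlock), h.δ_one, h1, h2,
    d1, d2, dg_one, Finset.sum_congr rfl (g := fun _ => (22 : ℤ)) fun θ hθ => by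
      rw [d3 θ (Finset.mem_filter.1 hθ).1]; rfl, Finset.sum_const, nsmul_eq_mul] at h3
  have h4 : (Y.filter (· ∈ bF (principalBlock M G))).card ≤ 6 :=
    h.cardY ▸ Finset.card_filter_le _ _
  have h5 : χ ∈ principalBlock M G ∧ ψ ∈ principalBlock M G := by
    simp only [← mem_bF]
    split_ifs at h3 with b1 b2 b2
    · exact ⟨b1, b2⟩
    all_goals omega
  obtain ⟨x, hx, hx'⟩ := exists_cen h7
  have hu : ∀ η ∈ X, ∀ η' ∈ X, dg η' = dg η → η' = η := by
    simp only [hX, Finset.mem_insert, Finset.mem_singleton]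
    rintro _ (rfl | rfl | rfl) _ (rfl | rfl | rfl) <;> simp [d1, d2, dg_one]
  have mχ : χ ∈ X := by simp [hX]
  have mψ : ψ ∈ X := by simp [hX]
  have i1 := rat_X h (by norm_num) mχ (hu χ mχ) x
  have i2 := rat_X h (by norm_num) mψ (hu ψ mψ) x
  have c1 := cong_princ hM h5.1 hx' i1 (k := 11) d1
  have c2 := cong_princ hM h5.2 hx' i2 (k := 8) d2
  obtain ⟨θ, hθ⟩ := h.Y_nonempty
  have h6 : θ.1 x = (1 + iv χ x - iv ψ x : ℤ) := by
    rw [reg x hx.symm.dvd θ hθ, ← i1, ← i2]; push_cast; rfl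
  have h8 := iv_lt hna (h.ne_one hθ) (a := x) (fun e => by simp [e] at hx) (coe_iv ⟨_, h6⟩)
  rw [iv_eq h6, d3 θ hθ, abs_lt] at h8
  rw [d1] at c1
  rw [d2] at c2
  omega

theorem degrees (hna : ¬ IsMulCommutative G) (hC : Cpl P ⊥)
    (he : (Cen (P : Subgroup G)).relIndex (Nor (P : Subgroup G)) = 3) (h : Br 19 3 6 X Y δ ε)
    {χ ψ : IrrCharacter G} (hX : X = {one G, χ, ψ}) (n1 : one G ≠ χ) (n2 : one G ≠ ψ) (n3 : χ ≠ ψ)
    (h2 : 2 ∣ Nat.card G) {θ : IrrCharacter G} (hθ : θ ∈ Y) :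
    ∃ c : ℤ, c ^ 2 = (δ χ * dg χ) * (δ ψ * dg ψ) * (-ε * dg θ) := by
  classical
  have hs : ∀ {R : Type} [AddCommMonoid R] (f : IrrCharacter G → R),
      ∑ η ∈ X, f η = f (one G) + f χ + f ψ := fun f => by
    rw [hX, Finset.sum_insert (by simp [n1, n2]), Finset.sum_pair n3, add_assoc]
  obtain ⟨a, ha⟩ := exists_prime_orderOf_dvd_card' 2 h2
  have ha2 := H83.mul_self_of_orderOf_two ha
  obtain ⟨y, hy⟩ := exists_prime_orderOf_dvd_card' (G := (P : Subgroup G)) 19 hC.card.symm.dvd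
  have hy1 : (y : G) ≠ 1 := fun e => by simp [OneMemClass.coe_eq_one.1 e] at hy
  have hz := zpowers_eq_of_mem_prime hC.card y.2 hy1
  have q := inv_formula hC (by norm_num) (he ▸ h) hz ha2 ha2 hθ
  have hI : Iv (y : G) a = ∅ := Finset.eq_empty_of_forall_notMem fun x hx => by
    obtain ⟨h3, h4⟩ := mem_Iv.1 hx
    have h5 := H31.mul_self_of_isConj ha2 h3
    have hN : x ∈ Nor (P : Subgroup G) := mem_normalizer_fintype (S := ((P : Subgroup G) : Set G))
      fun z hz' => by rw [inverts_of_mem h4 (hz.ge hz')]; exact inv_mem hz'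
    have h6 : x ^ (Cen (P : Subgroup G)).relIndex (Nor (P : Subgroup G)) ∈ Cen (P : Subgroup G) :=
      ((Cen (P : Subgroup G)).subgroupOf _).pow_index_mem ⟨x, hN⟩
    rw [he, pow_succ, sq, h5, one_mul] at h6
    rw [← h6 y y.2, mul_inv_cancel_right, eq_inv_iff_mul_eq_one, ← sq, ← orderOf_dvd_iff_pow_eq_one,
      orderOf_coe, hy] at h4
    omega
  have ia := ic_inv ha2
  rw [hI, hs, h.δ_one, ← ia χ, ← ia ψ, ← ia θ, ← coe_dg, ← coe_dg, ← coe_dg, ← coe_dg, dg_one,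
    Finset.card_empty, Nat.cast_zero, zero_mul, zero_mul, eq_comm, mul_eq_zero] at q
  replace q := q.resolve_left (mul_ne_zero (card_ne_zero' G)
    (mul_ne_zero (by norm_num) (card_ne_zero' _)))
  have r := h.reg θ hθ a (by rw [ha]; norm_num)
  rw [hs, h.δ_one, ← ia χ, ← ia ψ, ← ia θ] at r
  have d := h.deg_eq hθ
  rw [hs, h.δ_one, dg_one] at d
  have l := abs_lt.1 (iv_lt hna n2.symm (a := a) (fun e => by simp [e] at ha) (ia ψ))
  have z1 : (dg χ : ℂ) ≠ 0 := Nat.cast_ne_zero.2 (dg_pos χ).ne'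
  have z2 : (dg ψ : ℂ) ≠ 0 := Nat.cast_ne_zero.2 (dg_pos ψ).ne'
  have z3 : (dg θ : ℂ) ≠ 0 := Nat.cast_ne_zero.2 (dg_pos θ).ne'
  have r' : ε * iv θ a = 1 + δ χ * iv χ a + δ ψ * iv ψ a := by
    simp only [Int.cast_one, one_mul] at r
    exact_mod_cast r
  have q' : (dg χ * dg ψ * dg θ + δ χ * iv χ a ^ 2 * dg ψ * dg θ + δ ψ * iv ψ a ^ 2 * dg χ * dg θ -
      ε * iv θ a ^ 2 * dg χ * dg ψ : ℤ) = 0 := by
    simp only [Int.cast_one, one_mul, Nat.cast_one, div_one] at q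
    field_simp at q
    have q2 : (dg χ * dg ψ * dg θ + δ χ * iv χ a ^ 2 * dg ψ * dg θ +
      δ ψ * iv ψ a ^ 2 * dg χ * dg θ - ε * iv θ a ^ 2 * dg χ * dg ψ : ℂ) = 0 := by
      linear_combination q
    exact_mod_cast q2
  refine arith_sq (u2 := δ χ * iv χ a) (u3 := δ ψ * iv ψ a) (u4 := -ε * iv θ a)
    (by push_cast at d; linear_combination -d) (by linear_combination -r') ?_ ?_
  · rcases h.sδ χ with e1 | e1 <;> rcases h.sδ ψ with e2 | e2 <;> rcases h.sε with e3 | e3 <;>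
      rw [e1, e2, e3] at q' ⊢ <;> first | linear_combination q' | linear_combination -q'
  · rcases h.sδ ψ with e2 | e2 <;> rw [e2] <;> omega

theorem main (hna : ¬ IsMulCommutative G) (hC : Cpl P ⊥)
    (he : (Cen (P : Subgroup G)).relIndex (Nor (P : Subgroup G)) = 3) (h : Br 19 3 6 X Y δ ε)
    {χ ψ : IrrCharacter G} (hX : X = {one G, χ, ψ}) (n1 : one G ≠ χ) (n2 : one G ≠ ψ) (n3 : χ ≠ ψ)
    (hle : δ ψ ≤ δ χ) (h2 : 2 ∣ Nat.card G) {Ψ : G → ℂ} (hΨ : IsCharacter G Ψ)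
    (hd : charDegree Ψ = 256) (h1 : mlt Ψ (one G) = 1) (hS : sS 19 Ψ = 16) : False := by
  classical
  have hs : ∀ {R : Type} [AddCommMonoid R] (f : IrrCharacter G → R),
      ∑ η ∈ X, f η = f (one G) + f χ + f ψ := fun f => by
    rw [hX, Finset.sum_insert (by simp [n1, n2]), Finset.sum_pair n3, add_assoc]
  obtain ⟨θ, hθ⟩ := h.Y_nonempty
  obtain ⟨c, hc⟩ := degrees hna hC he h hX n1 n2 n3 h2 hθ
  have cnt := h.count hΨ (c := 16) (by rw [← sS_apply, hS]; rfl)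
  have le := sum_mlt_le hΨ (X ∪ Y)
  rw [Finset.sum_union h.disj, hs, Finset.sum_congr rfl (g := fun η => mlt Ψ η * dg θ)
    fun η hη => by rw [h.dg_eq hη hθ], ← Finset.sum_mul, hd, h1, dg_one] at le
  rw [hs, h.δ_one, h1, ← Nat.cast_sum] at cnt
  have d := h.deg_eq hθ
  rw [hs, h.δ_one, dg_one] at d
  have m1 := br_dvd_sub_one h (χ := χ) (by simp [hX])
  have m2 := br_dvd_sub_one h (χ := ψ) (by simp [hX])
  have m3 := br_dvd_Y h hθ
  have e1 := mt (eq_one_of_dg (H87.commutator_eq_top hna) (χ := χ)) n1.symm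
  have p1 := dg_pos χ
  have p2 := dg_pos ψ
  have p3 := dg_pos θ
  have pp : (0 : ℤ) < dg χ * dg ψ * dg θ := by positivity
  have cc := sq_nonneg c
  generalize ∑ η ∈ Y, mlt Ψ η = S at le cnt
  rcases h.sδ χ with s1 | s1 <;> rcases h.sδ ψ with s2 | s2 <;> rcases h.sε with s3 | s3 <;>
    rw [s1, s2] at hle <;> rw [s1, s2, s3] at hc cnt d <;> rw [s1] at m1 <;> rw [s2] at m2 <;>
    rw [s3] at m3
  · nlinarith
  · omega
  · obtain ⟨a1, a2, a3⟩ := arith_deg (a := dg χ) (b := dg ψ) (x := dg θ) (b2 := mlt Ψ χ)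
      (b3 := mlt Ψ ψ) (S := S) (c := c) (by omega) e1 (by omega) (by omega) (by omega)
      (by linear_combination hc) (by omega) (by omega)
    exact endgame hna hC he (s3 ▸ h) hX s1 s2 a1 a2 fun η hη => (h.dg_eq hη hθ).trans a3
  · nlinarith
  · omega
  · omega
  · omega
  · have := Nat.mul_le_mul (show 10 ≤ S by omega) (show 35 ≤ dg θ by omega)
    omega

universe u

theorem jobP19 : H2.PR.JobP19.{u} := by
  classical
  intro G _ _ _ _ P hC he h2 Ψ hΨ hd h1 hS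
  have hna : ¬ IsMulCommutative G := fun hc => by
    have : Nor (P : Subgroup G) ≤ Cen (P : Subgroup G) := fun g _ y _ => hc.is_comm.comm y g
    rw [relIndex_eq_one.2 this] at he
    omega
  obtain ⟨t, X, Y, δ, ε, h⟩ := exists_br H37.cycK P hC.card
  rw [he] at h
  obtain rfl : t = 6 := by have := h.te; omega
  obtain ⟨χ, ψ, n3, hX⟩ := Finset.card_eq_two.1 (show (X.erase (one G)).card = 2 by
    rw [Finset.card_erase_of_mem h.one_mem, h.cardX])
  have n1 : one G ≠ χ := (Finset.ne_of_mem_erase (hX ▸ by simp : χ ∈ X.erase (one G))).symm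
  have n2 : one G ≠ ψ := (Finset.ne_of_mem_erase (hX ▸ by simp : ψ ∈ X.erase (one G))).symm
  have h3 : X = {one G, χ, ψ} := by rw [← hX, Finset.insert_erase h.one_mem]
  rcases le_total (δ ψ) (δ χ) with h4 | h4
  · exact main hna hC he h h3 n1 n2 n3 h4 h2 hΨ hd h1 hS
  · exact main hna hC he h (by rw [h3, Finset.pair_comm]) n2 n1 n3.symm h4 h2 hΨ hd h1 hS

end H31.P19
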