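import Cfsg.Agent.H1.D4Spec
import Cfsg.Agent.H38.LxBase

/-! Coordinates on `Q / ⟨z⟩ = 2 ⊗ 2 ⊗ 2` (the `β`-kit of `blueprints/LX-D4.md`). -/

set_option autoImplicit false

open Cfsg H78 H38.Lx H1.LX

namespace H31.D4

/-- the function of a pure tensor -/
def chi (x y : X3) : ZMod 2 := if Opp x y then 1 else 0

/-- the vector with the given coordinates in the basis `{0, 1}³` -/
def vec (a b c d e f g h : ZMod 2) (y : X3) : ZMod 2 :=
  a * chi (0, 0, 0) y + b * chi (0, 0, 1) y + c * chi (0, 1, 0) y + d * chi (0, 1, 1) y +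
    e * chi (1, 0, 0) y + f * chi (1, 0, 1) y + g * chi (1, 1, 0) y + h * chi (1, 1, 1) y

def IsVec (v : X3 → ZMod 2) : Prop := ∃ a b c d e f g h, v = vec a b c d e f g h

theorem IsVec.add {v w : X3 → ZMod 2} (hv : IsVec v) (hw : IsVec w) : IsVec (v + w) := by
  obtain ⟨a, b, c, d, e, f, g, h, rfl⟩ := hv
  obtain ⟨a', b', c', d', e', f', g', h', rfl⟩ := hw
  exact ⟨a + a', b + b', c + c', d + d', e + e', f + f', g + g', h + h',
    funext fun y => by simp only [vec, Pi.add_apply]; ring⟩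

theorem isVec_zero : IsVec 0 := ⟨0, 0, 0, 0, 0, 0, 0, 0, funext fun y => by simp [vec]⟩

theorem isVec_chi (x : X3) : IsVec (chi x) := by
  have f : ∀ x : X3, ∀ ε : Fin 3 → Fin 3 → ZMod 2, (ε = fun a i => if a = i ∨ a = 2 then 1 else 0) →
      ∀ y, chi x y = vec (ε x.1 0 * ε x.2.1 0 * ε x.2.2 0) (ε x.1 0 * ε x.2.1 0 * ε x.2.2 1)
        (ε x.1 0 * ε x.2.1 1 * ε x.2.2 0) (ε x.1 0 * ε x.2.1 1 * ε x.2.2 1)
        (ε x.1 1 * ε x.2.1 0 * ε x.2.2 0) (ε x.1 1 * ε x.2.1 0 * ε x.2.2 1)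
        (ε x.1 1 * ε x.2.1 1 * ε x.2.2 0) (ε x.1 1 * ε x.2.1 1 * ε x.2.2 1) y := by
    rintro x _ rfl
    revert x
    decide +kernel
  exact ⟨_, _, _, _, _, _, _, _, funext (f x _ rfl)⟩

theorem chi_symm : ∀ x y, chi x y = chi y x := by decide +kernel

theorem act3_one (x : X3) : act3 1 x = x := rfl

theorem act3_mul (g k : S33) (x : X3) : act3 (g * k) x = act3 g (act3 k x) := rfl

theorem act3_inv (g : S33) (x : X3) : act3 g⁻¹ (act3 g x) = x := by
  rw [← act3_mul, inv_mul_cancel, act3_one]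

theorem act3_inv' (g : S33) (x : X3) : act3 g (act3 g⁻¹ x) = x := by
  rw [← act3_mul, mul_inv_cancel, act3_one]

theorem opp_act3 (g : S33) (x y : X3) : Opp (act3 g x) (act3 g y) ↔ Opp x y := by
  simp [Opp, act3]

theorem chi_act3 (g : S33) (x y : X3) : chi (act3 g x) (act3 g y) = chi x y := by
  simp only [chi, opp_act3]

variable {G : Type*} [Group G] {z : G} {κ : G → S33} {p : X3 → G} {a b q r : G}

open _root_.H31.D4

/-- `β q y = cf q (p y)` -/
noncomputable def beta (p : X3 → G) (q : G) (y : X3) : ZMod 2 := cf q (p y)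

theorem cz_aux (g : G) (h : q ∈ Subgroup.zpowers z) :
    g * q * g⁻¹ ∈ Subgroup.zpowers (g * z * g⁻¹) := by
  obtain ⟨k, rfl⟩ := h
  exact ⟨k, conj_zpow⟩

namespace H1.LX.Kap

variable (h : Kap z κ)
include h

theorem xs : XS (O2C z) z := h.big.lx.toXS

theorem zc (hq : q ∈ O2C z) : q * z = z * q := (h.xs.z_comm q hq).symm

theorem one : κ 1 = 1 := (h.ker 1 (by simp)).2 (one_mem _)

theorem inv (ha : a * z = z * a) : κ a⁻¹ = (κ a)⁻¹ := eq_inv_of_mul_eq_one_left (by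
  rw [← h.mul _ _ (mem_cen.1 (inv_mem (mem_cen.2 ha))) ha, inv_mul_cancel, h.one])

/-- `κ` as a homomorphism -/
def hom : cen z →* S33 := MonoidHom.mk' (fun a => κ a) fun a b =>
  h.mul a b (mem_cen.1 a.2) (mem_cen.1 b.2)

theorem conj [Finite G] (g : G) : Kap (g * z * g⁻¹) fun a => κ (g⁻¹ * a * g) where
  big := big_conj h.big ⟨g, rfl⟩
  mul a b ha hb := by
    rw [← h.mul _ _ ((comm_conj_iff g).1 ha) ((comm_conj_iff g).1 hb)]; congr 1; group
  surj k := by
    obtain ⟨a, ha, e⟩ := h.surj k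
    exact ⟨g * a * g⁻¹, comm_conj g ha, by rw [← e]; congr 1; group⟩
  ker a ha := by rw [mem_O2C_conj]; exact h.ker _ ((comm_conj_iff g).1 ha)

end H1.LX.Kap

namespace H1.LX.T0

variable (h : T0 z κ p)
include h

theorem xs : XS (O2C z) z := h.big.lx.toXS

theorem cf_p (x y : X3) : cf (p x) (p y) = chi x y := by
  unfold chi
  split_ifs with e
  exacts [cf_eq_one.2 fun c => (h.comm x y).1 c e, cf_eq_zero.2 ((h.comm x y).2 e)]

theorem beta_p (x : X3) : beta p (p x) = chi x := funext (h.cf_p x)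

theorem beta_mul (hq : q ∈ O2C z) (hr : r ∈ O2C z) : beta p (q * r) = beta p q + beta p r :=
  funext fun y => h.xs.cf_mul_left hq hr (h.mem y)

omit h in
theorem beta_one : beta p 1 = 0 := funext fun _ => cf_one_left _

omit h in
theorem beta_inv (q : G) : beta p q⁻¹ = beta p q := funext fun _ => cf_inv_left _ _

theorem beta_z : beta p z = 0 := funext fun y => h.xs.cf_z_left (h.mem y)

theorem beta_mul_z (hq : q ∈ O2C z) : beta p (q * z) = beta p q := by
  rw [h.beta_mul hq h.xs.z_mem, h.beta_z, add_zero]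

theorem beta_eq_zero (hq : q ∈ O2C z) : beta p q = 0 ↔ q = 1 ∨ q = z := by
  refine ⟨fun e => h.xs.center q hq fun y hy => ?_, ?_⟩
  · have : Subgroup.closure (Set.range p) ≤ cen q := (Subgroup.closure_le _).2 (by
      rintro _ ⟨x, rfl⟩; exact mem_cen.2 (cf_eq_zero.1 (congrFun e x)).symm)
    exact (mem_cen.1 (this (h.gen hy))).symm
  · rintro (rfl | rfl)
    exacts [beta_one, h.beta_z]

theorem beta_eq (hq : q ∈ O2C z) (hr : r ∈ O2C z) : beta p q = beta p r ↔ q = r ∨ q = r * z := by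
  have e : beta p q = beta p r ↔ beta p (r⁻¹ * q) = 0 := by
    rw [h.beta_mul (inv_mem hr) hq, beta_inv, funext_iff, funext_iff]
    exact forall_congr' fun y => eq_comm.trans zmod2_add_eq_zero.symm
  rw [e, h.beta_eq_zero (mul_mem (inv_mem hr) hq), inv_mul_eq_one, inv_mul_eq_iff_eq_mul, eq_comm]

theorem beta_eq_chi (hq : q ∈ O2C z) (x : X3) : beta p q = chi x ↔ q = p x ∨ q = p x * z := by
  rw [← h.beta_p, h.beta_eq hq (h.mem x)]

theorem beta_conj (ha : a * z = z * a) (hq : q ∈ O2C z) (y : X3) :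
    beta p (a * q * a⁻¹) (act3 (κ a) y) = beta p q y := by
  have m := h.big.lx.norm a ha q hq
  unfold beta
  rw [← cf_conj a q]
  rcases h.conj a ha y with e | e <;> rw [e]
  rw [h.xs.cf_mul_z_right (h.mem _) m]

theorem beta_conj' (ha : a * z = z * a) (hq : q ∈ O2C z) (y : X3) :
    beta p (a * q * a⁻¹) y = beta p q (act3 (κ a)⁻¹ y) := by
  rw [← h.beta_conj ha hq, act3_inv']

theorem isVec (hq : q ∈ O2C z) : IsVec (beta p q) := by
  have k : ∀ q ∈ Subgroup.closure (Set.range p), q ∈ O2C z ∧ IsVec (beta p q) := fun q hq => by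
    induction hq using Subgroup.closure_induction with
    | mem _ e => obtain ⟨x, rfl⟩ := e; exact ⟨h.mem x, h.beta_p x ▸ isVec_chi x⟩
    | one => exact ⟨one_mem _, beta_one (p := p) ▸ isVec_zero⟩
    | mul x y _ _ h1 h2 => exact ⟨mul_mem h1.1 h2.1, h.beta_mul h1.1 h2.1 ▸ h1.2.add h2.2⟩
    | inv x _ h1 => exact ⟨inv_mem h1.1, beta_inv (p := p) x ▸ h1.2⟩
  exact (k q (h.gen hq)).2

theorem exists_smul (t : ZMod 2) (x : X3) : ∃ q ∈ O2C z, ∀ w, cf q w = t * cf (p x) w := by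
  rcases zmod2_cases t with rfl | rfl
  · exact ⟨1, one_mem _, fun y => by rw [cf_one_left, zero_mul]⟩
  · exact ⟨p x, h.mem x, fun y => by rw [one_mul]⟩

theorem exists_cf (a b c d e f g k : ZMod 2) : ∃ q ∈ O2C z, ∀ w ∈ O2C z, cf q w =
    a * beta p w (0, 0, 0) + b * beta p w (0, 0, 1) + c * beta p w (0, 1, 0) + d * beta p w (0, 1, 1) +
      e * beta p w (1, 0, 0) + f * beta p w (1, 0, 1) + g * beta p w (1, 1, 0) +
        k * beta p w (1, 1, 1) := by
  obtain ⟨q1, m1, e1⟩ := h.exists_smul a (0, 0, 0)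
  obtain ⟨q2, m2, e2⟩ := h.exists_smul b (0, 0, 1)
  obtain ⟨q3, m3, e3⟩ := h.exists_smul c (0, 1, 0)
  obtain ⟨q4, m4, e4⟩ := h.exists_smul d (0, 1, 1)
  obtain ⟨q5, m5, e5⟩ := h.exists_smul e (1, 0, 0)
  obtain ⟨q6, m6, e6⟩ := h.exists_smul f (1, 0, 1)
  obtain ⟨q7, m7, e7⟩ := h.exists_smul g (1, 1, 0)
  obtain ⟨q8, m8, e8⟩ := h.exists_smul k (1, 1, 1)
  refine ⟨q1 * q2 * q3 * q4 * q5 * q6 * q7 * q8, by apply_rules [mul_mem], fun w hw => ?_⟩
  repeat rw [h.xs.cf_mul_left (by apply_rules [mul_mem]) (by assumption) hw]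
  simp only [e1, e2, e3, e4, e5, e6, e7, e8, beta, cf_symm w]

theorem exists_beta' (a b c d e f g k : ZMod 2) : ∃ q ∈ O2C z, beta p q = vec a b c d e f g k ∧
    ∀ w ∈ O2C z, cf q w =
      a * beta p w (0, 0, 0) + b * beta p w (0, 0, 1) + c * beta p w (0, 1, 0) + d * beta p w (0, 1, 1) +
        e * beta p w (1, 0, 0) + f * beta p w (1, 0, 1) + g * beta p w (1, 1, 0) +
          k * beta p w (1, 1, 1) := by
  obtain ⟨q, hq, e1⟩ := h.exists_cf a b c d e f g k
  exact ⟨q, hq, funext fun y => by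
    rw [beta, e1 _ (h.mem y), h.beta_p]; simp only [vec, chi_symm y], e1⟩

theorem exists_beta {v : X3 → ZMod 2} (hv : IsVec v) : ∃ q ∈ O2C z, beta p q = v := by
  obtain ⟨a, b, c, d, e, f, g, k, rfl⟩ := hv
  exact (h.exists_beta' a b c d e f g k).imp fun _ e => ⟨e.1, e.2.1⟩

/-- the commutator form in coordinates -/
theorem cf_vec {a b c d e f g k : ZMod 2} (hq : q ∈ O2C z) (hr : r ∈ O2C z)
    (e1 : beta p q = vec a b c d e f g k) : cf q r =
      a * beta p r (0, 0, 0) + b * beta p r (0, 0, 1) + c * beta p r (0, 1, 0) + d * beta p r (0, 1, 1) +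
        e * beta p r (1, 0, 0) + f * beta p r (1, 0, 1) + g * beta p r (1, 1, 0) +
          k * beta p r (1, 1, 1) := by
  obtain ⟨q', h1, h2, h3⟩ := h.exists_beta' a b c d e f g k
  rw [← h3 r hr]
  rcases (h.beta_eq hq h1).1 (e1.trans h2.symm) with rfl | rfl
  exacts [rfl, h.xs.cf_mul_z_left h1 hr]

theorem conj' [Finite G] (g : G) :
    T0 (g * z * g⁻¹) (fun a => κ (g⁻¹ * a * g)) fun x => g * p x * g⁻¹ where
  toKap := h.toKap.conj g
  mem x := conj_mem_O2C g (h.mem x)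
  sq x := by rw [conj_mul, h.sq]; simp
  conj a ha x := (h.conj _ ((comm_conj_iff g).1 ha) x).imp
    (fun e => by rw [← e]; group) fun e => by rw [conj_mul, ← e]; group
  comm x y := by
    rw [← h.comm, conj_mul, conj_mul, mul_left_inj, mul_right_inj]
  l1 j k := by rw [conj_mul, conj_mul]; exact (cz_aux g (h.l1 j k))
  l2 j k := by rw [conj_mul, conj_mul]; exact (cz_aux g (h.l2 j k))
  l3 j k := by rw [conj_mul, conj_mul]; exact (cz_aux g (h.l3 j k))
  gen := by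
    rw [O2C_conj]
    refine (Subgroup.map_mono h.gen).trans ?_
    rw [MonoidHom.map_closure, ← Set.range_comp]
    rfl

end H1.LX.T0

theorem H1.LX.T3.conj' [Finite G] (h : T3 z κ p) (g : G) :
    T3 (g * z * g⁻¹) (fun a => κ (g⁻¹ * a * g)) fun x => g * p x * g⁻¹ where
  toT0 := h.toT0.conj' g
  fu d := by
    have e : Fu (g * z * g⁻¹) d ↔ Fu z (g⁻¹ * d * g) := and_congr
      ⟨fun c => cj_trans (cj_trans ⟨g, rfl⟩ c) ⟨g⁻¹, by simp⟩,
        fun c => cj_trans (cj_symm ⟨g, rfl⟩) (cj_trans c ⟨g, by group⟩)⟩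
      (and_congr (not_congr ⟨fun e => by rw [e]; group, fun e => by rw [← e]; group⟩) mem_O2C_conj)
    rw [e, h.fu]
    exact exists_congr fun x => or_congr ⟨fun e => by rw [← e]; group, fun e => by rw [e]; group⟩
      ⟨fun e => by rw [conj_mul, ← e]; group, fun e => by rw [e]; group⟩

/-- `T3` at every conjugate of `z` -/
theorem H1.LX.T3.at [Finite G] (h : T3 z κ p) {d : G} (hd : Cj z d) : ∃ κ' p', T3 d κ' p' := by
  obtain ⟨g, rfl⟩ := hd
  exact ⟨_, _, h.conj' g⟩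

end H31.D4
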