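import Cfsg.Agent.H31.D4Kit
import Cfsg.Agent.H19.LXFB

/-! Job D4-A: the tensor model `2 ⊗ 2 ⊗ 2` of `Q / ⟨z⟩`. -/

set_option autoImplicit false

open Cfsg H78 H38.Lx H1.LX Equiv Module
open H19.LX hiding cj_symm cj_trans add_eq_zero

namespace H31.D4

open _root_.H31.D4

universe u

def w3 : Fin 3 → S33 := ![(finRotate 3, 1, 1), (1, finRotate 3, 1), (1, 1, finRotate 3)]

def gam (x : X3) : S33 := (swap 0 x.1, swap 0 x.2.1, swap 0 x.2.2)

theorem act_gam (x : X3) : act3 (gam x) (0, 0, 0) = x := by simp [act3, gam]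

theorem key_aux (b : X3 → ZMod 2) (j : ∀ k x, b (act3 (s3 k) x) = b x)
    (l : ∀ k x, b x + b (act3 (w3 k) x) + b (act3 (w3 k * w3 k) x) = 0) (x : X3) :
    b x = chi (0, 0, 0) x * b (1, 1, 1) := by
  have a0 : ∀ s t, b (2, s, t) = b (1, s, t) := fun s t => j 0 (1, s, t)
  have a1 : ∀ s t, b (s, 2, t) = b (s, 1, t) := fun s t => j 1 (s, 1, t)
  have a2 : ∀ s t, b (s, t, 2) = b (s, t, 1) := fun s t => j 2 (s, t, 1)
  have f : ∀ r s : ZMod 2, r + s + s = 0 → r = 0 := by decide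
  have z0 : ∀ s t, b (0, s, t) = 0 := fun s t => f _ (b (1, s, t)) (a0 s t ▸ l 0 (0, s, t))
  have z1 : ∀ s t, b (s, 0, t) = 0 := fun s t => f _ (b (s, 1, t)) (a1 s t ▸ l 1 (s, 0, t))
  have z2 : ∀ s t, b (s, t, 0) = 0 := fun s t => f _ (b (s, t, 1)) (a2 s t ▸ l 2 (s, t, 0))
  obtain ⟨r, s, t⟩ := x
  fin_cases r <;> fin_cases s <;> fin_cases t <;> simp [chi, Opp, a0, a1, a2, z0, z1, z2]

theorem fw (k : Fin 3) : w3 k ≠ 1 ∧ w3 k * (w3 k * w3 k) = 1 := by revert k; decide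

theorem fw' : ∀ (k : Fin 3) (g : S33), w3 k * g = g * w3 k ∨ w3 k * g = g * (w3 k * w3 k) := by
  decide +kernel

section lin

variable {V : Type*} [AddCommGroup V] [Module (ZMod 2) V] {B : V →ₗ[ZMod 2] V →ₗ[ZMod 2] ZMod 2}
  {q : V → ZMod 2} {R : S33 →* End (ZMod 2) V}

theorem exists_fix {s : S33} (hs : s * s = 1) {u : V} (hu : u ≠ 0) :
    ∃ v, v ≠ 0 ∧ R s v = v ∧ ∀ t, s * t = t * s → R t u = u → R t v = v := by
  by_cases e : R s u = u
  · exact ⟨u, hu, e, fun _ _ h => h⟩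
  refine ⟨u + R s u, fun h => e (H19.LX.add_eq_zero.1 h).symm, ?_, fun t h1 h2 => ?_⟩
  · rw [map_add, ← End.mul_apply, ← map_mul, hs, map_one, add_comm]; rfl
  · rw [map_add, ← End.mul_apply, ← map_mul, ← h1, map_mul, End.mul_apply, h2]

theorem exists_tensor (hB : Alt B) (hq : ∀ u v, q (u + v) = q u + q v + B u v)
    (RB : ∀ g u v, B (R g u) (R g v) = B u v) (Rq : ∀ g v, q (R g v) = q v)
    (hf : ∀ g, (∀ v, R g v = v) → g = 1)
    (hi : ∀ W : Submodule (ZMod 2) V, (∀ g, ∀ v ∈ W, R g v ∈ W) → W = ⊥ ∨ W = ⊤) :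
    ∃ v : X3 → V, (∀ g x, R g (v x) = v (act3 g x)) ∧ (∀ x, q (v x) = 0) ∧
      (∀ x y, B (v x) (v y) = chi x y) ∧ (∀ k x, v x + v (act3 (w3 k) x) + v (act3 (w3 k * w3 k) x) = 0) ∧
      Submodule.span (ZMod 2) (Set.range v) = ⊤ := by
  have mul : ∀ g k v, R (g * k) v = R g (R k v) := fun g k v => by rw [map_mul]; rfl
  have nofix : ∀ k v, R (w3 k) v = v → v = 0 := fun k => by
    rcases hi (LinearMap.eqLocus (R (w3 k)) LinearMap.id) (fun g v (hv : R (w3 k) v = v) => by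
      show R (w3 k) (R g v) = R g v
      rw [← mul]
      rcases fw' k g with e | e <;> simp only [e, mul, hv]) with e | e
    · exact fun v hv => e.le hv
    · exact absurd (hf _ fun v => e.ge trivial) (fw k).1
  have sum : ∀ k v, v + R (w3 k) v + R (w3 k * w3 k) v = 0 := fun k v => nofix k _ (by
    rw [map_add, map_add, ← mul, ← mul, (fw k).2, map_one, End.one_apply]; abel)
  obtain ⟨u, hu⟩ : ∃ u : V, u ≠ 0 := by
    by_contra! hc
    exact (fw 0).1 (hf _ fun v => by rw [hc v, map_zero])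
  obtain ⟨u0, n0, a0, -⟩ := exists_fix (R := R) (s := s3 0) (by decide) hu
  obtain ⟨u1, n1, a1, b1⟩ := exists_fix (R := R) (s := s3 1) (by decide) n0
  obtain ⟨u, n, a2, b2⟩ := exists_fix (R := R) (s := s3 2) (by decide) n1
  have c0 := b2 (s3 0) (by decide) (b1 _ (by decide) a0)
  have c1 := b2 (s3 1) (by decide) a1
  have st : ∀ g, act3 g (0, 0, 0) = (0, 0, 0) → R g u = u := fun g hg => by
    have f : ∀ g, act3 g (0, 0, 0) = (0, 0, 0) → ∃ a ∈ [1, s3 0], ∃ b ∈ [1, s3 1], ∃ c ∈ [1, s3 2],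
        g = a * b * c := by decide +kernel
    obtain ⟨a, ha, b, hb, c, hc, rfl⟩ := f g hg
    have k : ∀ {a s : S33}, R s u = u → a ∈ [1, s] → R a u = u := fun e ha => by
      simp only [List.mem_cons, List.not_mem_nil, or_false] at ha
      rcases ha with rfl | rfl
      exacts [by rw [map_one]; rfl, e]
    rw [mul, mul, k a2 hc, k c1 hb, k c0 ha]
  have eqv : ∀ g x, R g (R (gam x) u) = R (gam (act3 g x)) u := fun g x => by
    conv_rhs => rw [← st ((gam (act3 g x))⁻¹ * (g * gam x)) (by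
      rw [act3_mul, act3_mul, act_gam]
      conv_lhs => enter [2]; rw [← act_gam (act3 g x)]
      rw [act3_inv])]
    rw [← mul, ← mul, mul_inv_cancel_left]
  set v : X3 → V := fun x => R (gam x) u with hv
  have v0 : v (0, 0, 0) = u := st _ (act_gam _)
  have ls : ∀ k x, v x + v (act3 (w3 k) x) + v (act3 (w3 k * w3 k) x) = 0 := fun k x => by
    simp only [hv, ← eqv, sum]
  have sp : Submodule.span (ZMod 2) (Set.range v) = ⊤ := (hi _ fun g w hw => by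
      refine Submodule.span_induction (p := fun w _ => R g w ∈ Submodule.span (ZMod 2) (Set.range v))
        ?_ ?_ ?_ ?_ hw
      · rintro _ ⟨x, rfl⟩; exact Submodule.subset_span ⟨_, (eqv g x).symm⟩
      · simp
      · intro a b _ _ h1 h2; rw [map_add]; exact add_mem h1 h2
      · intro a b _ h1; rw [map_smul]; exact Submodule.smul_mem _ _ h1).resolve_left
    fun e => n (v0 ▸ e.le (Submodule.subset_span ⟨_, rfl⟩))
  have i0 : ∀ g, R g u = u → ∀ x, B u (v (act3 g x)) = B u (v x) := fun g e x => by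
    rw [← RB g u (v x), e]; exact congrArg _ (eqv g x).symm
  have l0 : ∀ k x, B u (v x) + B u (v (act3 (w3 k) x)) + B u (v (act3 (w3 k * w3 k) x)) = 0 :=
    fun k x => by rw [← map_add, ← map_add, ls, map_zero]
  have key : ∀ x, B u (v x) = chi (0, 0, 0) x * B u (v (1, 1, 1)) :=
    key_aux (fun x => B u (v x)) (fun k => i0 _ (st _ (by revert k; decide))) l0
  have eqv' : ∀ g x, R g (v x) = v (act3 g x) := eqv
  have one : B u (v (1, 1, 1)) = 1 := zmod2_ne_zero.1 fun e => n (hB.nd u fun w => by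
    rw [hB.symm]
    exact (sp.ge.trans (Submodule.span_le.2 (by
      rintro _ ⟨x, rfl⟩; exact (key x).trans (by rw [e, mul_zero]))) : ⊤ ≤ LinearMap.ker (B u)) trivial)
  refine ⟨v, eqv, fun x => (Rq _ _).trans ?_, fun x y => ?_, ls, sp⟩
  · have h1 := hq u (R (w3 0) u)
    have h2 := key (act3 (w3 0) (0, 0, 0))
    rw [show chi (0, 0, 0) (act3 (w3 0) (0, 0, 0)) = 0 by decide, zero_mul, ← eqv', v0] at h2
    rw [H19.LX.add_eq_zero.1 (sum 0 u), Rq, Rq, h2, add_zero] at h1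
    exact (by decide : ∀ t : ZMod 2, t = t + t → t = 0) _ h1
  · obtain ⟨y, rfl⟩ : ∃ y', y = act3 (gam x) y' := ⟨_, (act3_inv' _ y).symm⟩
    rw [← eqv', show v x = R (gam x) u from rfl, RB, key, one, mul_one, ← chi_act3 (gam x), act_gam]

end lin

variable {G : Type u} [Group G] [Finite G] {z : G} {κ : G → S33} {p : X3 → G}

theorem exists_T0 (h : Kap z κ) (hi : Irr z) : ∃ p, T0 z κ p := by
  have L := h.big.lx
  obtain ⟨M⟩ := exists_VM (m := 8) L h.big.card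
  choose σ hσ hκ using h.surj
  have e1 : ∀ a, a * z = z * a → ∀ v, M.ρ (σ (κ a)) v = M.ρ a v := fun a ha v => by
    have m := mem_cen.1 (mul_mem (inv_mem (mem_cen.2 ha)) (mem_cen.2 (hσ (κ a))))
    have := M.ρ_of_mem L ((h.ker _ m).1 (by
      rw [h.mul _ _ (mem_cen.1 (inv_mem (mem_cen.2 ha))) (hσ _), h.inv ha, hκ, inv_mul_cancel])) v
    rw [← this, ← M.ρ_mul L ha m, this, mul_inv_cancel_left]
  let R : S33 →* End (ZMod 2) (Fin 8 → ZMod 2) :=
    { toFun := fun g => M.ρ (σ g)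
      map_one' := LinearMap.ext fun v => M.ρ_of_mem L ((h.ker _ (hσ 1)).1 (hκ 1)) v
      map_mul' := fun g k => LinearMap.ext fun v => by
        rw [End.mul_apply, ← M.ρ_mul L (hσ g) (hσ k),
          ← e1 _ (mem_cen.1 (mul_mem (mem_cen.2 (hσ g)) (mem_cen.2 (hσ k)))), h.mul _ _ (hσ g) (hσ k),
          hκ, hκ] }
  obtain ⟨v, v1, v2, v3, v4, v5⟩ := exists_tensor (R := R) (M.alt L) (M.q_add L)
    (fun g => M.B_ρ L (hσ g)) (fun g => M.q_ρ L (hσ g))
    (fun g e => (hκ g).symm.trans ((h.ker _ (hσ g)).2 (M.mem_of_ρ L (hσ g) e))) fun W hW => by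
      let A : Subgroup G :=
        { carrier := {x | x ∈ O2C z ∧ M.π x ∈ W}
          mul_mem' := fun a b => ⟨mul_mem a.1 b.1, M.π_mul a.1 b.1 ▸ add_mem a.2 b.2⟩
          one_mem' := ⟨one_mem _, M.π_one ▸ zero_mem W⟩
          inv_mem' := fun a => ⟨inv_mem a.1, (M.π_inv a.1).symm ▸ a.2⟩ }
      refine (hi A ⟨⟨L.z_mem, (M.π_z L).symm ▸ zero_mem W⟩, fun _ a => a.1, fun g hg a ha =>
        ⟨L.norm g hg a ha.1, by rw [← M.ρ_π hg ha.1, ← e1 g hg]; exact hW _ _ ha.2⟩⟩).imp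
        (fun e => eq_bot_iff.2 fun w hw => ?_) fun e => eq_top_iff.2 fun w _ => ?_
      · obtain ⟨x, hx, rfl⟩ := M.surj w
        exact (M.π_eq_zero hx).2 ((mem_zpowers_invol L.z_sq x).1 (e.le ⟨hx, hw⟩))
      · obtain ⟨x, hx, rfl⟩ := M.surj w
        exact (e.ge hx).2
  choose p hp hπ using fun x => M.surj (v x)
  have ln : ∀ k x, p x * p (act3 (w3 k) x) * p (act3 (w3 k * w3 k) x) ∈ Subgroup.zpowers z :=
    fun k x => (mem_zpowers_invol L.z_sq _).2 ((M.π_eq_zero (mul_mem (mul_mem (hp _) (hp _)) (hp _))).1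
      (by rw [M.π_mul (mul_mem (hp _) (hp _)) (hp _), M.π_mul (hp _) (hp _), hπ, hπ, hπ, v4]))
  have cm : ∀ x y, cf (p x) (p y) = chi x y := fun x y => by rw [← M.B_π (hp x) (hp y), hπ, hπ, v3]
  refine ⟨p, h, hp, fun x => sf_eq_zero.1 (by rw [← M.q_π (hp x), hπ, v2]), fun a ha x =>
    (M.π_eq (L.norm a ha _ (hp x)) (hp _)).1 (by rw [← M.ρ_π ha (hp x), hπ, hπ, ← e1 a ha]; exact v1 _ x),
    fun x y => by rw [← cf_eq_zero, cm, chi]; simp, fun j k => ln 0 (0, j, k), fun j k => ln 1 (j, 0, k),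
    fun j k => ln 2 (j, k, 0), fun x hx => ?_⟩
  have le : Subgroup.closure (Set.range p) ≤ O2C z :=
    (Subgroup.closure_le _).2 (by rintro _ ⟨x, rfl⟩; exact hp x)
  have m : ∀ x, p x ∈ Subgroup.closure (Set.range p) := fun x => Subgroup.subset_closure ⟨x, rfl⟩
  have hz : z ∈ Subgroup.closure (Set.range p) := by
    have := (L.toXS.cf_eq_one' (hp (0, 0, 0)) (hp (1, 1, 1))).1 (cm _ _)
    exact (Subgroup.mul_mem_cancel_left _ (mul_mem (m _) (m _))).1 (this ▸ mul_mem (m _) (m _))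
  obtain ⟨k, hk, e⟩ : ∃ k ∈ Subgroup.closure (Set.range p), M.π k = M.π x := by
    refine Submodule.span_induction (p := fun w _ => ∃ k ∈ Subgroup.closure (Set.range p), M.π k = w)
      ?_ ⟨1, one_mem _, M.π_one⟩ ?_ ?_ (v5.ge (Submodule.mem_top (x := M.π x)))
    · rintro _ ⟨y, rfl⟩; exact ⟨p y, m y, hπ y⟩
    · rintro _ _ _ _ ⟨a, ha, rfl⟩ ⟨b, hb, rfl⟩; exact ⟨_, mul_mem ha hb, M.π_mul (le ha) (le hb)⟩
    · rintro t _ _ ⟨a, ha, rfl⟩
      rcases zmod2_cases t with rfl | rfl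
      exacts [⟨1, one_mem _, by rw [M.π_one, zero_smul]⟩, ⟨a, ha, by rw [one_smul]⟩]
  rcases (M.π_eq hx (le hk)).1 e.symm with rfl | rfl
  exacts [hk, mul_mem hk hz]

/-- the signs of the three components -/
def sg : S33 →* ℤˣ × ℤˣ × ℤˣ := Perm.sign.prodMap (Perm.sign.prodMap Perm.sign)

theorem pure_of_fu (h : T0 z κ p) {u : G} (hu : Fu z u) : ∃ x, u = p x ∨ u = p x * z := by
  have f := fp_of_fu h.big hu
  let P := O2C u ⊓ cen z
  let φ : P →* ℤˣ × ℤˣ × ℤˣ := sg.comp (h.toKap.hom.comp (Subgroup.inclusion inf_le_right))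
  have sq : ∀ a ∈ P, κ a * κ a = 1 := fun a ha => by
    rw [← h.mul _ _ (mem_cen.1 ha.2) (mem_cen.1 ha.2), h.ker _ (mem_cen.1 (mul_mem ha.2 ha.2))]
    rcases f.lu.sq a ha.1 with e | e <;> rw [e]
    exacts [one_mem _, f.um]
  have c1 : Nat.card φ.ker ≤ Nat.card ↥(O2C z ⊓ O2C u) := by
    rw [← Subgroup.card_map_of_injective P.subtype_injective]
    refine Subgroup.card_le_of_le ?_
    rintro _ ⟨a, ha, rfl⟩
    exact ⟨(h.ker _ (mem_cen.1 a.2.2)).1
      ((by decide +kernel : ∀ g : S33, g * g = 1 → sg g = 1 → g = 1) _ (sq a a.2) ha), a.2.1⟩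
  have c2 := h.xs.card_cent (inf_le_left : O2C z ⊓ O2C u ≤ _) f.z_I
  have c3 : Nat.card ↥(O2C z ⊓ O2C u) ≤ _ := Subgroup.card_le_of_le
    (show O2C z ⊓ O2C u ≤ O2C z ⊓ Subgroup.centralizer (↑(O2C z ⊓ O2C u) : Set G) from
      fun i hi => ⟨hi.1, fun j hj => f.commI hj hi⟩)
  have c4 := H93.LX.card_le_two_mul_inf f.lu.toXS le_rfl f.zm
  have c5 : Nat.card φ.ker * Nat.card φ.range = Nat.card P := by
    rw [← Subgroup.index_ker, Subgroup.card_mul_index]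
  rw [h.big.card] at c2
  rw [f.bu.card] at c4
  have c6 : Nat.card ↥(O2C z ⊓ O2C u) ≤ 32 := by
    by_contra! hc
    have := Nat.mul_le_mul hc (hc.trans_le c3)
    omega
  have c7 : φ.range = ⊤ := Subgroup.eq_top_of_le_card _ (by
    rw [show Nat.card (ℤˣ × ℤˣ × ℤˣ) = 8 by simp]
    change _ ≤ 2 * Nat.card P at c4
    by_contra! hc
    have := Nat.mul_le_mul (c1.trans c6) (Nat.le_of_lt_succ hc)
    omega)
  have k : ∀ ε, ∃ g : S33, g * g = 1 ∧ sg g = ε ∧ ∀ y, beta p u (act3 g y) = beta p u y := fun ε => by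
    obtain ⟨a, e⟩ := c7.ge (Subgroup.mem_top ε)
    refine ⟨κ a, sq a a.2, e, fun y => ?_⟩
    rw [← h.beta_conj (mem_cen.1 a.2.2) f.um y, ← f.lu.z_comm a a.2.1, mul_inv_cancel_right]
  obtain ⟨g0, a0, b0, c0⟩ := k (-1, 1, 1)
  obtain ⟨g1, a1, b1, c1⟩ := k (1, -1, 1)
  obtain ⟨g2, a2, b2, c2⟩ := k (1, 1, -1)
  let τ : Fin 3 → Perm (Fin 3) := ![swap 1 2, swap 0 2, swap 0 1]
  obtain ⟨i, rfl⟩ := (by decide +kernel : ∀ g : S33, g * g = 1 → sg g = (-1, 1, 1) →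
    ∃ i, g = (τ i, 1, 1)) g0 a0 b0
  obtain ⟨j, rfl⟩ := (by decide +kernel : ∀ g : S33, g * g = 1 → sg g = (1, -1, 1) →
    ∃ i, g = (1, τ i, 1)) g1 a1 b1
  obtain ⟨l, rfl⟩ := (by decide +kernel : ∀ g : S33, g * g = 1 → sg g = (1, 1, -1) →
    ∃ i, g = (1, 1, τ i)) g2 a2 b2
  obtain ⟨a, b, c, d, e, f', g, k, ev⟩ := h.isVec f.um
  rw [ev] at c0 c1 c2
  have fin : ∀ (i j l : Fin 3) (a b c d e f g k : ZMod 2),
      (∀ y, vec a b c d e f g k (act3 (τ i, 1, 1) y) = vec a b c d e f g k y) →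
      (∀ y, vec a b c d e f g k (act3 (1, τ j, 1) y) = vec a b c d e f g k y) →
      (∀ y, vec a b c d e f g k (act3 (1, 1, τ l) y) = vec a b c d e f g k y) →
      (∀ y, vec a b c d e f g k y = 0) ∨ ∀ y, vec a b c d e f g k y = chi (i, j, l) y := by
    decide +kernel
  rcases fin i j l a b c d e f' g k c0 c1 c2 with r | r
  · rcases (h.beta_eq_zero f.um).1 (ev.trans (funext r)) with r | r
    exacts [absurd r f.lu.z_ne, absurd r hu.2.1]
  · exact ⟨_, (h.beta_eq_chi f.um _).1 (ev.trans (funext r))⟩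

theorem jobT3 : JobT3.{u} := by
  intro G _ _ z κ hk hi
  obtain ⟨p, h⟩ := exists_T0 hk hi
  refine ⟨p, h, fun ⟨u, hu⟩ => ⟨h, fun d => ⟨pure_of_fu h, fun ⟨y, hy⟩ => ?_⟩⟩⟩
  obtain ⟨x, hx⟩ := pure_of_fu h hu
  have n : ∀ x, p x ≠ 1 ∧ p x ≠ z := fun x => not_or.1 fun e =>
    (by decide +kernel : ∀ x, ¬ ∀ y, chi x y = 0) x
      (congrFun ((h.beta_p x).symm.trans ((h.beta_eq_zero (h.mem x)).2 e)))
  have sw : ∀ x, Cj (p x) (p x * z) := fun x =>
    (h.xs.exists_conj_eq (h.mem x) (n x).1 (n x).2).imp fun _ e => e.2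
  have c1 : Cj z (p x) := hx.elim (· ▸ hu.1) fun e => cj_trans (e ▸ hu.1) (cj_symm (sw x))
  obtain ⟨a, ha, e⟩ := h.surj (gam y * (gam x)⁻¹)
  have e2 := h.conj a ha x
  rw [e, act3_mul, show act3 (gam x)⁻¹ x = (0, 0, 0) by
    conv_lhs => enter [2]; rw [← act_gam x]
    rw [act3_inv], act_gam] at e2
  have c2 : Cj z (p y) := e2.elim (fun e => cj_trans c1 ⟨a, e⟩)
    fun e => cj_trans (cj_trans c1 ⟨a, e⟩) (cj_symm (sw y))
  rcases hy with rfl | rfl
  · exact ⟨c2, (n y).2, h.mem y⟩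
  · exact ⟨cj_trans c2 (sw y), fun e => (n y).1 (by simpa using e), mul_mem (h.mem y) h.xs.z_mem⟩

end H31.D4
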