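import Cfsg.Agent.H48.DC4Spec

/-! # S3275, chapter C4: the block case `BK`. -/

set_option autoImplicit false

namespace H31.DP0BK

open Subgroup Cfsg H98 H48.DP H57.DPC H48.DP2
open scoped commutatorElement

universe u

variable {G : Type u} [Group G]

/-- The elements of `L` acting trivially on `X` modulo `N`. -/
def Cm (L X N : Subgroup G) (h : L ≤ No N) : Subgroup G where
  carrier := {c | c ∈ L ∧ ∀ x ∈ X, ⁅x, c⁆ ∈ N}
  one_mem' := ⟨one_mem _, fun x _ => by rw [commutatorElement_one_right]; exact one_mem _⟩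
  mul_mem' := fun {c d} hc hd => ⟨mul_mem hc.1 hd.1, fun x hx => by
    have e : ⁅x, c * d⁆ = ⁅x, c⁆ * (c * ⁅x, d⁆ * c⁻¹) := by
      simp only [commutatorElement_def]; group
    rw [e]
    exact mul_mem (hc.2 x hx) (conj_mem_of_mem_normalizer (h hc.1) (hd.2 x hx))⟩
  inv_mem' := fun {c} hc => ⟨inv_mem hc.1, fun x hx => by
    have e : ⁅x, c⁻¹⁆ = c⁻¹ * ⁅x, c⁆⁻¹ * c := by
      simp only [commutatorElement_def]; group
    rw [e]
    exact conj_mem_of_mem_normalizer' (h hc.1) (inv_mem (hc.2 x hx))⟩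

theorem mem_Cm {L X N : Subgroup G} {h : L ≤ No N} {c : G} :
    c ∈ Cm L X N h ↔ c ∈ L ∧ ∀ x ∈ X, ⁅x, c⁆ ∈ N := Iff.rfl

theorem comm_le_of_mem_Cm {L X N : Subgroup G} {h : L ≤ No N} {c : G} (hc : c ∈ Cm L X N h) :
    ⁅X, zpowers c⁆ ≤ N := commutator_le.2 fun x hx _ hg =>
  (mem_Cm.1 ((zpowers_le.2 hc) hg)).2 x hx

theorem le_No_Cm [Finite G] {L X N : Subgroup G} (h : L ≤ No N) (hX : L ≤ No X) :
    L ≤ No (Cm L X N h) := fun l hl => mem_normalizer_fintype fun c hc => by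
  have hc' := mem_Cm.1 hc
  refine mem_Cm.2 ⟨mul_mem (mul_mem hl hc'.1) (inv_mem hl), fun x hx => ?_⟩
  have e : ⁅x, l * c * l⁻¹⁆ = l * ⁅l⁻¹ * x * l, c⁆ * l⁻¹ := by
    simp only [commutatorElement_def]; group
  rw [e]
  exact conj_mem_of_mem_normalizer (h hl) (hc'.2 _ (conj_mem_of_mem_normalizer' (hX hl) hx))

/-- An element of order 3 of `J C` lies in `C`. -/
theorem mem_of_three {J C : Subgroup G} (hJ : IsPGroup 2 J) (hN : J ≤ No C) {z : G}
    (hz : orderOf z = 3) (hm : z ∈ J ⊔ C) : z ∈ C := by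
  obtain ⟨j, hj, c, hc, rfl⟩ := (mem_sup_left_norm hN).1 hm
  have key : ∀ n : ℕ, (j * c) ^ n * (j ^ n)⁻¹ ∈ C := by
    intro n
    induction n with
    | zero => simp
    | succ n ih =>
      have e : (j * c) ^ (n + 1) * (j ^ (n + 1))⁻¹ =
          (j * c) ^ n * (j ^ n)⁻¹ * (j ^ (n + 1) * c * (j ^ (n + 1))⁻¹) := by
        rw [pow_succ (j * c), pow_succ j]; group
      rw [e]
      exact mul_mem ih (conj_mem_of_mem_normalizer (hN (pow_mem hj _)) hc)
  obtain ⟨k, hk⟩ := hJ ⟨j, hj⟩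
  have hk' : j ^ 2 ^ k = 1 := by simpa using congrArg Subtype.val hk
  have h1 := key (2 ^ k)
  rw [hk', inv_one, mul_one] at h1
  have hco : (2 ^ k).Coprime (orderOf (j * c)) := by
    rw [hz]; exact Nat.Coprime.pow_left _ (by norm_num)
  obtain ⟨m, hm⟩ := exists_pow_eq_self_of_coprime hco
  rw [← hm]
  exact pow_mem h1 m

theorem jobBK : JBK.{u} := by
  intro zi G _ _ M Q J L W y z u n n' t h hw htL htW
  by_contra htJ
  have lt := h.lt
  have bd := h.bd
  have hzy : Commute z y := by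
    obtain ⟨P, -, hy, -, -, hP, -⟩ := bd.syl
    exact (mem_centralizer_singleton_iff.1 (hP hy)).symm
  have hWJ : W ≤ J := fun w hw' => (hw.le hw').1
  have htC : t ∈ Cm L J W hw.nor := mem_Cm.2 ⟨htL, fun x hx =>
    htW (commutator_mem_commutator hx (mem_zpowers t))⟩
  have hLC : L ≤ No (Cm L J W hw.nor) := le_No_Cm hw.nor lt.LN
  have hzC : z ∈ Cm L J W hw.nor := by
    rcases h.sim _ (fun c hc => (mem_Cm.1 hc).1) hLC with h1 | h1
    · exact absurd (h1 htC) htJ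
    · exact mem_of_three h.j2 (lt.JL.trans hLC) bd.z3 (h1 lt.zL)
  have hyJ : zpowers y ≤ No J := zpowers_le.2 lt.yN
  have hDJ : ⁅J, zpowers y⁆ ≤ J := commutator_le_left' hyJ
  have hDz : ⁅J, zpowers y⁆ ≤ C1 z := commutator_le.2 fun j hj g hg => by
    have hw0 : ⁅j, z⁆ ∈ W := (mem_Cm.1 hzC).2 j hj
    have hjg : ⁅j, g⁆ ∈ J := hDJ (commutator_mem_commutator hj hg)
    have c1 : ⁅j, g⁆ * ⁅j, z⁆ = ⁅j, z⁆ * ⁅j, g⁆ := mem_centralizer_iff.1 (hw.le hw0).2.1 _ hjg
    obtain ⟨k, rfl⟩ := mem_zpowers_iff.1 hg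
    have c2 : Commute ⁅j, z⁆ (y ^ k) :=
      (show Commute ⁅j, z⁆ y from mem_centralizer_singleton_iff.1 (hw.yW hw0)).zpow_right k
    have c3 : Commute z (y ^ k) := hzy.zpow_right k
    refine mem_centralizer_singleton_iff.2 ?_
    generalize y ^ k = g at c1 c2 c3
    have e1 : z * ⁅j, g⁆ * z⁻¹ = ⁅j, z⁆⁻¹ * ⁅j, g⁆ * (g * ⁅j, z⁆ * g⁻¹) := by
      have e0 : z * ⁅j, g⁆ * z⁻¹ = (z * j * z⁻¹) * (z * g * z⁻¹) * (z * j⁻¹ * z⁻¹) * (z * g * z⁻¹)⁻¹ := by
        simp only [commutatorElement_def]; group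
      have e2 : z * g * z⁻¹ = g := by rw [c3.eq]; group
      rw [e0, e2]
      simp only [commutatorElement_def]; group
    have e3 : g * ⁅j, z⁆ * g⁻¹ = ⁅j, z⁆ := by rw [← c2.eq]; group
    rw [e3, mul_assoc ⁅j, z⁆⁻¹, c1, ← mul_assoc, inv_mul_cancel, one_mul] at e1
    calc ⁅j, g⁆ * z = z * ⁅j, g⁆ * z⁻¹ * z := by rw [e1]
      _ = z * ⁅j, g⁆ := by group
  by_cases hD : ⁅J, zpowers y⁆ = ⊥
  · have hy : y ∈ J := by
      rw [commutator_comm] at hD
      exact h.cJ (commutator_eq_bot_iff_le_centralizer.1 hD (mem_zpowers y))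
    have := mem_of_three (C := ⊥) h.j2 (le_normalizer_bot J) bd.y3 (by simpa using hy)
    have h3 := bd.y3
    rw [mem_bot.1 this, orderOf_one] at h3
    exact absurd h3 (by norm_num)
  have hLD : L ≤ No ⁅J, zpowers y⁆ := by
    refine h.l0.trans (sup_le (normalizer_commutator_ge_left _ _) ?_)
    refine le_normalizer_commutator (inf_le_left.trans lt.LN) (le_normalizer_of_le_centralizer ?_)
    intro l hl
    refine mem_centralizer_iff.2 fun g hg => ?_
    obtain ⟨k, rfl⟩ := mem_zpowers_iff.1 hg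
    exact ((show Commute l y from mem_centralizer_singleton_iff.1 hl.2).zpow_right k).symm.eq
  have hND : No ⁅J, zpowers y⁆ ≤ No J := lt.uniq _ (h.j2.to_le hDJ) hD hLD
    (normalizer_commutator_ge_right _ _ (mem_zpowers y))
  obtain ⟨A, hA0, hAQ, hAc, hAz, hAC⟩ := zi G M Q y z u bd
  have hAL : A ≤ L := (le_inf hAQ ((le_normalizer_of_le_centralizer
    (hAC.trans (centralizer_anti (le_inf (hDJ.trans lt.JQ) hDz)))).trans hND)).trans h.q1
  have hAJ : A ≤ J := by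
    rw [← hAz]
    refine comm_le_of_mem_Cm (h := lt.LN) (mem_Cm.2 ⟨lt.zL, fun a ha => ?_⟩)
    have c1 : a * (y * z) = y * z * a := mem_centralizer_singleton_iff.1 (hAc ha)
    have e : ⁅a, z⁆ = y⁻¹ * ⁅y, a⁆ * y := by
      calc ⁅a, z⁆ = a * y⁻¹ * a⁻¹ * (a * (y * z)) * a⁻¹ * z⁻¹ := by
            simp only [commutatorElement_def]; group
        _ = y⁻¹ * ⁅y, a⁆ * y := by
            rw [c1]; simp only [commutatorElement_def]; group
    rw [e]
    exact conj_mem_of_mem_normalizer' lt.yN (lt.yL a (hAL ha))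
  have hAW : A ≤ W := by
    rw [← hAz]
    exact (commutator_mono hAJ le_rfl).trans (comm_le_of_mem_Cm hzC)
  apply hA0
  rw [← hAz]
  refine commutator_eq_bot_iff_le_centralizer.2 fun a ha => mem_centralizer_iff.2 fun g hg => ?_
  obtain ⟨k, rfl⟩ := mem_zpowers_iff.1 hg
  have c1 : Commute a (y * z) := mem_centralizer_singleton_iff.1 (hAc ha)
  have c2 : Commute a y := mem_centralizer_singleton_iff.1 (hw.yW (hAW ha))
  have c3 : Commute a z := by
    have := c2.inv_right.mul_right c1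
    rwa [inv_mul_cancel_left] at this
  exact (c3.zpow_right k).symm.eq

end H31.DP0BK
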