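import Cfsg.Agent.H57.U2CSpec

/-! # S3275, chapter U2F: the step `N1` of the non-central case. -/

set_option autoImplicit false

namespace H31.DPVN1

open Subgroup Cfsg H98 H48.DP H57.DPC H48.DP2 H57.U2C
open scoped commutatorElement

universe u

variable {G : Type u} [Group G]

theorem mem_one {x : G} : x ∈ zpowers (1 : G) ↔ x = 1 := by
  rw [zpowers_one_eq_bot, mem_bot]

theorem St_one (U : Subgroup G) : St U (1 : G) = Ce U := by
  ext x
  rw [mem_stab, mem_centralizer_iff, zpowers_one_eq_bot]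
  simp only [mem_bot, commutatorElement_eq_one_iff_mul_comm, SetLike.mem_coe]
  exact ⟨fun h => h.2, fun h => ⟨le_normalizer_bot ⊤ (mem_top x), h⟩⟩

theorem ea_two {V : Subgroup G} (h : IsElementaryAbelian 2 V) : IsPGroup 2 V := fun g =>
  ⟨1, Subtype.ext (by simpa using h.2 g g.2)⟩

theorem ea_comm {V : Subgroup G} (h : IsElementaryAbelian 2 V) {a b : G} (ha : a ∈ V)
    (hb : b ∈ V) : a * b = b * a := by
  have := h.1
  exact congrArg Subtype.val (mul_comm' (⟨a, ha⟩ : V) ⟨b, hb⟩)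

theorem comm_mem_left {V : Subgroup G} {b w : G} (hb : b ∈ V) (hw : w ∈ No V) : ⁅b, w⁆ ∈ V := by
  have e : ⁅b, w⁆ = b * (w * b⁻¹ * w⁻¹) := by simp only [commutatorElement_def]; group
  rw [e]; exact mul_mem hb (conj_mem_of_mem_normalizer hw (inv_mem hb))

theorem comm_mem_right {V : Subgroup G} {b w : G} (hb : b ∈ No V) (hw : w ∈ V) : ⁅b, w⁆ ∈ V := by
  rw [← commutatorElement_inv]; exact inv_mem (comm_mem_left hw hb)

theorem rel_pow [Finite G] {V : Subgroup G} (h : IsPGroup 2 V) (C : Subgroup G) :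
    ∃ k : ℕ, C.relIndex V = 2 ^ k := by
  haveI : Fact (Nat.Prime 2) := ⟨by norm_num⟩
  exact h.index (C.subgroupOf V)

theorem jobN1 : JobN1.{u} := by
  intro gbd goff hy G _ _ M Q K F V M' Q' K' F' V' H v p p' hQ' hQ HV hi HK vV vH hc hv VK
  have two : IsPGroup 2 V := ea_two p.ea
  have two' : IsPGroup 2 V' := ea_two p'.ea
  have twoH : IsPGroup 2 H := two.to_le HV
  have n4 : 4 ≤ (Ce V).relIndex V' := hy G M' Q' K' F' V' (Ce V) p' fun w hw hI h1 hg =>
    hv fun q hq => p'.gd w hw h1 hg (mem_centralizer_singleton_iff.2 (by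
      have e1 : v * w = w * v := mem_centralizer_iff.1 hI v vV
      have e2 : w * (v⁻¹ * q * v) = v⁻¹ * q * v * w :=
        mem_centralizer_iff.1 (p'.QV (mem_cj.1 hq)) w hw
      calc q * w = v * (v⁻¹ * q * v * w) * w⁻¹ * v⁻¹ * w := by group
        _ = v * w * v⁻¹ * q * (v * w⁻¹ * v⁻¹) * w := by rw [← e2]; group
        _ = w * q := by
          have e3 : v * w * v⁻¹ = w := by rw [e1]; group
          have e4 : v * w⁻¹ * v⁻¹ = w⁻¹ := by
            rw [show v * w⁻¹ * v⁻¹ = (v * w * v⁻¹)⁻¹ by group, e3]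
          rw [e3, e4]; group))
  have cen : ∀ {U P : Subgroup G} {x : G}, P ≤ Ce U → x ∈ U → P ≤ C1 x := fun h hx q hq =>
    mem_centralizer_singleton_iff.2 (mem_centralizer_iff.1 (h hq) _ hx).symm
  by_cases hk : (Ce V).relIndex V' ≤ (Ce V').relIndex H
  · have qz : Qz K' V' H 1 := ⟨HK, twoH, fun a ha b hb w hw => mem_one.2
      (commutatorElement_eq_one_iff_mul_comm.2
        (ea_comm p.ea (HV ha) (comm_mem_left (HV hb) (p.KU (VK hw)))))⟩
    have hn : ¬ H ≤ Ce V' := fun h => by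
      rw [relIndex_eq_one.2 h] at hk; omega
    obtain ⟨b, hb, hb'⟩ := SetLike.not_le_iff_exists.1 hn
    rw [mem_centralizer_iff] at hb'
    push Not at hb'
    obtain ⟨w, hw, hbw⟩ := hb'
    obtain ⟨a, ha, h1, h2, -⟩ := goff G K' F' V' H (V' ⊓ Ce V) 1 p'.toMd qz inf_le_left (one_mem _)
      (fun h hh a ha => mem_one.2 (commutatorElement_eq_one_iff_mul_comm.2
        (mem_centralizer_iff.1 hh.2 a (HV ha))))
      (by rw [St_one, inf_relIndex_left]; exact hk) w hw b hb
      (fun e => hbw (commutatorElement_eq_one_iff_mul_comm.1 (mem_one.1 e)).symm)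
    exact hQ ((cen p.QV (comm_mem_left (HV ha) (p.KU (VK hw)))).trans
      (p'.gd _ (comm_mem_right (p'.KU (HK ha)) hw) (fun e => h1 (mem_one.2 e)) h2))
  have qz : Qz K V V' 1 := ⟨VK, two', fun a ha b hb w hw => mem_one.2
    (commutatorElement_eq_one_iff_mul_comm.2 (by
      by_cases hw' : w ∈ H
      · exact ea_comm p'.ea ha (comm_mem_left hb (p'.KU (HK hw')))
      · have hh : v⁻¹ * w ∈ H := by
          have := (mul_mem_iff_of_index_two (H := H.subgroupOf V) hi
            (a := ⟨v⁻¹, inv_mem vV⟩) (b := ⟨w, hw⟩)).2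
            ⟨fun h => absurd ((inv_mem_iff (x := v)).1 (mem_subgroupOf.1 h)) vH,
              fun h => absurd (mem_subgroupOf.1 h) hw'⟩
          exact mem_subgroupOf.1 this
        have m : w * b⁻¹ * w⁻¹ ∈ cj v V' := mem_cj.2 (by
          have := conj_mem_of_mem_normalizer (p'.KU (HK hh)) (inv_mem hb)
          have e : v⁻¹ * (w * b⁻¹ * w⁻¹) * v = v⁻¹ * w * b⁻¹ * (v⁻¹ * w)⁻¹ := by group
          rw [e]; exact this)
        have c1 : Commute a (w * b⁻¹ * w⁻¹) := (mem_centralizer_iff.1 (hc ha) _ m).symm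
        have c2 : Commute a b := ea_comm p'.ea ha hb
        have e : ⁅b, w⁆ = b * (w * b⁻¹ * w⁻¹) := by simp only [commutatorElement_def]; group
        rw [e]
        exact (c2.mul_right c1).eq))⟩
  by_cases hn : H ≤ Ce V'
  · have := gbd G K F V V' H 1 p.toMd qz HV (one_mem _) fun h hh a ha => mem_one.2
      (commutatorElement_eq_one_iff_mul_comm.2 (mem_centralizer_iff.1 (hn hh) a ha))
    rw [St_one, hi] at this
    omega
  obtain ⟨h, hh, hb'⟩ := SetLike.not_le_iff_exists.1 hn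
  rw [mem_centralizer_iff] at hb'
  push Not at hb'
  obtain ⟨b, hb, hbw⟩ := hb'
  have idx : (H ⊓ Ce V').relIndex V ≤ (Ce V).relIndex V' := by
    rw [← relIndex_mul_relIndex (H ⊓ Ce V') H V inf_le_left HV, inf_relIndex_left, hi]
    obtain ⟨i, hi⟩ := rel_pow two' (Ce V)
    obtain ⟨j, hj⟩ := rel_pow twoH (Ce V')
    rw [hi, hj] at hk
    rw [hi, hj, ← pow_succ]
    exact Nat.pow_le_pow_right (by norm_num)
      (Nat.succ_le_of_lt (lt_of_not_ge fun e => hk (Nat.pow_le_pow_right (by norm_num) e)))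
  obtain ⟨a, ha, h1, h2, -⟩ := goff G K F V V' (H ⊓ Ce V') 1 p.toMd qz (inf_le_left.trans HV)
    (one_mem _) (fun h hh a ha => mem_one.2 (commutatorElement_eq_one_iff_mul_comm.2
      (mem_centralizer_iff.1 hh.2 a ha)))
    (by rw [St_one]; exact idx) h (HV hh) b hb
    (fun e => hbw (commutatorElement_eq_one_iff_mul_comm.1 (mem_one.1 e)))
  exact hQ' ((cen p'.QV (comm_mem_left ha (p'.KU (HK hh)))).trans
    (p.gd _ (comm_mem_right (p.KU (VK ha)) (HV hh)) (fun e => h1 (mem_one.2 e)) h2))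

end H31.DPVN1
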