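import Cfsg.Agent.H82.FSSpec3
import Cfsg.Agent.H98.Sylow

/-! Tower FS, slots ZB and ZA3. -/

set_option autoImplicit false

namespace H31.FsZA

open Cfsg Subgroup H82.FS
open H98 (IsSyl)
open scoped commutatorElement Pointwise

universe u

variable {G : Type u} [Group G]

theorem ne_of_nor {c : G} {X Y : Subgroup G} (h : c ∈ normalizer (X : Set G)) (ne : Y ≠ X) :
    cj c Y ≠ X := fun e => ne (cj_inj (e.trans (cj_eq_iff.2 h).symm))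

theorem jobZB : JobZB.{u} := by
  intro G _ _ p A N X Δ S h hX hZ d ⟨l, K0, hl, l2, hp, le, mx, Y, hY, ne, nY, tr⟩ K nK odd ZK fix
  haveI := Fact.mk hl
  obtain ⟨z, hz, z1⟩ := (bot_or_exists_ne_one _).resolve_left hZ
  have DΓ : Δ ⊓ centralizer ((⁅X, X⁆ : Subgroup G) : Set G) ≤ Gam A X := fun a ha =>
    ⟨⟨hX.cz h hz z1 (mem_centralizer_singleton_iff.2 (ha.2 z hz).symm), d.le ha.1⟩, ha.2⟩
  have K0K : K0 ≤ K := fun a ha => odd a (DΓ (le ha)) (by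
    obtain ⟨k, e⟩ := H98.isPGroup_iff_forall.1 hp a ha
    exact Odd.of_dvd_nat (hl.odd_of_ne_two l2).pow (orderOf_dvd_of_pow_eq_one e))
  have sy : IsSyl l K0 (K ⊓ (Δ ⊓ centralizer ((⁅X, X⁆ : Subgroup G) : Set G))) :=
    ⟨le_inf K0K le, hp, fun Q h1 h2 h3 => mx Q h1 (h3.trans inf_le_right) h2⟩
  intro g hg
  obtain ⟨a, ha, n, hn, rfl⟩ := sy.frattini_mem (le_norm_inf nK (le_norm_inf
    ((inf_le_left.trans inf_le_right).trans d.nor) (inf_le_right.trans le_normalizer)) hg)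
  have aΓ : a ∈ Gam A X := (mul_mem_cancel_right (DΓ hn.2)).1 hg
  obtain ⟨y, hy, e⟩ := tr _ (hY.cj aΓ.1.2) (ne_of_nor aΓ.1.1 ne) (by
    rw [← cj_norm, ← cj_eq_iff.2 ha]; exact cj_mono a nY)
  refine mul_mem ((mul_mem_cancel_left (inv_mem (ZK hy))).1 (fix _ (mul_mem (inv_mem (DΓ
    ⟨d.sd (d.zs hy), d.sc (d.zs hy)⟩)) aΓ) Y hY ne (cj_eq_iff.1 ?_))) hn.1
  rw [cj_mul, e, cj_inv_cj]

theorem Z_sq {A X : Subgroup G} (h : Cls 2 A X) {z : G} (hz : z ∈ ⁅X, X⁆) : z ^ 2 = 1 := by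
  have c : ∀ {a b}, a ∈ ⁅X, X⁆ → b ∈ X → Commute b a := fun ha hb => h.2.1 ha _ hb
  have le : ⁅X, X⁆ ≤ X := comm_le_left le_normalizer
  let T : Subgroup G :=
    { carrier := {z | z ∈ ⁅X, X⁆ ∧ z ^ 2 = 1}
      one_mem' := ⟨one_mem _, one_pow _⟩
      mul_mem' := fun ha hb => ⟨mul_mem ha.1 hb.1, by
        rw [(c hb.1 (le ha.1)).mul_pow, ha.2, hb.2, one_mul]⟩
      inv_mem' := fun ha => ⟨inv_mem ha.1, by rw [inv_pow, ha.2, inv_one]⟩ }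
  refine ((commutator_le (H₃ := T)).2 (fun a ha b hb => ?_) hz).2
  have m := commutator_mem_commutator ha hb
  refine ⟨m, ?_⟩
  calc ⁅a, b⁆ ^ 2 = a * ⁅a, b⁆ * a⁻¹ * ⁅a, b⁆ := by rw [(c m ha).eq, pow_two]; group
    _ = a ^ 2 * b * (a ^ 2)⁻¹ * b⁻¹ := by simp only [commutatorElement_def, pow_two]; group
    _ = 1 := by rw [← (c (h.2.2 a ha) hb).eq]; group

theorem jobZA3 : JobZA3.{u} := by
  intro G _ _ p A N X Δ h bf hX cf hZ le nor ZΔ sy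
  have cl := h.cls X hX.1
  obtain ⟨S0, hS⟩ := (H98.isPGroup_subgroupOf (hX.1.1.to_le (comm_le_left le_normalizer :
    ⁅X, X⁆ ≤ X)) Δ).exists_le_sylow
  obtain ⟨Z, s⟩ := sy S0
  obtain ⟨z, hz, z1⟩ := (bot_or_exists_ne_one _).resolve_left hZ
  have ZZ : ∀ w : Δ, w.1 ∈ ⁅X, X⁆ → w ∈ Z := fun w hw =>
    (s.inv w).2 ⟨hS hw, Subtype.ext (Z_sq cl hw)⟩
  have z1' : (⟨z, ZΔ hz⟩ : Δ) ≠ 1 := fun e => z1 (congrArg Subtype.val e)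
  have SN : ∀ w ∈ S0, w.1 ∈ normalizer (X : Set G) := fun w hw => hX.cz h hz z1
    (mem_centralizer_singleton_iff.2 (congrArg Subtype.val (s.cen hw _ (ZZ ⟨z, ZΔ hz⟩ hz))).symm)
  have zl : ∀ c ∈ centralizer (A : Set G), c * z * c⁻¹ ∈ normalizer (X : Set G) →
      c ∈ normalizer (X : Set G) := fun c hc e => cj_eq_iff.1 (by
    by_contra ne
    have := (bf.zl _ _ (hX.cj hc) hX ne).le ⟨cj_comm c X X ▸ conj_mem_cj hz, e⟩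
    exact z1 (conj_eq_one_iff.1 this))
  have k1 : ∀ d : Δ, d • S0 = S0 ↔ d.1 ∈ normalizer (X : Set G) := fun d =>
    ⟨fun e => zl d (le d.2) (SN (d * ⟨z, ZΔ hz⟩ * d⁻¹) (H98.conj_mem_of_mem_normalizer
      (Sylow.smul_eq_iff_mem_normalizer.1 e) (hS hz))), fun e => by
      by_contra ne
      refine z1' (s.free _ ne _ (hS hz) (Sylow.smul_eq_iff_mem_normalizer.2 (le_normalizer ?_)))
      have : d.1⁻¹ * z * d ∈ ⁅X, X⁆ := mem_cj.1 ((cj_eq_iff.2 (le_norm_comm le_rfl le_rfl e)).ge hz)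
      exact ⟨d⁻¹ * ⟨z, ZΔ hz⟩ * d, hS this, by simp [mul_assoc]⟩⟩
  have k2 : ∀ d d' : Δ, d • S0 = d' • S0 ↔ cj d.1 X = cj d'.1 X := fun d d' => by
    rw [← inv_smul_eq_iff, smul_smul, k1, ← cj_eq_iff, coe_mul, cj_mul, coe_inv]
    exact ⟨fun e => by rw [← cj_cj_inv d'.1 (cj d.1 X), e], fun e => by rw [e, cj_inv_cj]⟩
  have k3 : ∀ d : Δ, d • S0 ≠ S0 ↔ cj d.1 X ≠ X := fun d => by rw [Ne, k1, Ne, cj_eq_iff]
  have k4 : ∀ a d d' : Δ, a • d • S0 = d' • S0 ↔ cj a.1 (cj d.1 X) = cj d'.1 X := fun a d d' => by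
    rw [smul_smul, k2, coe_mul, cj_mul]
  have ZX : ∀ w ∈ Z, w.1 ∈ ⁅X, X⁆ := fun w hw => by
    by_cases w1 : w = 1
    · rw [w1]; exact one_mem _
    obtain ⟨d, e, rfl⟩ := s.trz _ (ZZ ⟨z, ZΔ hz⟩ hz) w hw z1' w1
    exact H98.conj_mem_of_mem_normalizer (le_norm_comm le_rfl le_rfl ((k1 d).1 e)) hz
  have cz : ∀ a : Δ, a ∈ centralizer (Z : Set Δ) ↔
      a.1 ∈ centralizer ((⁅X, X⁆ : Subgroup G) : Set G) := fun a =>
    ⟨fun e w hw => congrArg Subtype.val (e ⟨w, ZΔ hw⟩ (ZZ _ hw)),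
      fun e w hw => Subtype.ext (e _ (ZX w hw))⟩
  have tr : ∀ W, Blk 2 A W → ∃ d : Δ, W = cj d.1 X := fun W hW => by
    obtain ⟨c, hc, rfl⟩ := cf.tr W hW
    have sy := H98.isSyl_map_subtype S0
    obtain ⟨g, hg, e⟩ := (sy.cj_of_mem_normalizer (nor hc)).exists_cj_eq sy
    rw [H98.cj_cj] at e
    obtain ⟨w, hw, e'⟩ := e.le (conj_mem_cj (mem_map_of_mem Δ.subtype (hS (x := ⟨z, ZΔ hz⟩) hz)))
    have := cj_eq_iff.2 (zl _ (mul_mem (le hg) hc) ((show w.1 = g * c * z * (g * c)⁻¹ from e') ▸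
      SN w hw))
    exact ⟨⟨g⁻¹, inv_mem hg⟩, by rw [← cj_inv_cj g (cj c X), ← cj_mul g, this]⟩
  refine ⟨(S0 : Subgroup Δ).map Δ.subtype, ⟨le, nor, fun w hw => ⟨⟨w, ZΔ hw⟩, hS hw, rfl⟩,
    map_subtype_le _, S0.2.map _, ?_, fun Y Y' hY hY' ne ne' => ?_, fun Y hY ne => ?_,
    fun W hW => ?_, fun w hw w' hw' w1 w1' => ?_⟩, ?_⟩
  · rintro _ ⟨a, ha, rfl⟩
    exact (cz a).1 (s.cen ha)
  · obtain ⟨d, rfl⟩ := tr Y hY
    obtain ⟨d', rfl⟩ := tr Y' hY'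
    obtain ⟨a, ha, e⟩ := s.reg _ _ ((k3 d).2 ne) ((k3 d').2 ne')
    exact ⟨a, ⟨a, ha, rfl⟩, ((k4 a d d').1 e.symm).symm⟩
  · obtain ⟨d, rfl⟩ := tr Y hY
    refine eq_bot_iff.2 ?_
    rintro _ ⟨⟨a, ha, rfl⟩, e⟩
    exact congrArg Subtype.val (s.free _ ((k3 d).2 ne) a ha ((k4 a d d).2 (cj_eq_iff.2 e)))
  · obtain ⟨d, e⟩ := tr W hW
    exact ⟨d, d.2, e⟩
  · obtain ⟨d, e, e'⟩ := s.trz _ (ZZ ⟨w, ZΔ hw⟩ hw) _ (ZZ ⟨w', ZΔ hw'⟩ hw')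
      (fun e => w1 (congrArg Subtype.val e)) (fun e => w1' (congrArg Subtype.val e))
    exact ⟨d, d.2, (k1 d).1 e, congrArg Subtype.val e'⟩
  refine s.alt.imp ?_ ?_
  · rintro ⟨l, K, hl, l2, hp, KZ, mx, T, ne, fx, un⟩
    obtain ⟨d, rfl⟩ := MulAction.exists_smul_eq Δ S0 T
    refine ⟨l, K.map Δ.subtype, hl, l2, hp.map _, ?_, fun K' h1 h2 h3 => ?_, _,
      hX.cj (le d.2), (k3 d).1 ne, ?_, fun Y hY ne' nY => ?_⟩
    · rintro _ ⟨a, ha, rfl⟩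
      exact ⟨a.2, (cz a).1 (KZ ha)⟩
    · rw [← mx (K'.subgroupOf Δ) (H98.isPGroup_subgroupOf h1 Δ) (fun a ha => (cz a).2 (h2 ha).2)
        (map_le_iff_le_comap.1 h3), subgroupOf_map_subtype, inf_eq_left.2 (h2.trans inf_le_left)]
    · rintro _ ⟨a, ha, rfl⟩
      exact cj_eq_iff.1 ((k4 a d d).1 (fx a ha))
    · obtain ⟨d', rfl⟩ := tr Y hY
      obtain ⟨w, hw, e⟩ := un _ ((k3 d').2 ne') fun a ha =>
        (k4 a d' d').2 (cj_eq_iff.2 (nY ⟨a, ha, rfl⟩))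
      exact ⟨w, ZX w hw, ((k4 w d d').1 e.symm).symm⟩
  · rintro ⟨n, h1, h2, h3, h4⟩
    refine ⟨n, h1, h2, ?_, by rw [card_map_of_injective Δ.subtype_injective, h4]⟩
    rw [← h3, show Z = (⁅X, X⁆ : Subgroup G).subgroupOf Δ from le_antisymm ZX ZZ]
    exact (Nat.card_congr (subgroupOfEquivOfLe ZΔ).toEquiv).symm

end H31.FsZA
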