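import Cfsg.Agent.H31.FsZA
import Cfsg.Agent.H47.Orbit
import Cfsg.Agent.H27.Zsigmondy

/-! Tower FS, slots ZC and ZD. -/

set_option autoImplicit false

namespace H31.FsZC

open Cfsg Subgroup H82.FS H31.FsZA
open H98 (IsSyl)
open scoped commutatorElement

universe u

variable {G : Type u} [Group G]

/-- the orbit of `A` under `W` -/
def ob (W A : Subgroup G) : Set (Subgroup G) := {M | ∃ a ∈ W, cj a A = M}

theorem card_ob (W A : Subgroup G) : (ob W A).ncard = (normalizer (A : Set G)).relIndex W :=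
  H47.ncard_cj_orbit W A

variable [Finite G] {p : ℕ} {A N X Y Δ S : Subgroup G}

theorem S_nor (h : Geo p 2 A N) (hX : Blk 2 A X) (d : Del A X Δ S) (hZ : ⁅X, X⁆ ≠ ⊥) :
    S ≤ normalizer (X : Set G) := fun a ha => by
  obtain ⟨z, hz, z1⟩ := (bot_or_exists_ne_one _).resolve_left hZ
  exact hX.cz h hz z1 (mem_centralizer_singleton_iff.2 (d.sc ha z hz).symm)

omit [Finite G] in
theorem idx0 (d : Del A X Δ S) (hY : Blk 2 A Y) (ne : Y ≠ X) {T : Subgroup G} (hT : T ≤ S) :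
    (ob T Y).ncard = Nat.card T := by
  rw [card_ob, ← inf_relIndex_right, eq_bot_iff.2 ((inf_le_inf_left _ hT).trans
    ((inf_comm _ _).trans (d.free Y hY ne)).le), relIndex_bot_left]

theorem idx (d : Del A X Δ S) (SN : S ≤ normalizer (X : Set G)) (hY : Blk 2 A Y) (ne : Y ≠ X)
    {T U : Subgroup G} (hT : T ≤ S) (TU : T ≤ U) (h1 : ∃ u ∈ U, cj u X = Y)
    (h2 : ∀ u ∈ U, cj u X ≠ X → ∃ s ∈ T, cj u X = cj s Y) : (ob U X).ncard = Nat.card T + 1 := by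
  rw [← idx0 d hY ne hT, ← Set.ncard_insert_of_notMem (a := X) (s := ob T Y)
    fun ⟨a, ha, e⟩ => ne_of_nor (SN (hT ha)) ne e]
  congr 1
  ext M
  refine ⟨?_, ?_⟩
  · rintro ⟨u, hu, rfl⟩
    by_cases e : cj u X = X
    · exact .inl e
    · obtain ⟨s, hs, e⟩ := h2 u hu e
      exact .inr ⟨s, hs, e.symm⟩
  · obtain ⟨u, hu, rfl⟩ := h1
    rintro (rfl | ⟨s, hs, rfl⟩)
    exacts [⟨1, one_mem _, cj_one _⟩, ⟨_, mul_mem (TU hs) hu, cj_mul _ _ _⟩]

omit [Finite G] in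
theorem ne_bot {n : ℕ} (h : 3 ≤ n) (e : Nat.card A = 2 ^ n) : A ≠ ⊥ := fun e' => by
  rw [e', card_bot] at e
  exact absurd e (Nat.one_lt_two_pow (by omega)).ne

theorem nt {n s : ℕ} (h0 : 0 < n) (h1 : n ≤ s) (h2 : s ≤ 2 * n)
    (h : 2 ^ s + 1 ∣ 2 ^ (2 * n) * (2 ^ (2 * n) + 1)) : s = 2 * n := by
  obtain ⟨j, e⟩ := Nat.exists_eq_add_of_le h2
  have c : Nat.Coprime (2 ^ s + 1) (2 ^ (2 * n)) := Nat.Coprime.pow_right _
    (Nat.coprime_two_right.2 (Even.add_one (Nat.even_pow.2 ⟨even_two, by omega⟩)))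
  have h3 := c.dvd_of_dvd_mul_left h
  obtain ⟨w, hw⟩ := Nat.exists_eq_add_of_le (Nat.one_le_two_pow (n := j))
  have h4 : 2 ^ s + 1 ∣ w := by
    rw [← Nat.dvd_add_right h3, e, pow_add, hw]
    exact ⟨1 + w, by ring⟩
  have h5 : 2 ^ j ≤ 2 ^ s := Nat.pow_le_pow_right two_pos (by omega)
  have h6 := Nat.eq_zero_of_dvd_of_lt h4 (by omega)
  have : j = 0 := by simpa [h6] using hw
  omega

theorem jobZC : JobZC.{u} := by
  intro G _ _ p A N X Δ S h iso _ _ hX cf d ⟨n, _, n3, cZ, cS⟩ L X1 Y1 hL hX1 hY1 ne1 l1 l2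
  by_contra L0
  obtain ⟨Y, hY, ne⟩ := cf.ne.2
  have SN := S_nor h hX d (ne_bot n3 cZ)
  have t2 : ∀ W W', Blk 2 A W → Blk 2 A W' → W ≠ W' → ∃ a ∈ Δ, cj a X = W ∧ cj a Y = W' :=
    fun W W' hW hW' e => by
      obtain ⟨a, ha, rfl⟩ := d.tr W hW
      obtain ⟨s, hs, e'⟩ := d.reg Y _ hY (hW'.cj (d.le (inv_mem ha))) ne
        fun e' => e (by rw [← e', cj_cj_inv])
      exact ⟨_, mul_mem ha (d.sd hs), by rw [cj_mul, cj_eq_iff.2 (SN hs)],
        by rw [cj_mul, ← e', cj_cj_inv]⟩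
  have nA := le_norm_inf hX.1.2.1 hY.1.2.1
  have hΛ := sp_comm h.lin (hX.1.1.to_le inf_le_left) nA
  have ΛXY := comm_le_left nA
  have sub : ∀ c ∈ centralizer (A : Set G), ∀ L, Sp 2 A L → L ≤ cj c X → L ≤ cj c Y →
      L ≤ cj c ⁅X ⊓ Y, A⁆ := fun c hc L hL e e' => by
    rw [cj_comm, cj_inf, cj_eq_of_cen hc, ← hL.2.2]
    exact commutator_mono (le_inf e e') le_rfl
  generalize ⁅X ⊓ Y, A⁆ = Λ at hΛ ΛXY sub
  have Λ0 : Λ ≠ ⊥ := fun e => by
    obtain ⟨a, ha, rfl, rfl⟩ := t2 _ _ hX1 hY1 ne1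
    exact L0 (eq_bot_iff.2 ((sub a (d.le ha) L hL l1 l2).trans (by rw [e, cj_bot])))
  have st : ∀ c ∈ centralizer (A : Set G), Λ ≤ cj c X → Λ ≤ cj c Y →
      c ∈ normalizer (Λ : Set G) := fun c hc e e' =>
    cj_eq_iff.1 (eq_of_le_of_card_ge (sub c hc Λ hΛ e e') (card_cj c Λ).le).symm
  have ΛX := ΛXY.trans inf_le_left
  have ΛY := ΛXY.trans inf_le_right
  obtain ⟨u, hu, u1, u2⟩ := t2 Y X hY hX ne
  have k := idx d SN hY ne (T := S ⊓ normalizer (Λ : Set G)) (U := Δ ⊓ normalizer (Λ : Set G))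
    inf_le_left (inf_le_inf_right _ d.sd) ⟨u, ⟨hu, st u (d.le hu) (u1 ▸ ΛY) (u2 ▸ ΛX)⟩, u1⟩
    fun a ha e => by
      obtain ⟨s, hs, e'⟩ := d.reg Y _ hY (hX.cj (d.le ha.1)) ne e
      exact ⟨s, ⟨hs, st s (d.le (d.sd hs)) ((cj_eq_iff.2 (SN hs)).symm ▸ ΛX)
        (e' ▸ cj_eq_iff.2 ha.2 ▸ cj_mono a ΛX)⟩, e'⟩
  have b := idx d SN hY ne le_rfl d.sd ⟨u, hu, u1⟩
    fun a ha e => d.reg Y _ hY (hX.cj (d.le ha)) ne e
  have b' : (ob (normalizer (X : Set G) ⊓ Δ) Y).ncard = Nat.card S := by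
    rw [← idx0 d hY ne le_rfl]
    congr 1
    ext M
    refine ⟨?_, fun ⟨s, hs, e⟩ => ⟨s, ⟨SN hs, d.sd hs⟩, e⟩⟩
    rintro ⟨a, ha, rfl⟩
    obtain ⟨s, hs, e⟩ := d.reg Y _ hY (hY.cj (d.le ha.2)) ne (ne_of_nor ha.1 ne)
    exact ⟨s, hs, e.symm⟩
  rw [card_ob] at k b b'
  haveI := Fact.mk Nat.prime_two
  obtain ⟨s, cT⟩ := IsPGroup.iff_card.1 (d.s2.to_le (inf_le_left (b := normalizer (Λ : Set G))))
  have cl := h.cls X hX.1
  have s1 := card_dvd_of_le (le_inf d.zs (cl.2.1.trans ((centralizer_le ΛX).trans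
    (centralizer_le_normalizer _))))
  have s2 := card_dvd_of_le (inf_le_left : S ⊓ normalizer (Λ : Set G) ≤ S)
  rw [cZ, cT, Nat.pow_dvd_pow_iff_le_right one_lt_two] at s1
  rw [cS, cT, Nat.pow_dvd_pow_iff_le_right one_lt_two] at s2
  have s3 := nt (by omega) s1 s2 (by
    rw [← cT, ← cS, ← k, ← b, ← b', relIndex_inf_mul_relIndex, ← inf_relIndex_right _ Δ,
      ← relIndex_mul_relIndex (_ ⊓ _ ⊓ Δ) (Δ ⊓ normalizer (Λ : Set G)) Δ (fun a ha => ⟨ha.2, st a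
        (d.le ha.2) ((cj_eq_iff.2 ha.1.2).symm ▸ ΛX) ((cj_eq_iff.2 ha.1.1).symm ▸ ΛY)⟩) inf_le_left]
    exact (relIndex_dvd_of_le_left _ (inf_le_left.trans inf_le_right)).mul_right _)
  have SΛ : S ≤ normalizer (Λ : Set G) :=
    inf_eq_left.1 (eq_of_le_of_card_ge inf_le_left (by rw [cT, cS, s3]))
  have all : ∀ W, Blk 2 A W → Λ ≤ W := fun W hW => by
    by_cases e : W = X
    · exact e ▸ ΛX
    obtain ⟨s, hs, rfl⟩ := d.reg Y W hY hW ne e
    exact cj_eq_iff.2 (SΛ hs) ▸ cj_mono s ΛY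
  have ab : ∀ a ∈ Λ, ∀ b ∈ Λ, Commute a b := fun a ha b hb => commutatorElement_eq_one_iff_commute.1
    ((hX.Z_inf h hY ne.symm).le ⟨commutator_mem_commutator (ΛX ha) (ΛX hb),
      commutator_mem_commutator (ΛY ha) (ΛY hb)⟩)
  have cm : Λ ≤ centralizer (normalClosure (Λ : Set G) : Set G) := fun b hb => by
    rw [normalClosure, centralizer_closure]
    intro a' ha'
    obtain ⟨a, ha, e⟩ := Group.mem_conjugatesOfSet_iff.1 ha'
    obtain ⟨g, rfl⟩ := isConj_iff.1 e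
    obtain ⟨k, hk, e⟩ := h.lin.exists_kl g
    obtain ⟨W, hW, kW⟩ := exists_blk (h.lin.kl_sp g)
    have hc := iso (cj_eq_iff.1 (show cj (k⁻¹ * g) A = A by rw [cj_mul, e, cj_inv_cj]))
    have m := H98.conj_mem_of_mem_normalizer (st _ hc (all _ (hX.cj hc)) (all _ (hY.cj hc))) ha
    have c1 : Commute b _ :=
      (h.cls W hW.1).2.1 (commutator_mem_commutator (kW hk) (all W hW m)) b (all W hW hb)
    have := c1.symm.mul_left (ab _ m b hb)
    rwa [show ⁅k, k⁻¹ * g * a * (k⁻¹ * g)⁻¹⁆ * (k⁻¹ * g * a * (k⁻¹ * g)⁻¹) = g * a * g⁻¹ by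
      rw [commutatorElement_def]; group] at this
  have cQ := normalClosure_le_normal cm
  haveI := h.norm
  haveI := h.simple
  rcases (inferInstance : ((normalClosure (Λ : Set G)).subgroupOf N).Normal).eq_bot_or_eq_top
    with e | e
  · refine Λ0 (eq_bot_iff.2 (le_normalClosure.trans ?_))
    rw [← h.cen, ← commutator_eq_bot_iff_le_centralizer, eq_bot_iff]
    exact (commutator_le_inf _ N).trans (subgroupOf_eq_bot.1 e).le_bot
  · have e := subgroupOf_eq_top.1 e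
    exact h.nab ⟨⟨fun a b => Subtype.ext (cQ (e b.2) _ (e a.2))⟩⟩

theorem fix_mod {l : ℕ} [Fact l.Prime] {T : Subgroup G} (hT : IsPGroup l T) {Ω : Set (Subgroup G)}
    (h : ∀ t ∈ T, ∀ R ∈ Ω, cj t R ∈ Ω) :
    Ω.ncard ≡ {R | R ∈ Ω ∧ T ≤ normalizer (R : Set G)}.ncard [MOD l] := by
  let _ : MulAction T Ω :=
    { smul := fun t R => ⟨cj t R, h t t.2 R R.2⟩
      one_smul := fun R => Subtype.ext (cj_one _)
      mul_smul := fun a b R => Subtype.ext (cj_mul _ _ _) }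
  have e := hT.card_modEq_card_fixedPoints Ω
  rw [Nat.card_coe_set_eq] at e
  rw [← Nat.card_coe_set_eq {R | _ ∧ _}, ← Nat.card_congr (α := MulAction.fixedPoints T Ω)
    ⟨fun x => ⟨x.1.1, x.1.2, fun t ht => cj_eq_iff.1 (congrArg Subtype.val (x.2 ⟨t, ht⟩))⟩,
      fun x => ⟨⟨x.1, x.2.1⟩, fun t => Subtype.ext (cj_eq_iff.2 (x.2.2 t.2))⟩, fun _ => rfl,
      fun _ => rfl⟩]
  exact e

omit [Finite G] in
theorem idx1 (y : G) (N : Subgroup G) {S : Set G} (h : ∀ v, v ∈ S ↔ ∃ n ∈ N, n * y * n⁻¹ = v) :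
    (centralizer ({y} : Set G)).relIndex N = S.ncard := by
  have := @MulAction.index_stabilizer N G _
    (MulAction.compHom G ((MulAut.conj : G →* MulAut G).comp N.subtype)) y
  convert this using 2
  · unfold relIndex
    congr 1
    ext d
    rw [mem_subgroupOf, mem_centralizer_singleton_iff]
    exact mul_inv_eq_iff_eq_mul.symm
  · ext v
    exact (h v).trans ⟨fun ⟨d, hd, e⟩ => ⟨⟨d, hd⟩, e⟩, fun ⟨d, e⟩ => ⟨d, d.2, e⟩⟩

theorem ar {n k v m : ℕ} (h0 : 0 < n) (h1 : n ≤ k) (hm : ¬ 2 ∣ m) (v0 : 0 < v)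
    (e : (4 ^ n + 1) * v = 4 ^ k * m) (e' : (4 ^ n + 1) * (4 ^ k - 1) = v - 1) : False := by
  obtain ⟨j, rfl⟩ := Nat.exists_eq_add_of_le h1
  have q2 : 2 ∣ 4 ^ n := dvd_pow (by decide) h0.ne'
  have t2 : j = 0 ∨ 2 ∣ 4 ^ j := (Nat.eq_zero_or_pos j).imp_right fun h => dvd_pow (by decide) h.ne'
  have q0 : 0 < 4 ^ n := by positivity
  obtain ⟨w, hw⟩ := Nat.exists_eq_add_of_le' (Nat.one_le_pow (n + j) 4 (by decide))
  rw [hw, Nat.add_sub_cancel] at e'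
  rw [pow_add] at hw e
  have e1 : (4 ^ n + 1) * (4 ^ j + w) = 4 ^ j * m := Nat.eq_of_mul_eq_mul_left q0 (by
    rw [← mul_assoc _ (4 ^ j), ← e, show v = (4 ^ n + 1) * w + 1 by omega]
    generalize 4 ^ n = q at hw
    rw [mul_left_comm, mul_add q, hw]; ring)
  have w2 : ¬ 2 ∣ w := by
    have := q2.mul_right (4 ^ j)
    omega
  rcases t2 with rfl | t2
  · rw [pow_zero, one_mul] at e1
    exact hm (e1 ▸ Dvd.dvd.mul_left (by omega) _)
  · rcases (Nat.prime_two.dvd_mul).1 (e1 ▸ t2.mul_right m) with h | h <;> omega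

theorem jobZD : JobZD.{u} := by
  intro par G _ _ p A N X Δ S h iso hX cf d ⟨n, no, n3, cZ, cS⟩ nb
  obtain ⟨Y, hY, ne⟩ := cf.ne.2
  have hZ := ne_bot n3 cZ
  have SN := S_nor h hX d hZ
  have cl := h.cls X hX.1
  have eN : normalizer (A : Set G) = centralizer (A : Set G) :=
    le_antisymm iso (centralizer_le_normalizer _)
  have ZX : ⁅X, X⁆ ≤ X := comm_le_left le_normalizer
  have pw : ∀ W, ⁅X, X⁆ ≤ W → W ≤ X → A ≤ normalizer (W : Set G) → ∃ k, (ob W A).ncard = 4 ^ k ∧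
      Nat.card W = Nat.card (⁅X, X⁆ : Subgroup G) * 4 ^ k := fun W h1 h2 h3 => by
    obtain ⟨k, e⟩ := par G p A N X h hX.1 hZ W h1 h2 h3
    refine ⟨k, ?_, e⟩
    have := ((⁅X, X⁆ : Subgroup G).subgroupOf W).card_mul_index
    rw [Nat.card_congr (subgroupOfEquivOfLe h1).toEquiv, e] at this
    rw [card_ob, eN, ← inf_relIndex_right, show centralizer (A : Set G) ⊓ W = ⁅X, X⁆ from
      le_antisymm (fun a ha => cl.1.ge ⟨h2 ha.2, ha.1⟩) (le_inf (h.Z_cen hX.1) h1)]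
    exact Nat.eq_of_mul_eq_mul_left Nat.card_pos this
  obtain ⟨k, ek, ck⟩ := pw X ZX le_rfl hX.1.2.1
  have nk : n ≤ k := by
    obtain ⟨l, hl, l1, l2⟩ := H27.zsigmondy 2 n one_lt_two (by omega)
      (by rintro ⟨-, rfl⟩; exact absurd no (by decide)) (by omega)
    haveI := Fact.mk hl
    obtain ⟨z, hz, z1⟩ := (bot_or_exists_ne_one _).resolve_left hZ
    obtain ⟨P, hP⟩ := H98.exists_isSyl l (Δ ⊓ normalizer (X : Set G))
    have PA : P ≤ centralizer (A : Set G) := hP.le.trans (inf_le_left.trans d.le)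
    have PX : P ≤ normalizer (X : Set G) := hP.le.trans inf_le_right
    have PZ := sup_le PA (h.Z_cen hX.1)
    have cmm : ∀ u ∈ X, ∀ c ∈ P, ⁅u, c⁆ ∈ X := fun u hu c hc => by
      rw [commutatorElement_def, mul_assoc, mul_assoc, ← mul_assoc c]
      exact mul_mem hu (H98.conj_mem_of_mem_normalizer (PX hc) (inv_mem hu))
    obtain ⟨j, ej, cj'⟩ := pw (X ⊓ normalizer ((P ⊔ ⁅X, X⁆ : Subgroup G) : Set G))
      (le_inf ZX (le_sup_right.trans le_normalizer)) inf_le_left (le_norm_inf hX.1.2.1 (le_norm_norm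
        ((le_centralizer_iff.1 PZ).trans (centralizer_le_normalizer _))))
    have md := fix_mod hP.isPGroup (Ω := ob X A) (by
      rintro c hc _ ⟨u, hu, rfl⟩
      exact ⟨_, H98.conj_mem_of_mem_normalizer (PX hc) hu, by
        rw [cj_mul, cj_eq_of_cen (inv_mem (PA hc)), cj_mul]⟩)
    rw [ek, show {R | R ∈ ob X A ∧ P ≤ normalizer (R : Set G)} =
      ob (X ⊓ normalizer ((P ⊔ ⁅X, X⁆ : Subgroup G) : Set G)) A from Set.ext fun R => ⟨?_, ?_⟩,
      ej] at md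
    rotate_left
    · rintro ⟨⟨u, hu, rfl⟩, e⟩
      refine ⟨u, mem_inf.2 ⟨hu, (inv_mem_iff (x := u)).1 (norm_of_cj_le ?_)⟩, rfl⟩
      rw [cj_sup, cj_eq_of_cen (le_centralizer_iff.1 cl.2.1 (inv_mem hu))]
      refine sup_le ?_ le_sup_right
      rintro _ ⟨c, hc, rfl⟩
      have := e hc
      rw [← cj_norm, mem_cj, eN] at this
      have m : ⁅u⁻¹, c⁆ ∈ ⁅X, X⁆ := cl.1.ge (mem_inf.2 ⟨cmm _ (inv_mem hu) c hc, by
        rw [commutatorElement_def, inv_inv]; exact mul_mem this (inv_mem (PA hc))⟩)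
      have := mul_mem (mem_sup_right m : _ ∈ P ⊔ _) (mem_sup_left hc)
      simpa [commutatorElement_def] using this
    · rintro ⟨u, hu, rfl⟩
      refine ⟨⟨u, hu.1, rfl⟩, fun c hc => ?_⟩
      rw [← cj_norm, mem_cj, eN]
      exact PZ (H98.conj_mem_of_mem_normalizer' hu.2 (mem_sup_left hc))
    have jk : j < k := by
      by_contra hc
      have e := inf_eq_left.1 (eq_of_le_of_card_ge inf_le_left (by
        rw [ck, cj']; exact Nat.mul_le_mul_left _ (Nat.pow_le_pow_right (by decide) (not_lt.1 hc))))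
      have : P ≤ centralizer ({z} : Set G) := fun c hc => mem_centralizer_singleton_iff.2
        (mem_centralizer_singleton_iff.1 ((hX.1.2.2.ge.trans (cen_comm (PA hc) (fun w hw => cl.1.ge
          (mem_inf.2 ⟨cmm w hw c hc, mul_mem (PZ (H98.conj_mem_of_mem_normalizer (e hw)
            (mem_sup_left hc))) (inv_mem (PA hc))⟩)) (h.Z_cen hX.1) cl.2.1)) (ZX hz))).symm
      refine hP.not_dvd_relIndex (l1.trans (.trans ?_ (relIndex_dvd_of_le_left _ this)))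
      rw [idx1 z _ (S := ((⁅X, X⁆ : Subgroup G) : Set G) \ {1}) fun v => ⟨fun hv => ?_, ?_⟩,
        Set.ncard_sdiff_singleton_of_mem (one_mem _), ← Nat.card_coe_set_eq]
      · exact (congrArg (· - 1) cZ).symm.dvd
      · obtain ⟨a, h1, h2, h3⟩ := d.trz z hz v hv.1 z1 hv.2
        exact ⟨a, ⟨h1, h2⟩, h3⟩
      · rintro ⟨a, ha, rfl⟩
        exact ⟨H98.conj_mem_of_mem_normalizer (le_norm_comm le_rfl le_rfl ha.2) hz,
          fun e => z1 (conj_eq_one_iff.1 e)⟩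
    obtain ⟨i, rfl⟩ := Nat.exists_eq_add_of_le jk.le
    have d1 := (Nat.modEq_iff_dvd' (Nat.pow_le_pow_right (by decide) jk.le)).1 md.symm
    have lo : l.Coprime 2 := Nat.Coprime.coprime_dvd_left l1 (Nat.coprime_two_right.2
      (Nat.Even.sub_odd Nat.one_le_two_pow (Nat.even_pow.2 ⟨even_two, by omega⟩) odd_one))
    rw [pow_add, ← Nat.mul_sub_one, show 4 = 2 ^ 2 from rfl, ← pow_mul, ← pow_mul] at d1
    have d2 := Nat.dvd_gcd l1 ((lo.pow_right _).dvd_of_dvd_mul_left d1)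
    rw [Nat.pow_sub_one_gcd_pow_sub_one] at d2
    have d3 : n ∣ 2 * i := by
      rcases (Nat.gcd_le_left (2 * i) (by omega : 0 < n)).eq_or_lt with e | e
      · exact e ▸ Nat.gcd_dvd_right _ _
      · exact absurd d2 (l2 _ (Nat.gcd_pos_of_pos_left _ (by omega)) e)
    have := Nat.le_of_dvd (by omega) ((Nat.coprime_two_right.2 no).dvd_of_dvd_mul_left d3)
    omega
  obtain ⟨c0, hc0, e0⟩ := cf.tr Y hY
  have b := idx d SN hY ne le_rfl (d.sd.trans d.le) ⟨c0, hc0, e0.symm⟩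
    fun a ha e => d.reg Y _ hY (hX.cj ha) ne e
  have hc : ∀ W ∈ ob (centralizer (A : Set G)) X, ∃ c ∈ centralizer (A : Set G), cj c X = W :=
    fun W hW => hW
  choose! c c1 c2 using hc
  have bj : Set.BijOn (fun q : Subgroup G × Subgroup G => cj (c q.1) q.2)
      (ob (centralizer (A : Set G)) X ×ˢ (ob X A \ {A})) (ob ⊤ A \ {A}) := by
    refine ⟨?_, ?_, ?_⟩
    · rintro ⟨W, _⟩ ⟨hW, ⟨u, -, rfl⟩, e⟩
      exact ⟨⟨_, mem_top _, cj_mul _ _ _⟩, fun e' => e (cj_inj (e'.trans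
        (cj_eq_of_cen (c1 W hW)).symm))⟩
    · have kl : ∀ W ∈ ob (centralizer (A : Set G)) X, ∀ u ∈ X, ∀ g,
          cj g A = cj (c W) (cj u A) → kl A g ≤ W := fun W hW u hu g e =>
        h.lin.kl_le (c2 W hW ▸ (hX.cj (c1 W hW)).1.2.1) (by
          rw [e, ← cj_eq_of_cen (inv_mem (c1 W hW)), cj_cj, cj_cj, cj_eq_of_cen (inv_mem (c1 W hW))]
          exact cj_le_of le_sup_right (mem_sup_left ((c2 W hW).le (conj_mem_cj hu))))
      rintro ⟨W, _⟩ ⟨hW, ⟨u, hu, rfl⟩, e⟩ ⟨W', _⟩ ⟨hW', ⟨u', hu', rfl⟩, -⟩ e'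
      obtain rfl : W = W' := by
        by_contra hc
        refine h.lin.kl_ne_bot (g := c W * u) (fun e' => e (cj_inj ((cj_cj _ _ _).trans (e'.trans
          (cj_eq_of_cen (c1 W hW)).symm)))) (nb _ W W' (h.lin.kl_sp _) (c2 W hW ▸ hX.cj (c1 W hW))
          (c2 W' hW' ▸ hX.cj (c1 W' hW')) hc (kl W hW u hu _ (cj_mul _ _ _))
          (kl W' hW' u' hu' _ ((cj_mul _ _ _).trans e')))
      exact Prod.ext rfl (cj_inj e')
    · rintro _ ⟨⟨g, -, rfl⟩, e⟩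
      obtain ⟨k, hk, e1⟩ := h.lin.exists_kl g
      obtain ⟨W, hW, kW⟩ := exists_blk (h.lin.kl_sp g)
      obtain ⟨a, ha, e2⟩ := cf.tr W hW
      have hW' : W ∈ ob (centralizer (A : Set G)) X := ⟨a, ha, e2.symm⟩
      have e3 : cj (c W) (cj ((c W)⁻¹ * k * c W) A) = cj g A := by
        rw [cj_mul, cj_eq_of_cen (c1 W hW'), cj_mul, cj_cj_inv, e1]
      exact ⟨(W, _), ⟨hW', ⟨_, mem_cj.1 ((c2 W hW').ge (kW hk)), rfl⟩, fun e4 => e (by
        rw [← e3, show cj _ A = A from e4, cj_eq_of_cen (c1 W hW')]; rfl)⟩, e3⟩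
  have e1 := bj.ncard_eq
  have m1 : ∀ W : Subgroup G, A ∈ ob W A := fun W => ⟨1, one_mem _, cj_one _⟩
  rw [Set.ncard_prod, Set.ncard_sdiff_singleton_of_mem (m1 _),
    Set.ncard_sdiff_singleton_of_mem (m1 _), b, ek, card_ob, relIndex_top_right, cS, pow_mul] at e1
  have e2 : ob (normalizer (X : Set G)) A = ob X A := Set.ext fun M => ⟨by
    rintro ⟨m, hm, rfl⟩
    obtain ⟨y, hy, e⟩ := cf.dec m hm
    exact ⟨y, hy, by rw [← cj_eq_of_cen e, cj_cj, cj_eq_of_cen e, mul_inv_cancel_left]⟩,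
    fun ⟨a, ha, e⟩ => ⟨a, le_normalizer ha, e⟩⟩
  obtain ⟨P, -, hP⟩ := cf.syl
  haveI := Fact.mk Nat.prime_two
  rw [← e2, card_ob] at ek
  rw [card_ob, ← eN, cS, pow_mul] at b
  refine ar (by omega) nk (fun e => P.not_dvd_index (e.trans (index_dvd_of_le hP)))
    (Nat.pos_of_ne_zero index_ne_zero_of_finite) ?_ e1
  rw [← ek, ← show _ = 4 ^ n + 1 from b, ← inf_relIndex_right, relIndex_mul_index inf_le_right,
    ← inf_relIndex_right _ (normalizer (X : Set G)), relIndex_mul_index inf_le_right, inf_comm]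

end H31.FsZC
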