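/- Split rank one groups: the assembled kit 2. -/
import Cfsg.Agent.H31.HKK2a
import Cfsg.Agent.H3.HkK2

namespace H31.HK

universe u

theorem kit2 (k1 : H7.HKS.Kit1.{u}) : H7.HKS.Kit2.{u} :=
  H3.HK2.kit2_of k1 ⟨k2_semi, k2_bas, k2_lx, k2_mu, k2_grp⟩

end H31.HK
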