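/- The tower `HR` (row S2208): jobs KA and KB, on automorphisms of an abstract Bender group. -/
import Cfsg.Agent.H82.HRKit
import Cfsg.Agent.H37.Cyc1

set_option autoImplicit false

namespace H31.HRK
open MulAction Cfsg Subgroup H89.K H98 H82.HR

universe u

/-- Fixed points of an automorphism normalising a Singer cycle. -/
theorem sing {Z : Type*} [Group Z] [Finite Z] {T : Subgroup (MulAut Z)}
    (hc : ∀ s ∈ T, ∀ t ∈ T, s * t = t * s) (tr : ∀ y z : Z, y ≠ 1 → z ≠ 1 → ∃ t ∈ T, t y = z)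
    {z₀ : Z} (h0 : z₀ ≠ 1) {α : MulAut Z} (hα : ∀ t ∈ T, α * t * α⁻¹ ∈ T) (e : α z₀ = z₀) :
    Nat.card ↥(T ⊓ centralizer {α}) + 1 = Nat.card {z // α z = z} := by
  have reg : ∀ s ∈ T, ∀ t ∈ T, s z₀ = t z₀ → s = t := fun s hs t ht h => MulEquiv.ext fun z => by
    by_cases hz : z = 1
    · simp [hz]
    · obtain ⟨r, hr, rfl⟩ := tr z₀ z h0 hz
      rw [← MulAut.mul_apply, hc s hs r hr, MulAut.mul_apply, h, ← MulAut.mul_apply, hc r hr t ht]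
      rfl
  have e' : α⁻¹ z₀ = z₀ := by rw [← e, MulAut.inv_apply_self, e]
  have : Nat.card ↥(T ⊓ centralizer {α}) = Nat.card {z : {z // α z = z} // z ≠ ⟨1, map_one α⟩} := by
    refine Nat.card_congr (Equiv.ofBijective (fun t => ⟨⟨t.1 z₀, by
      rw [← MulAut.mul_apply, ← mem_centralizer_singleton_iff.1 t.2.2, MulAut.mul_apply, e]⟩,
      fun h => h0 (by simpa using congrArg Subtype.val h)⟩) ⟨fun s t h => ?_, ?_⟩)
    · exact Subtype.ext (reg _ s.2.1 _ t.2.1 (congrArg (fun w => w.1.1) h))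
    · rintro ⟨⟨z, hz⟩, h1⟩
      obtain ⟨t, ht, rfl⟩ := tr z₀ z h0 fun h => h1 (Subtype.ext h)
      refine ⟨⟨t, ht, mem_centralizer_singleton_iff.2 ?_⟩, rfl⟩
      have := reg _ (hα t ht) _ ht (by rw [MulAut.mul_apply, MulAut.mul_apply, e', hz])
      exact (mul_inv_eq_iff_eq_mul.1 this).symm
  rw [this, card_ne]
  have : Nonempty {z // α z = z} := ⟨⟨1, map_one α⟩⟩
  exact Nat.sub_add_cancel Nat.card_pos

variable {G : Type u} [Group G] [Finite G] {N U V : Subgroup G} {q : ℕ}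

omit [Finite G] in
theorem conj_sq (g x : G) : g * x * g⁻¹ * (g * x * g⁻¹) = g * (x * x) * g⁻¹ := by group

omit [Finite G] in
theorem Zcomm {y z : G} (hy : y ∈ ZZ U) (hz : z ∈ ZZ U) : y * z = z * y := hz.2.2 y hy.1

/-- The cosets of `Z` squaring to `y`. -/
def fibre (U : Subgroup G) (y : G) : Set (G ⧸ ZZ U) := QuotientGroup.mk '' {x | x ∈ U ∧ x * x = y}

theorem card_fibre (y : G) :
    {x | x ∈ U ∧ x * x = y}.ncard = Nat.card (ZZ U) * (fibre U y).ncard := by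
  rw [← Nat.card_coe_set_eq, ← Nat.card_coe_set_eq, ← QuotientGroup.card_preimage_mk]
  congr 2
  ext x
  refine ⟨fun h => ⟨x, h, rfl⟩, ?_⟩
  rintro ⟨w, ⟨h1, rfl⟩, h2⟩
  have h3 := QuotientGroup.eq.1 h2
  obtain ⟨z, rfl⟩ : ∃ z, x = w * z := ⟨w⁻¹ * x, by group⟩
  rw [inv_mul_cancel_left] at h3
  refine ⟨mul_mem h1 h3.1, ?_⟩
  rw [mul_assoc, ← mul_assoc z, ← h3.2.2 w h1, mul_assoc, h3.2.1, mul_one]

variable (h : BF N U V q)
include h

theorem card_U {y : G} (hy : y ∈ ZZ U) (h1 : y ≠ 1) :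
    Nat.card U = q * (1 + (q - 1) * (fibre U y).ncard) := by
  classical
  have := Fintype.ofFinite G
  have e1 : ∀ z ∈ ZZ U, z ≠ 1 →
      {x | x ∈ U ∧ x * x = z}.ncard = {x | x ∈ U ∧ x * x = y}.ncard := fun z hz z1 => by
    obtain ⟨d, hd, rfl⟩ := h.tr y hy z hz h1 z1
    symm
    refine Set.ncard_congr (fun x _ => d * x * d⁻¹) (fun x hx => ?_)
      (fun a b _ _ e => by simpa using e) fun x hx => ⟨d⁻¹ * x * d, ⟨?_, ?_⟩, by group⟩
    · exact ⟨conj_mem_of_mem_normalizer hd.1.2 hx.1, by rw [conj_sq, hx.2]⟩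
    · exact conj_mem_of_mem_normalizer' hd.1.2 hx.1
    · rw [show d⁻¹ * x * d * (d⁻¹ * x * d) = d⁻¹ * (x * x) * d by group, hx.2]; group
  have e2 : {x | x ∈ U ∧ x * x = 1}.ncard = q := by
    rw [← h.card, ← Nat.card_coe_set_eq]
    congr 2
    ext x
    exact ⟨fun hx => h.cent x hx.1 hx.2, fun hx => ⟨hx.1, hx.2.1⟩⟩
  have e3 := Finset.card_eq_sum_card_fiberwise (f := fun x : G => x * x)
    (s := Finset.univ.filter (· ∈ U)) (t := Finset.univ.filter (· ∈ ZZ U))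
    (fun x hx => by simpa using h.e4 x (by simpa using hx))
  have e4 : ∀ z, (Finset.filter (fun x => x * x = z) (Finset.univ.filter (· ∈ U))).card =
      {x | x ∈ U ∧ x * x = z}.ncard := fun z => by
    rw [← Set.ncard_coe_finset]; congr 1; ext x; simp
  have e5 : ∀ H : Subgroup G, (Finset.univ.filter (· ∈ H)).card = Nat.card H := fun H => by
    rw [Nat.card_eq_fintype_card, Fintype.card_subtype]
  have m1 : (1 : G) ∈ Finset.univ.filter (· ∈ ZZ U) := by simp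
  rw [← Finset.add_sum_erase _ _ m1, e4, e2, Finset.sum_congr rfl (g := fun _ => q * (fibre U y).ncard)
    (fun z hz => by
      rw [e4, e1 z (by simpa using (Finset.mem_erase.1 hz).2) (Finset.mem_erase.1 hz).1, card_fibre,
        h.card]), Finset.sum_const, Finset.card_erase_of_mem m1, e5, e5, h.card] at e3
  rw [e3, smul_eq_mul]; ring

theorem odd_fibre (hU : ¬ U ≤ ZZ U) {y : G} (hy : y ∈ ZZ U) (h1 : y ≠ 1) :
    Odd (fibre U y).ncard := by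
  have e := card_U h hy h1
  obtain ⟨k, hk⟩ := h.sylU.isPGroup.exists_card_eq
  by_contra ho
  have h2 : Odd (1 + (q - 1) * (fibre U y).ncard) :=
    odd_one.add_even ((Nat.not_odd_iff_even.1 ho).mul_left _)
  have h3 : 1 + (q - 1) * (fibre U y).ncard = 1 := Nat.Coprime.eq_one_of_dvd
    (Nat.Coprime.pow_right k (Nat.coprime_two_right.2 h2)) (hk ▸ e ▸ dvd_mul_left _ _)
  rw [h3, mul_one, ← h.card] at e
  exact hU (eq_of_le_of_card_ge ZZ_le e.le).ge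

theorem fib {R : Subgroup G} (hR : IsPGroup 2 R) (hn : R ≤ nor U) {y : G} (hy : y ∈ ZZ U)
    (h1 : y ≠ 1) (hc : ∀ r ∈ R, r * y = y * r) (hU : ¬ U ≤ ZZ U) :
    ∃ x ∈ U, x * x = y ∧ ∀ r ∈ R, r * x * r⁻¹ * x⁻¹ ∈ ZZ U := by
  let _ : MulAction R G := MulAction.compHom G ((MulAut.conj (G := G)).comp R.subtype)
  have sm : ∀ (r : R) (x : G), r • x = r * x * (r : G)⁻¹ := fun _ _ => rfl
  have : QuotientAction R (ZZ U) := ⟨fun r a b hab => by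
    rw [sm, sm, show ((r : G) * a * (r : G)⁻¹)⁻¹ * (r * b * (r : G)⁻¹) = r * (a⁻¹ * b) * (r : G)⁻¹ by group]
    exact conj_mem_of_mem_normalizer (nor_le_ZZ (hn r.2)) hab⟩
  let _ : MulAction R (G ⧸ ZZ U) := MulAction.quotient R (ZZ U)
  obtain ⟨_, ⟨x, hx, rfl⟩, e⟩ := H82.TP.odd_fix (G := R) (Q := ⊤) (isPGroup_top_iff.2 hR)
    (F := fibre U y) (by
      rintro r - _ ⟨x, hx, rfl⟩
      exact ⟨r • x, ⟨conj_mem_of_mem_normalizer (hn r.2) hx.1, by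
        rw [sm, conj_sq, hx.2, hc r r.2, mul_inv_cancel_right]⟩, rfl⟩) (odd_fibre h hU hy h1)
  refine ⟨x, hx.1, hx.2, fun r hr => ?_⟩
  have h2 : x⁻¹ * ((⟨r, hr⟩ : R) • x) ∈ ZZ U := QuotientGroup.eq.1 (e ⟨r, hr⟩ trivial).symm
  rw [sm] at h2
  have h3 := conj_mem_of_mem_normalizer (nor_le_ZZ (le_normalizer hx.1)) h2
  rwa [mul_inv_cancel_left] at h3

theorem inj (hU : ¬ U ≤ ZZ U) (hc : Nat.card U ≤ 2 * q ^ 2) : Nat.card U = q ^ 2 ∧
    ∀ x ∈ U, ∀ y ∈ U, x * x = y * y → x * y⁻¹ ∈ ZZ U := by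
  have q4 := h.q4
  have key : ∀ y ∈ ZZ U, y ≠ 1 → (fibre U y).ncard = 1 := fun y hy h1 => by
    have e := card_U h hy h1
    obtain ⟨k, hk⟩ := odd_fibre h hU hy h1
    rw [e, hk] at hc
    obtain ⟨r, rfl⟩ : ∃ r, q = r + 1 := ⟨q - 1, by omega⟩
    rw [Nat.add_sub_cancel, pow_two, mul_left_comm] at hc
    have := Nat.le_of_mul_le_mul_left hc (by omega)
    have k0 : k = 0 := by nlinarith
    omega
  refine ⟨?_, fun x hx y hy e => ?_⟩
  · obtain ⟨y, hy, -, -, h1, -⟩ := h.two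
    rw [card_U h hy h1, key y hy h1, mul_one, pow_two]
    congr 1; omega
  · by_cases h1 : x * x = 1
    · exact mul_mem (h.cent x hx h1) (inv_mem (h.cent y hy (e ▸ h1)))
    · obtain ⟨c, hc⟩ := Set.ncard_eq_one.1 (key _ (h.e4 x hx) h1)
      have a1 : (x : G ⧸ ZZ U) ∈ fibre U (x * x) := ⟨x, ⟨hx, rfl⟩, rfl⟩
      have a2 : (y : G ⧸ ZZ U) ∈ fibre U (x * x) := ⟨y, ⟨hy, e.symm⟩, rfl⟩
      rw [hc] at a1 a2
      have h2 : y⁻¹ * x ∈ ZZ U := QuotientGroup.eq.1 (a2.trans a1.symm)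
      have h3 := conj_mem_of_mem_normalizer (nor_le_ZZ (le_normalizer hy)) h2
      rwa [mul_inv_cancel_left] at h3

/-- The image of the torus in `Aut Z`. -/
def sT (N U V : Subgroup G) : Subgroup (MulAut (ZZ U)) :=
  ((DD N U V).subgroupOf (nor (ZZ U))).map (ZZ U).normalizerMonoidHom

omit h [Finite G] in
theorem ρ_apply (g : nor (ZZ U)) (z : ZZ U) :
    (((ZZ U).normalizerMonoidHom g z : ZZ U) : G) = g * z * (g : G)⁻¹ := rfl

omit [Finite G] in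
theorem sT_cyc : IsCyclic (sT N U V) := by
  have := h.cyc
  have := isCyclic_subgroupOf (DD N U V) (nor (ZZ U))
  exact isCyclic_of_surjective _ (MonoidHom.subgroupMap_surjective _ _)

omit [Finite G] in
theorem sT_comm : ∀ s ∈ sT N U V, ∀ t ∈ sT N U V, s * t = t * s := by
  rintro _ ⟨d, hd, rfl⟩ _ ⟨e, he, rfl⟩
  rw [← map_mul, ← map_mul]
  exact congrArg _ (Subtype.ext (h.DD_comm hd he))

omit [Finite G] in
theorem sT_tr (y z : ZZ U) (h1 : y ≠ 1) (h2 : z ≠ 1) : ∃ t ∈ sT N U V, t y = z := by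
  obtain ⟨d, hd, e⟩ := h.tr y y.2 z z.2 (fun e => h1 (Subtype.ext e)) (fun e => h2 (Subtype.ext e))
  exact ⟨_, ⟨⟨d, nor_le_ZZ hd.1.2⟩, hd, rfl⟩, Subtype.ext e⟩

theorem sT_nor {x : G} (h1 : x ∈ nor N) (h2 : x ∈ nor U) : ∀ t ∈ sT N U V,
    (ZZ U).normalizerMonoidHom ⟨x, nor_le_ZZ h2⟩ * t *
      ((ZZ U).normalizerMonoidHom ⟨x, nor_le_ZZ h2⟩)⁻¹ ∈ sT N U V := by
  rintro _ ⟨d, hd, rfl⟩
  have a1 : x * d * x⁻¹ ∈ N := conj_mem_of_mem_normalizer h1 hd.1.1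
  have a2 : x * d * x⁻¹ ∈ nor U := mul_mem (mul_mem h2 hd.1.2) (inv_mem h2)
  obtain ⟨w, hw, a3⟩ := h.bor (le_normalizer a1) a2
  have a4 : w⁻¹ * (x * d * x⁻¹) ∈ nor U := mul_mem (inv_mem (le_normalizer hw)) a2
  refine ⟨⟨_, nor_le_ZZ a4⟩, ⟨⟨N.mul_mem (inv_mem (h.sylU.le hw)) a1, a4⟩, a3⟩, ?_⟩
  rw [← map_inv, ← map_mul, ← map_mul]
  refine MulEquiv.ext fun z => Subtype.ext ?_
  have a5 := conj_mem_of_mem_normalizer (nor_le_ZZ a2) z.2
  rw [ρ_apply, ρ_apply]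
  change w⁻¹ * (x * d * x⁻¹) * z * (w⁻¹ * (x * d * x⁻¹))⁻¹ = x * d * x⁻¹ * z * (x * d * x⁻¹)⁻¹
  rw [show w⁻¹ * (x * d * x⁻¹) * z * (w⁻¹ * (x * d * x⁻¹))⁻¹ =
    w⁻¹ * (x * d * x⁻¹ * z * (x * d * x⁻¹)⁻¹ * w) by group, ← a5.2.2 w hw, inv_mul_cancel_left]

theorem card_sT : Nat.card (sT N U V) + 1 = q := by
  obtain ⟨y, hy, -, -, h1, -⟩ := h.two
  have := sing (sT_comm h) (sT_tr h) (z₀ := ⟨y, hy⟩) (fun e => h1 (congrArg Subtype.val e)) (α := 1)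
    (by simp) rfl
  rw [centralizer_eq_top_iff_subset.2 (by simp), inf_top_eq] at this
  rw [this, ← h.card]
  exact Nat.card_congr (Equiv.subtypeUnivEquiv fun _ => rfl)

theorem card_C {x z : G} (h1 : x ∈ nor N) (h2 : x ∈ nor U) (hz : z ∈ ZZ U) (z1 : z ≠ 1)
    (e : x * z = z * x) :
    Nat.card ↥(sT N U V ⊓ centralizer {(ZZ U).normalizerMonoidHom ⟨x, nor_le_ZZ h2⟩}) + 1 =
      Nat.card ↥(ZZ U ⊓ centralizer {x}) := by
  rw [sing (sT_comm h) (sT_tr h) (z₀ := ⟨z, hz⟩) (fun e => z1 (congrArg Subtype.val e))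
    (sT_nor h h1 h2) (Subtype.ext (mul_inv_eq_iff_eq_mul.2 e))]
  exact Nat.card_congr
    { toFun := fun w => ⟨w.1.1, w.1.2, mem_centralizer_singleton_iff.2
        (mul_inv_eq_iff_eq_mul.1 (congrArg Subtype.val w.2)).symm⟩
      invFun := fun w => ⟨⟨w.1, w.2.1⟩, Subtype.ext
        (mul_inv_eq_iff_eq_mul.2 (mem_centralizer_singleton_iff.1 w.2.2).symm)⟩
      left_inv := fun _ => rfl
      right_inv := fun _ => rfl }

theorem fixZ {R : Subgroup G} (hR : IsPGroup 2 R) (hn : R ≤ nor U) :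
    ∃ z ∈ ZZ U, z ≠ 1 ∧ ∀ r ∈ R, r * z = z * r := by
  obtain ⟨y, hy, -, -, h1, -⟩ := h.two
  obtain ⟨⟨z, hz⟩, z1⟩ := ne_bot_iff_exists_ne_one.1 (inf_centralizer_ne_bot
    (h.sylU.isPGroup.to_le ZZ_le) hR (hn.trans nor_le_ZZ) fun e => h1 (mem_bot.1 (e ▸ hy)))
  exact ⟨z, hz.1, fun e => z1 (Subtype.ext e), hz.2⟩

theorem gam {x : G} (h1 : x ∈ nor N) (h2 : x ∈ nor U) (hx : x * x = 1) (hc : x ∉ cen (ZZ U)) :
    Nat.card ↥(ZZ U ⊓ centralizer {x}) ^ 2 = q ∧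
      ∀ c ∈ ZZ U, c * x = x * c → ∃ w ∈ ZZ U, x * w * x⁻¹ * w⁻¹ = c := by
  obtain ⟨z, hz, z1, e⟩ := fixZ h (isPGroup_zpowers (p := 2) (k := 1) (x := x) (by rw [pow_one, pow_two, hx]))
    (zpowers_le.2 h2)
  have e1 := card_C h h1 h2 hz z1 (e x (mem_zpowers x))
  have e2 := card_sT h
  have e3 := card_dvd_of_le (inf_le_left : sT N U V ⊓
    centralizer {(ZZ U).normalizerMonoidHom ⟨x, nor_le_ZZ h2⟩} ≤ _)
  have cj : ∀ w ∈ ZZ U, x * w * x⁻¹ ∈ ZZ U := fun w => conj_mem_of_mem_normalizer (nor_le_ZZ h2)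
  let c : ZZ U →* G := MonoidHom.mk' (fun w => x * w * x⁻¹ * (w : G)⁻¹) fun v w => by
    have := Zcomm (inv_mem v.2) (mul_mem (cj w w.2) (inv_mem w.2))
    simp only [coe_mul]
    rw [mul_assoc (x * v * x⁻¹), this]; group
  have hk : c.ker = (ZZ U ⊓ centralizer {x}).subgroupOf (ZZ U) := by
    ext w
    change x * w * x⁻¹ * (w : G)⁻¹ = 1 ↔ (w : G) ∈ ZZ U ⊓ centralizer {x}
    rw [mul_inv_eq_one, mul_inv_eq_iff_eq_mul, mem_inf, mem_centralizer_singleton_iff, eq_comm]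
    exact (and_iff_right w.2).symm
  have hr : c.range ≤ ZZ U ⊓ centralizer {x} := by
    rintro _ ⟨w, rfl⟩
    refine ⟨(ZZ U).mul_mem (cj w w.2) (inv_mem w.2), mem_centralizer_singleton_iff.2 ?_⟩
    change x * w * x⁻¹ * (w : G)⁻¹ * x = x * (x * w * x⁻¹ * (w : G)⁻¹)
    have a1 := Zcomm (cj w w.2) w.2
    rw [H82.TP.inv_of_sq hx, H82.TP.inv_of_sq w.2.2.1] at *
    calc x * w * x * w * x = x * (w * (x * w * x)) := by group
      _ = _ := by rw [← a1]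
  have e4 : Nat.card c.range * Nat.card ↥(ZZ U ⊓ centralizer {x}) = q := by
    rw [← h.card, ← index_ker, ← Nat.card_congr (subgroupOfEquivOfLe inf_le_left).toEquiv, ← hk,
      index_mul_card]
  have e5 := card_le_of_le hr
  have e6 : 1 < Nat.card c.range := one_lt_card_iff_ne_bot _ |>.2 fun e => hc fun w hw => by
    have : c ⟨w, hw⟩ ∈ c.range := ⟨_, rfl⟩
    rw [e, mem_bot] at this
    exact (mul_inv_eq_iff_eq_mul.1 (mul_inv_eq_one.1 this)).symm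
  have e7 : Nat.card ↥(ZZ U ⊓ centralizer {x}) ≤ Nat.card c.range := by
    generalize Nat.card ↥(sT N U V ⊓ centralizer {(ZZ U).normalizerMonoidHom ⟨x, nor_le_ZZ h2⟩}) = s
      at e1 e3
    obtain ⟨τ, hτ⟩ : ∃ τ, Nat.card c.range = τ + 1 := ⟨_, (Nat.sub_add_cancel e6.le).symm⟩
    rw [← e1, hτ, ← e2] at e4
    have : Nat.card (sT N U V) = (τ + 1) * s + τ := by linarith
    rw [this] at e3
    have := Nat.le_of_dvd (by omega) ((Nat.dvd_add_right (dvd_mul_left _ _)).1 e3)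
    omega
  refine ⟨by rw [← e4, pow_two, le_antisymm e5 e7], fun b hb eb => ?_⟩
  obtain ⟨w, hw⟩ : b ∈ c.range :=
    eq_of_le_of_card_ge hr e7 ▸ ⟨hb, mem_centralizer_singleton_iff.2 eb⟩
  exact ⟨w, w.2, hw⟩

theorem rk {x y : G} (hx : x ∈ nor N) (hy : y ∈ nor N) (hx' : x ∈ nor U) (hy' : y ∈ nor U)
    (xx : x * x = 1) (yy : y * y = 1) (xy : x * y = y * x) :
    x ∈ cen (ZZ U) ∨ y ∈ cen (ZZ U) ∨ x * y ∈ cen (ZZ U) := by
  by_contra! hc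
  obtain ⟨z, hz, z1, e⟩ := fixZ h (R := H82.TP.four x y xx yy xy.symm)
    (H82.TP.two_of_sq fun _ => H82.TP.sq_four) (by
      rintro _ (rfl | rfl | rfl | rfl)
      exacts [one_mem _, hx', hy', mul_mem hx' hy'])
  have g1 := (gam h hx hx' xx hc.1).1
  have g2 := (gam h hy hy' yy hc.2.1).1
  have g3 := (gam h (mul_mem hx hy) (mul_mem hx' hy') (by
    rw [mul_assoc, ← mul_assoc y, ← xy, mul_assoc, yy, mul_one, xx]) hc.2.2).1
  rw [← card_C h hx hx' hz z1 (e _ (.inr (.inl rfl)))] at g1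
  rw [← card_C h hy hy' hz z1 (e _ (.inr (.inr (.inl rfl))))] at g2
  rw [← card_C h (mul_mem hx hy) (mul_mem hx' hy') hz z1 (e _ (.inr (.inr (.inr rfl))))] at g3
  have nα := sT_nor h hx hx'
  have nβ := sT_nor h hy hy'
  have eαβ : (ZZ U).normalizerMonoidHom ⟨x * y, nor_le_ZZ (mul_mem hx' hy')⟩ =
      (ZZ U).normalizerMonoidHom ⟨x, nor_le_ZZ hx'⟩ * (ZZ U).normalizerMonoidHom ⟨y, nor_le_ZZ hy'⟩ :=
    map_mul _ (⟨x, nor_le_ZZ hx'⟩ : nor (ZZ U)) ⟨y, nor_le_ZZ hy'⟩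
  have αα : (ZZ U).normalizerMonoidHom ⟨x, nor_le_ZZ hx'⟩ *
      (ZZ U).normalizerMonoidHom ⟨x, nor_le_ZZ hx'⟩ = 1 := by
    rw [← map_mul, ← map_one (ZZ U).normalizerMonoidHom]; exact congrArg _ (Subtype.ext xx)
  have ββ : (ZZ U).normalizerMonoidHom ⟨y, nor_le_ZZ hy'⟩ *
      (ZZ U).normalizerMonoidHom ⟨y, nor_le_ZZ hy'⟩ = 1 := by
    rw [← map_mul, ← map_one (ZZ U).normalizerMonoidHom]; exact congrArg _ (Subtype.ext yy)
  have αβ : (ZZ U).normalizerMonoidHom ⟨x, nor_le_ZZ hx'⟩ *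
      (ZZ U).normalizerMonoidHom ⟨y, nor_le_ZZ hy'⟩ = (ZZ U).normalizerMonoidHom ⟨y, nor_le_ZZ hy'⟩ *
      (ZZ U).normalizerMonoidHom ⟨x, nor_le_ZZ hx'⟩ := by
    rw [← map_mul, ← map_mul]; exact congrArg _ (Subtype.ext xy)
  rw [eαβ] at g3
  have cT := card_sT h
  have comm := sT_comm h
  have cyc := sT_cyc h
  have q4 := h.q4
  obtain ⟨k, hk⟩ := h.pow_q
  generalize (ZZ U).normalizerMonoidHom ⟨x, nor_le_ZZ hx'⟩ = α at *
  generalize (ZZ U).normalizerMonoidHom ⟨y, nor_le_ZZ hy'⟩ = β at *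
  generalize sT N U V = T at *
  have inj2 : ∀ {a b : ℕ}, (a + 1) ^ 2 = q → (b + 1) ^ 2 = q → a = b := fun h1 h2 =>
    Nat.add_right_cancel (Nat.pow_left_injective two_ne_zero (h1.trans h2.symm))
  have s1 := H37.cyc_eq_of_card_eq cyc inf_le_left inf_le_left (inj2 g2 g1)
  have s2 := H37.cyc_eq_of_card_eq cyc inf_le_left inf_le_left (inj2 g3 g1)
  have nm : ∀ {γ}, γ * γ = 1 → (∀ t ∈ T, γ * t * γ⁻¹ ∈ T) → ∀ t ∈ T,
      t * (γ * t * γ⁻¹) ∈ T ⊓ centralizer {γ} := fun {γ} γγ hγ t ht =>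
    ⟨mul_mem ht (hγ t ht), mem_centralizer_singleton_iff.2 (by
      have := comm t ht _ (hγ t ht)
      rw [H82.TP.inv_of_sq γγ] at this ⊢
      rw [this]
      calc γ * t * γ * t * γ = γ * (t * (γ * t * γ)) := by group
        _ = _ := by rw [this])⟩
  have oT : Odd (Nat.card T) := by
    have : Even (Nat.card T + 1) := by
      rw [cT, hk]
      exact (Nat.even_pow.2 ⟨even_two, by rintro rfl; omega⟩)
    simpa [Nat.even_add_one] using this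
  have all : T ≤ T ⊓ centralizer {α} := fun t ht => by
    have c1 := nm αα nα t ht
    have c2 := s1 ▸ nm ββ nβ t ht
    have c3 := s2 ▸ nm (γ := α * β) (by
      rw [mul_assoc, ← mul_assoc β, ← αβ, mul_assoc, ββ, mul_one, αα])
      (fun t ht => by simpa [mul_assoc] using nα _ (nβ t ht)) t ht
    have c4 := mem_centralizer_singleton_iff.1 c2.2
    have c5 : t * t = t * (α * β * t * (α * β)⁻¹) * (t * (β * t * β⁻¹))⁻¹ * (t * (α * t * α⁻¹)) := by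
      have d1 : α * β * t * (α * β)⁻¹ = (α * t * α⁻¹)⁻¹ * (t * (β * t * β⁻¹)) := by
        rw [eq_inv_mul_iff_mul_eq]
        calc α * t * α⁻¹ * (α * β * t * (α * β)⁻¹) = α * (t * (β * t * β⁻¹)) * α⁻¹ := by group
          _ = _ := by rw [← c4, mul_inv_cancel_right]
      rw [d1, comm t ht _ (nα t ht)]; group
    have c6 : t ^ 2 ∈ T ⊓ centralizer {α} := by
      rw [pow_two, c5]; exact mul_mem (mul_mem c3 (inv_mem c2)) c1
    obtain ⟨j, hj⟩ := oT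
    have c7 : t ^ (2 * j + 1) = 1 := hj ▸ congrArg Subtype.val (pow_card_eq_one' (G := T) (x := ⟨t, ht⟩))
    have : t = (t ^ 2) ^ (j + 1) := by
      rw [← pow_mul, show 2 * (j + 1) = 2 * j + 1 + 1 by ring, pow_succ, c7, one_mul]
    exact this ▸ pow_mem c6 _
  rw [le_antisymm inf_le_left all, cT] at g1
  nlinarith

omit h in
theorem jobKB : JobKB.{u} := fun _ _ _ _ _ _ _ h =>
  ⟨fun _ hR hn _ hy h1 hc hU => fib h hR hn hy h1 hc hU, inj h, fun _ h1 h2 => gam h h1 h2,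
    fun _ hx _ hy => rk h hx hy⟩

/-! ### Inner automorphisms -/

omit h in
/-- The elements of `U` centralised by `β` modulo `Y`, for `Y = 1` or `Y = Z`. -/
def modC (U Y : Subgroup G) (hY : Y ≤ ZZ U) (β : G) : Subgroup G where
  carrier := {y | y ∈ U ∧ β * y * β⁻¹ * y⁻¹ ∈ Y}
  one_mem' := ⟨one_mem _, by simp⟩
  mul_mem' := fun {x y} hx hy => ⟨mul_mem hx.1 hy.1, by
    have := mul_mem hx.2 hy.2
    rw [mul_assoc (β * x * β⁻¹), (hY hy.2).2.2 _ (inv_mem hx.1)] at this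
    convert this using 1; group⟩
  inv_mem' := fun {x} hx => ⟨inv_mem hx.1, by
    have h1 := inv_mem hx.2
    have h2 := (hY h1).2.2 _ hx.1
    rw [← inv_mul_cancel_left x (_ : G)⁻¹, h2] at h1
    convert h1 using 1; group⟩

omit h in
theorem nor_modC {Y : Subgroup G} {hY : Y ≤ ZZ U} {β d : G} (hd : d ∈ nor U) (dY : d ∈ nor Y)
    (e : d * β = β * d) : d ∈ nor (modC U Y hY β) := mem_normalizer_of_cj_le (by
  rintro _ ⟨y, hy, rfl⟩
  refine ⟨conj_mem_of_mem_normalizer hd hy.1, ?_⟩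
  have := conj_mem_of_mem_normalizer dY hy.2
  change β * (d * y * d⁻¹) * β⁻¹ * (d * y * d⁻¹)⁻¹ ∈ Y
  convert this using 1
  calc β * (d * y * d⁻¹) * β⁻¹ * (d * y * d⁻¹)⁻¹ = β * d * y * (β * d)⁻¹ * (d * y * d⁻¹)⁻¹ := by group
    _ = _ := by rw [← e]; group)

theorem lemA {β : G} (h1 : β ∈ nor N) (h3 : β ∈ nor V) (hD : ∀ d ∈ DD N U V, d * β = β * d)
    (hZ : β ∈ cen (ZZ U)) (hT : TV U β) : β ∈ cen N := by
  refine h.ker2 h1 h3 ?_
  have cm : ∀ x ∈ U, ∀ y ∈ U, β * (x * y) * β⁻¹ * (x * y)⁻¹ =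
      β * x * β⁻¹ * x⁻¹ * (β * y * β⁻¹ * y⁻¹) := fun x hx y hy => by
    rw [mul_assoc (β * x * β⁻¹), (hT y hy).2.2 _ (inv_mem hx)]; group
  have cd : ∀ d ∈ DD N U V, ∀ y, β * (d * y * d⁻¹) * β⁻¹ * (d * y * d⁻¹)⁻¹ =
      d * (β * y * β⁻¹ * y⁻¹) * d⁻¹ := fun d hd y => by
    calc β * (d * y * d⁻¹) * β⁻¹ * (d * y * d⁻¹)⁻¹ = β * d * y * (β * d)⁻¹ * (d * y * d⁻¹)⁻¹ := by group
      _ = _ := by rw [← hD d hd]; group
  have cz : ∀ z ∈ ZZ U, β * z * β⁻¹ * z⁻¹ = 1 := fun z hz => by rw [← hZ z hz]; group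
  by_cases hU : U ≤ modC U ⊥ bot_le β
  · intro y hy
    exact (mul_inv_eq_iff_eq_mul.1 (mul_inv_eq_one.1 (mem_bot.1 (hU hy).2))).symm
  exfalso
  have hX := (h.irr (modC U ⊥ bot_le β) (fun z hz => ⟨hz.1, cz z hz⟩) (fun _ hy => hy.1)
    (fun d hd => nor_modC hd.1.2 (by simp) (hD d hd))).resolve_right fun e => hU e.ge
  have k1 : ∀ y ∈ U, y ∉ ZZ U → β * y * β⁻¹ * y⁻¹ ≠ 1 := fun y hy hn e => hn (hX ▸ ⟨hy, e⟩)
  obtain ⟨y₀, hy₀, n₀⟩ := SetLike.not_le_iff_exists.1 (hX ▸ hU)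
  obtain ⟨d₀, hd₀, e₀⟩ := h.tr _ (h.e4 y₀ hy₀) _ (hT y₀ hy₀) (fun e => n₀ (h.cent _ hy₀ e))
    (k1 y₀ hy₀ n₀)
  have key : ∀ y ∈ U, d₀ * (y * y) * d₀⁻¹ = β * y * β⁻¹ * y⁻¹ := fun y hy => by
    by_cases hz : y ∈ ZZ U
    · rw [cz y hz, hz.2.1]; group
    obtain ⟨d, hd, e⟩ := h.tr _ (hT y₀ hy₀) _ (hT y hy) (k1 y₀ hy₀ n₀) (k1 y hy hz)
    have a1 := conj_mem_of_mem_normalizer hd.1.2 hy₀
    have a2 : d * y₀ * d⁻¹ * y ∈ ZZ U := hX ▸ ⟨mul_mem a1 hy, by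
      rw [cm _ a1 _ hy, cd d hd, e]; exact (hT y hy).2.1⟩
    have a3 : y * y = d * (y₀ * y₀) * d⁻¹ := by
      have b1 := a2.2.1
      rw [← mul_assoc, ← a2.2.2 _ a1] at b1
      have b2 := (h.e4 y hy).2.1
      rw [← conj_sq, ← inv_eq_of_mul_eq_one_right b2]
      exact inv_eq_of_mul_eq_one_left (by rw [← b1]; group)
    rw [a3, ← e, ← e₀]
    calc d₀ * (d * (y₀ * y₀) * d⁻¹) * d₀⁻¹ = d₀ * d * (y₀ * y₀) * (d₀ * d)⁻¹ := by group
      _ = _ := by rw [h.DD_comm hd₀ hd]; group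
  rcases h.nab with e | ⟨x, hx, y, hy, e⟩
  · exact n₀ (e hy₀)
  · apply e
    have := key _ (mul_mem hx hy)
    rw [cm x hx y hy, ← key x hx, ← key y hy, conj_mul, mul_left_inj, mul_right_inj] at this
    have e2 : y * x * y = x * y * y := by simpa [mul_assoc] using this
    exact (mul_right_cancel e2).symm

theorem ka1 {k : G} (h1 : k ∈ nor N) (h2 : k ∈ nor U) (hZ : k ∈ cen (ZZ U)) (hT : TV U k) :
    ∃ x ∈ U, x⁻¹ * k ∈ cen N := by
  obtain ⟨x, hx, b3⟩ := h.bor h1 h2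
  refine ⟨x, hx, ?_⟩
  have b1 : x⁻¹ * k ∈ nor N := mul_mem (inv_mem (le_normalizer (h.sylU.le hx))) h1
  have b2 : x⁻¹ * k ∈ nor U := mul_mem (inv_mem (le_normalizer hx)) h2
  have bZ : x⁻¹ * k ∈ cen (ZZ U) := mul_mem (inv_mem fun z hz => (hz.2.2 x hx).symm) hZ
  have tm : ∀ {a b}, b ∈ nor U → TV U a → TV U b → TV U (a * b) := fun {a b} hb ta tb y hy => by
    have := mul_mem (ta _ (conj_mem_of_mem_normalizer hb hy)) (tb y hy)
    convert this using 1; group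
  have bT : TV U (x⁻¹ * k) := tm h2 (fun y hy => h.comm_mem (inv_mem hx) hy) hT
  generalize x⁻¹ * k = β at *
  refine lemA h b1 b3 (fun d hd => ?_) bZ bT
  have e1 : d * β * d⁻¹ * β⁻¹ ∈ DD N U V := by
    rw [mul_assoc, mul_assoc, ← mul_assoc β]
    exact mul_mem hd ⟨⟨conj_mem_of_mem_normalizer b1 (inv_mem hd).1.1,
      (nor U).mul_mem (mul_mem b2 (inv_mem hd).1.2) (inv_mem b2)⟩,
      (nor V).mul_mem (mul_mem b3 (inv_mem hd).2) (inv_mem b3)⟩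
  have e2 : d * β * d⁻¹ * β⁻¹ ∈ cen (ZZ U) := mul_mem (conj_mem_of_mem_normalizer
    (normalizer_le_normalizer_centralizer _ (nor_le_ZZ hd.1.2)) bZ) (inv_mem bZ)
  have e3 : TV U (d * β * d⁻¹ * β⁻¹) := tm (inv_mem b2) (fun y hy => by
    have := conj_mem_of_mem_normalizer (nor_le_ZZ hd.1.2)
      (bT _ (conj_mem_of_mem_normalizer' hd.1.2 hy))
    convert this using 1; group) fun y hy => by
    have := inv_mem (bT _ (conj_mem_of_mem_normalizer' b2 hy))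
    convert this using 1; group
  rw [← mul_inv_eq_one, _root_.mul_inv_rev, ← mul_assoc]
  generalize d * β * d⁻¹ * β⁻¹ = e at *
  have e4 : e ^ 2 ∈ cen U := fun y hy => by
    have c := e3 y hy
    have : e * y = e * y * e⁻¹ * y⁻¹ * y * e := by group
    rw [pow_two, mul_assoc e e, this]
    generalize e * y * e⁻¹ * y⁻¹ = c' at *
    rw [← mul_assoc e, ← mul_assoc e, ← e2 c' c, mul_assoc c', this]
    simp only [← mul_assoc, c.2.1, one_mul]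
  obtain ⟨j, hj⟩ := h.odd_DD
  have e5 : e ^ (2 * j + 1) = 1 :=
    hj ▸ congrArg Subtype.val (pow_card_eq_one' (G := DD N U V) (x := ⟨e, e1⟩))
  have e6 : e = (e ^ 2) ^ (j + 1) := by
    rw [← pow_mul, show 2 * (j + 1) = 2 * j + 1 + 1 by ring, pow_succ, e5, one_mul]
  have e7 := h.ker2 (le_normalizer e1.1.1) e1.2 (e6 ▸ pow_mem e4 _)
  exact mem_bot.1 (h.inf_cen ▸ ⟨e1.1.1, e7⟩)

theorem ka2 {R : Subgroup G} (hR : IsPGroup 2 R) (h1 : R ≤ nor N) (h2 : R ≤ nor U)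
    (hD : DD N U V ≤ nor R) {r : G} (hr : r ∈ R) : ∃ x ∈ U, x⁻¹ * r ∈ cen N := by
  obtain ⟨x, hx, b3⟩ := h.bor (h1 hr) (h2 hr)
  refine ⟨x, hx, ?_⟩
  have b1 : x⁻¹ * r ∈ nor N := mul_mem (inv_mem (le_normalizer (h.sylU.le hx))) (h1 hr)
  have b2 : x⁻¹ * r ∈ nor U := mul_mem (inv_mem (le_normalizer hx)) (h2 hr)
  have bR : x⁻¹ * r ∈ R ⊔ U := mul_mem (inv_mem (mem_sup_right hx)) (mem_sup_left hr)
  have p2 : IsPGroup 2 ↥(R ⊔ U) := hR.to_sup_of_normal_right' h.sylU.isPGroup h2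
  generalize x⁻¹ * r = β at *
  have cD : ∀ d ∈ DD N U V, d * β = β * d := fun d hd => by
    have e1 : d * β * d⁻¹ * β⁻¹ ∈ DD N U V := by
      rw [mul_assoc, mul_assoc, ← mul_assoc β]
      exact mul_mem hd ⟨⟨conj_mem_of_mem_normalizer b1 (inv_mem hd).1.1,
        (nor U).mul_mem (mul_mem b2 (inv_mem hd).1.2) (inv_mem b2)⟩,
        (nor V).mul_mem (mul_mem b3 (inv_mem hd).2) (inv_mem b3)⟩
    have e2 : d * β * d⁻¹ * β⁻¹ ∈ R ⊔ U := mul_mem (conj_mem_of_mem_normalizer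
      (le_normalizer_sup hD (fun _ hd => hd.1.2) hd) bR) (inv_mem bR)
    have e3 := h.sylU.eq_of_le (Q := (R ⊔ U) ⊓ N) (p2.to_le inf_le_left)
      (le_inf le_sup_right h.sylU.le) inf_le_right
    have e4 : d * β * d⁻¹ * β⁻¹ ∈ U ⊓ nor V := ⟨e3 ▸ ⟨e2, e1.1.1⟩, e1.2⟩
    rw [h.ti, mem_bot] at e4
    rwa [← mul_inv_eq_one, _root_.mul_inv_rev, ← mul_assoc]
  have pβ : IsPGroup 2 (zpowers β) := p2.to_le (zpowers_le.2 bR)
  obtain ⟨z, hz, z1, e⟩ := fixZ h pβ (zpowers_le.2 b2)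
  have bZ : β ∈ cen (ZZ U) := fun w hw => by
    by_cases w1 : w = 1
    · simp [w1]
    obtain ⟨d, hd, rfl⟩ := h.tr z hz w hw z1 w1
    calc d * z * d⁻¹ * β = d * z * (d⁻¹ * β) := by group
      _ = d * (z * β) * d⁻¹ := by rw [cD _ (inv_mem hd)]; group
      _ = _ := by rw [← e β (mem_zpowers β), ← mul_assoc, cD d hd]; group
  refine lemA h b1 b3 cD bZ fun y hy => ?_
  by_cases hU : U ≤ ZZ U
  · exact hU (mul_mem (conj_mem_of_mem_normalizer b2 hy) (inv_mem hy))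
  obtain ⟨w, hw, e1, e2⟩ := fib h pβ (zpowers_le.2 b2) hz z1 e hU
  have hX := (h.irr (modC U (ZZ U) le_rfl β)
    (fun z hz => ⟨hz.1, mul_mem (conj_mem_of_mem_normalizer (nor_le_ZZ b2) hz) (inv_mem hz)⟩)
    (fun _ hy => hy.1) (fun d hd => nor_modC hd.1.2 (nor_le_ZZ hd.1.2) (cD d hd))).resolve_left
    fun e => z1 (e1 ▸ (e.le ⟨hw, e2 β (mem_zpowers β)⟩).2.1)
  exact (hX.ge hy).2

omit h in
theorem jobKA : JobKA.{u} := fun _ _ _ _ _ _ _ h =>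
  ⟨fun _ h1 h2 => ka1 h h1 h2, fun _ hR h1 h2 hD _ => ka2 h hR h1 h2 hD⟩

end H31.HRK
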