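/- Tower IT (S3193): slot LO. -/
import Cfsg.Agent.H41.ItSpec

set_option autoImplicit false
set_option linter.unusedSectionVars false

namespace H31.ItLO
open Cfsg Subgroup H41.IT

universe u
variable {G : Type u} [Group G] [Finite G]

theorem idx_eq {g h : G} (e : c g = c h) : (C g).index = (C h).index :=
  Nat.eq_of_mul_eq_mul_left (Nat.card_pos (α := C g)) (by
    rw [card_mul_index]; conv_rhs => rw [show Nat.card (C g) = Nat.card (C h) from e, card_mul_index])

theorem c_conj (x g : G) : c (x * g * x⁻¹) = c g := by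
  have : C (x * g * x⁻¹) = (C g).map (MulAut.conj x).toMonoidHom := by
    ext y
    rw [mem_map_equiv, mem_centralizer_singleton_iff, mem_centralizer_singleton_iff]
    simp only [MulAut.conj_symm_apply]
    constructor
    · intro h
      calc x⁻¹ * y * x * g = x⁻¹ * (y * (x * g * x⁻¹)) * x := by group
        _ = g * (x⁻¹ * y * x) := by rw [h]; group
    · intro h
      calc y * (x * g * x⁻¹) = x * (x⁻¹ * y * x * g) * x⁻¹ := by group
        _ = x * g * x⁻¹ * y := by rw [h]; group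
  rw [c, this, card_map_of_injective (MulAut.conj x).injective]

theorem pg {w : G} (h : PE 2 w) : IsPGroup 2 (zpowers w) := by
  obtain ⟨k, hk⟩ := h
  exact IsPGroup.of_card (by rw [Nat.card_zpowers, hk])

theorem pe2 {w : G} (h : orderOf w = 2) : PE 2 w := ⟨1, by simpa using h⟩

theorem ne1 {w : G} (h : orderOf w = 2) : w ≠ 1 := by rintro rfl; simp at h

theorem conj_in {H : Subgroup G} (h : Odd H.index) {w : G} (hw : PE 2 w) : ∃ x, x * w * x⁻¹ ∈ H := by
  obtain ⟨q, hq⟩ := (pg hw).nonempty_fixed_point_of_prime_not_dvd_card (G ⧸ H)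
    (fun e => (Nat.not_even_iff_odd.2 h) (even_iff_two_dvd.2 e))
  obtain ⟨x, rfl⟩ := QuotientGroup.mk_surjective q
  have : ((w * x : G) : G ⧸ H) = x := hq ⟨w, mem_zpowers w⟩
  exact ⟨x⁻¹, by simpa [mul_assoc] using QuotientGroup.eq.1 this.symm⟩

theorem odd_of {X : Type u} [Group X] [Finite X] (S : Sylow 2 X) {H : Subgroup X} (h : (S : Subgroup X) ≤ H) :
    Odd H.index :=
  Nat.not_even_iff_odd.1 fun e => S.not_dvd_index ((even_iff_two_dvd.1 e).trans (index_dvd_of_le h))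

theorem ex_z (S : Sylow 2 G) {t : G} (ht : t ∈ S) (h1 : t ≠ 1) :
    ∃ z : G, orderOf z = 2 ∧ (S : Subgroup G) ≤ C z := by
  have : Nontrivial S := ⟨⟨t, ht⟩, 1, fun e => h1 (congrArg Subtype.val e)⟩
  have := S.isPGroup'.center_nontrivial
  obtain ⟨n, hn, e⟩ := (S.isPGroup'.to_subgroup (center S)).nontrivial_iff_card.1 this
  obtain ⟨z, hz⟩ := exists_prime_orderOf_dvd_card' (G := center S) 2 (e ▸ dvd_pow_self 2 hn.ne')
  refine ⟨z.1.1, by rw [orderOf_coe, orderOf_coe, hz], fun y hy => mem_centralizer_singleton_iff.2 ?_⟩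
  exact congrArg Subtype.val (mem_center_iff.1 z.2 ⟨y, hy⟩)

theorem dvd_of {t g : G} (h : Odd (C t).index) {j e : ℕ} (h1 : c g = 2 ^ j * e) (h2 : e ∣ c t) :
    c g ∣ c t := by
  obtain ⟨i, m, hm, rfl⟩ := Nat.exists_eq_two_pow_mul_odd (n := e)
    (by rintro rfl; exact (Nat.card_pos (α := C g)).ne' (by simpa using h1))
  have k : c g ∣ c t * (C t).index := by rw [card_mul_index]; exact card_subgroup_dvd_card _
  rw [h1, ← mul_assoc, ← pow_add] at k ⊢
  exact Nat.Coprime.mul_dvd_of_dvd_of_dvd (Nat.Coprime.pow_left _ hm.coprime_two_left)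
    ((Nat.Coprime.pow_left _ h.coprime_two_left).dvd_of_dvd_mul_right ((dvd_mul_right _ _).trans k))
    ((dvd_mul_left _ _).trans h2)

theorem dd {t : G} {d : ℕ} (h : TyA t d ∨ TyM t d) : d ∣ c t ∧ c t ≠ d := by
  have p : 0 < c t := Nat.card_pos
  rcases h with ⟨j, hj, e⟩ | ⟨⟨q, hq, -, k, e⟩, -⟩
  · refine ⟨e ▸ dvd_mul_left _ _, fun f => ?_⟩
    have := Nat.one_lt_two_pow hj.ne'
    rw [f] at e p; nlinarith
  · refine ⟨⟨2 * q * k, by rw [e]; ring⟩, fun f => ?_⟩
    rw [f] at e p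
    have : d * 1 = d * (2 * (q * k)) := (mul_one d).trans (e.trans (by ring))
    have := Nat.eq_of_mul_eq_mul_left p this
    omega

theorem factM {d : ℕ} (o : One G d) {v : G} (hv : orderOf v = 2) (h : TyM v d) : Odd (C v).index := by
  have vv : v ∈ C v := mem_centralizer_singleton_iff.2 rfl
  obtain ⟨T, hT⟩ := (pg (w := (⟨v, vv⟩ : C v)) (pe2 (by rw [← orderOf_coe]; exact hv))).exists_le_sylow
  obtain ⟨S, hS⟩ := (T.isPGroup'.map (C v).subtype).exists_le_sylow
  have vS : v ∈ S := hS ⟨_, hT (mem_zpowers _), rfl⟩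
  obtain ⟨z, hz, sz⟩ := ex_z S vS (ne1 hv)
  have zv : z ∈ C v := mem_centralizer_singleton_iff.2 (mem_centralizer_singleton_iff.1 (sz vS)).symm
  have od : Odd (C (⟨z, zv⟩ : C v)).index := odd_of T fun y hy => mem_centralizer_singleton_iff.2
    (Subtype.ext (mem_centralizer_singleton_iff.1 (sz (hS ⟨y, hy, rfl⟩))))
  have mi := card_mul_index (C (⟨z, zv⟩ : C v))
  obtain ⟨d1, d2⟩ := dd (Or.inr h)
  obtain ⟨⟨q, -, -, k, e⟩, h2⟩ := h
  rcases h2 ⟨z, zv⟩ ⟨2, 1, Nat.prime_two, by rw [← orderOf_coe, hz, pow_one]⟩ with f | f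
  · have tp : C (⟨z, zv⟩ : C v) = ⊤ := eq_top_of_card_eq _ f
    have le : C v ≤ C z := fun y hy => by
      have a : (⟨y, hy⟩ : C v) ∈ C (⟨z, zv⟩ : C v) := tp ▸ mem_top _
      exact mem_centralizer_singleton_iff.2 (congrArg Subtype.val (mem_centralizer_singleton_iff.1 a))
    rw [← idx_eq ((o v hv).2 d2 d1 z (ne1 hz) (card_dvd_of_le le))]
    exact odd_of S sz
  · have p : 0 < d := f ▸ Nat.card_pos
    have : d * (C (⟨z, zv⟩ : C v)).index = d * (2 * (q * k)) := by
      rw [← f]; conv_rhs => rw [f]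
      exact mi.trans (e.trans (by ring))
    rw [Nat.eq_of_mul_eq_mul_left p this] at od
    exact absurd od (by simp)

theorem jobLO : JobLO.{u} := by
  intro ty st G _ _ d o
  by_contra hc
  simp only [not_or, not_forall, not_and, not_exists] at hc
  obtain ⟨⟨t, ht, nt⟩, ⟨u, hu, nu⟩, h3⟩ := hc
  obtain ⟨sv, ta⟩ := ty G d o t ht
  replace ta := ta.resolve_left fun ⟨_, _, _, _, _, _, h⟩ => nt h
  obtain ⟨d1, d2⟩ := dd ta
  have s := st G d o t ht sv ta nt
  by_cases ot : Odd (C t).index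
  · have nd : ∀ w : G, w ≠ 1 → PE 2 w → c w ≠ d := fun w h1 h2 => by
      obtain ⟨x, hx⟩ := conj_in ot h2
      rw [← c_conj x w]
      refine s _ (by simpa using h1) (h2.imp fun k hk => ?_) (mem_centralizer_singleton_iff.1 hx)
      rw [← hk]; exact (MulAut.conj x).orderOf_eq w
    have u1 : u ≠ 1 := by
      rintro rfl
      exact nu (by rw [show C (1 : G) = ⊤ from by ext; simp [mem_centralizer_singleton_iff]]; simp)
    obtain ⟨k, hk⟩ := id hu
    have k2 : 2 ∣ orderOf u := hk ▸ dvd_pow_self 2 (by rintro rfl; exact u1 (by simpa using hk))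
    have v0 : orderOf (u ^ (orderOf u / 2)) = 2 := orderOf_pow_orderOf_div (orderOf_pos u).ne' k2
    have e0 := ((o _ v0).1 u u1 (card_dvd_of_le fun y hy => mem_centralizer_singleton_iff.2
      ((show Commute y u from mem_centralizer_singleton_iff.1 hy).pow_right _))).resolve_right (nd u u1 hu)
    obtain ⟨x, hx⟩ := conj_in ot (pe2 v0)
    have hv : orderOf (x * u ^ (orderOf u / 2) * x⁻¹) = 2 := ((MulAut.conj x).orderOf_eq _).trans v0
    rw [← c_conj x (u ^ _)] at e0
    generalize x * u ^ (orderOf u / 2) * x⁻¹ = v at hx hv e0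
    rw [idx_eq e0] at nu
    have fin : ¬ c v ∣ c t := fun k => ((o t ht).1 v (ne1 hv) k).elim (fun e => nu (idx_eq e ▸ ot))
      (nd v (ne1 hv) (pe2 hv))
    rcases (ty G d o v hv).2 with ⟨K, -, -, ⟨j, e⟩, k, -⟩ | ⟨j, -, e⟩ | m
    · exact fin (dvd_of ot e (card_dvd_of_le fun y hy => mem_centralizer_singleton_iff.2
        (k t (mem_centralizer_singleton_iff.2 (mem_centralizer_singleton_iff.1 hx).symm) (pe2 ht) y hy).symm))
    · exact fin (dvd_of ot e d1)
    · exact nu (factM o hv m)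
  · obtain ⟨j, -, e⟩ := ta.resolve_right fun m => ot (factM o ht m)
    obtain ⟨S, hS⟩ := (pg (pe2 ht)).exists_le_sylow
    obtain ⟨z, hz, sz⟩ := ex_z S (hS (mem_zpowers t)) (ne1 ht)
    have oz := odd_of S sz
    refine h3 (fun a => ot (a t ht)) z hz oz (((ty G d o z hz).2).resolve_right fun m => ot ?_)
    rwa [← idx_eq ((o t ht).2 d2 d1 z (ne1 hz) (dvd_of oz e (dd m).1))]

end H31.ItLO
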