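import Cfsg.Agent.H34.KgvA
import Cfsg.Agent.H33.BrauerLin

/-! # Brauer's characterization with algebraic integer coefficients -/

set_option autoImplicit false

namespace H31.Kgv

open Cfsg H28 H33 H34

variable {G : Type*} [Group G] [Fintype G]

theorem as_ind (H : Subgroup G) [Fintype H] {θ : H → ℂ} (h : AS θ) : AS (indFun H θ) :=
  ⟨indFun_isClassFunction H θ, fun ψ hψ => by
    rw [classInner_indFun_left H θ hψ.isCharacter.isClassFunction]
    exact h.inner (hψ.isCharacter.comp H.subtype)⟩

theorem as_zero : AS (0 : G → ℂ) := by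
  simpa using (as_one (H := G)).smul isIntegral_zero

theorem AS_neg {f : G → ℂ} (h : AS f) : AS (-f) := by
  simpa using h.smul (c := -1) isIntegral_one.neg

theorem as_of_elem {θ : G → ℂ} (hθ : IsClassFunction G θ)
    (hE : ∀ (E : Subgroup G) [Fintype E] (l : ℕ), l.Prime → IsElementary l E →
      AS (fun e : E => θ e)) : AS θ := by
  have key : ∀ f ∈ indSpan (IsElem (G := G)), AS (f * θ) := fun f hf => by
    induction hf using AddSubgroup.closure_induction with
    | mem x hx =>
      obtain ⟨H, ψ, ⟨l, hl, hH⟩, hψ, rfl⟩ := hx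
      have := Fintype.ofFinite H
      rw [← indFun_mul_res H ψ hθ]
      exact as_ind H ((as_char hψ).mul (hE H l hl hH))
    | zero => rw [zero_mul]; exact as_zero
    | add x y _ _ hx hy => rw [add_mul]; exact hx.add hy
    | neg x _ hx => rw [neg_mul]; exact AS_neg hx
  have := key _ one_mem_indSpan_elem
  rwa [show (fun _ : G => (1 : ℂ)) * θ = θ from one_mul θ] at this

theorem as_of_nilpotent {θ : G → ℂ} (hθ : IsClassFunction G θ)
    (hE : ∀ (E : Subgroup G) [Fintype E], Group.IsNilpotent E → AS (fun e : E => θ e)) : AS θ :=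
  as_of_elem hθ fun E _ _ hl h => hE E (isNilpotent_of_isElementary hl h)

end H31.Kgv
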