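import Cfsg.Agent.H31.KgvWrap
import Cfsg.Agent.H31.KgvBr
import Cfsg.Agent.H63.KgvSpec

/-! # From the square root of the fixed point ratio to the good class function -/

set_option autoImplicit false

namespace H31.Kgv

open Cfsg H28 H29 H34 H40 ComplexConjugate

universe u

theorem as_gen {G : Type*} [Group G] [Fintype G] {θ : G → ℂ} (h : IsGeneralizedCharacter G θ) :
    AS θ := by
  obtain ⟨a, b, ha, hb, rfl⟩ := h
  rw [sub_eq_add_neg]
  exact (as_char ha).add (AS_neg (as_char hb))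

theorem ee_pow (p : ℕ) [Fact p.Prime] (c : ZMod p) : H63.Kgv.ee p c ^ p = 1 := by
  rw [← AddChar.map_nsmul_eq_pow, nsmul_eq_mul, ZMod.natCast_self, zero_mul,
    AddChar.map_zero_eq_one]

theorem conj_root {z : ℂ} {n : ℕ} (hn : n ≠ 0) (h : z ^ n = 1) : conj z = z⁻¹ :=
  (Complex.inv_eq_conj (Complex.norm_eq_one_of_pow_eq_one h hn)).symm

theorem gal_conj_gen {G : Type*} [Group G] [Fintype G] {θ : G → ℂ}
    (h : IsGeneralizedCharacter G θ) (σ : ℂ ≃+* ℂ) (y : G) :
    σ (conj (θ y)) = conj (σ (θ y)) := by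
  have key : ∀ a : G → ℂ, IsCharacter G a → σ (conj (a y)) = conj (σ (a y)) := fun a ha => by
    rw [← ha.apply_inv]
    exact (ha.gal σ.toRingHom).apply_inv y
  obtain ⟨a, b, ha, hb, rfl⟩ := h
  simp only [Pi.sub_apply, map_sub, key a ha, key b hb]

theorem gamSt_of_main (hm : H63.Kgv.Main.{u}) : GamSt.{u} := by
  intro p hp H _ _ V _ _ _ ρ hH
  have : Module.Finite (ZMod p) V := Module.Finite.of_finite
  let e := (Module.finBasis (ZMod p) V).equivFun
  let ρ' : H →* Module.End (ZMod p) (Fin (Module.finrank (ZMod p) V) → ZMod p) :=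
    (e.conjRingEquiv : Module.End (ZMod p) V →* _).comp ρ
  have hρ' : ∀ y v, ρ' y (e v) = e (ρ y v) := fun y v => by
    simp [ρ', LinearEquiv.conjRingEquiv_apply_apply]
  obtain ⟨f, ⟨Θ, hΘ, hf⟩, h2⟩ := hm p H _ ρ' hH
  obtain ⟨h1, h3⟩ := h2 1 one_ne_zero
  have hp0 := hp.out.ne_zero
  have hi : ∀ c, IsIntegral ℤ (H63.Kgv.ee p c) := fun c =>
    IsIntegral.of_pow hp.out.pos (by rw [ee_pow]; exact isIntegral_one)
  have has : AS (f 1) := by
    convert as_sum Finset.univ fun c _ => (as_gen (hΘ c)).smul (hi (1 * c)) using 1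
    ext y; rw [hf 1 one_ne_zero]; simp
  refine ⟨f 1, has, fun σ y => ?_, by rw [h1, inv_one]; exact isIntegral_one,
    by rw [h1]; exact one_ne_zero, fun y hy => ?_⟩
  · have hc : σ (conj (f 1 y)) = conj (σ (f 1 y)) := by
      rw [hf 1 one_ne_zero]
      simp only [map_sum, map_mul, gal_conj_gen (hΘ _) σ y]
      refine Finset.sum_congr rfl fun c _ => ?_
      rw [conj_root hp0 (ee_pow p _), conj_root hp0 (z := σ (H63.Kgv.ee p (1 * c))) (by rw [← map_pow, ee_pow, map_one]),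
        map_inv₀]
    have h4 := congrArg σ (h3 y).1
    rw [map_mul, map_mul, hc, map_natCast, map_pow, map_natCast, Complex.mul_conj,
      Complex.normSq_eq_norm_sq] at h4
    have h5 : Nat.card {v // ρ' y v = v} = Nat.card {v // ρ y v = v} :=
      (Nat.card_congr (e.toEquiv.subtypeEquiv fun v => by
        change _ ↔ ρ' y (e v) = e v
        rw [hρ', e.injective.eq_iff])).symm
    have h6 : Nat.card V = p ^ Module.finrank (ZMod p) V := by
      rw [Module.natCard_eq_pow_finrank (K := ZMod p), Nat.card_zmod]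
    rw [h5] at h4
    rw [h6]
    exact le_of_eq (by exact_mod_cast h4)
  · obtain ⟨k, v, hv, h7⟩ := (h3 y).2 fun h0 => hy (LinearMap.ext fun v => e.injective (by
      rw [← hρ', h0]; rfl))
    refine ⟨⟨f 1 y, has.int y⟩, rfl, k, Ideal.mem_span_singleton.2 ⟨⟨v, hv⟩, Subtype.ext ?_⟩⟩
    simpa using h7

theorem kgvSt_of_main (hm : H63.Kgv.Main.{u}) : H63.Kgv.KgvSt.{u} :=
  fun _ _ _ p _ V _ h1 h2 h3 => s4954_of (gamSt_of_main hm) p V h1 h2 h3

end H31.Kgv
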