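import Cfsg.Agent.H34.KgvE
import Mathlib.GroupTheory.SchurZassenhaus

/-! # The k(GV) bound from the existence of a good class function -/

set_option autoImplicit false

namespace H31.Kgv

open Cfsg H34

universe u

/-- existence of a good class function for every coprime module -/
def GamSt : Prop :=
  ∀ (p : ℕ) [Fact p.Prime] (H : Type u) [Group H] [Fintype H] (V : Type u) [AddCommGroup V]
    [Module (ZMod p) V] [Finite V] (ρ : Representation (ZMod p) H V),
    ¬ p ∣ Nat.card H → ∃ g : H → ℂ, KGood ρ g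

theorem s4954_of (hg : GamSt.{u}) {X : Type u} [Group X] [Finite X] (p : ℕ) [hp : Fact p.Prime]
    (V : Subgroup X) [V.Normal] (hVexp : ∀ v ∈ V, v ^ p = 1) (hidx : ¬ p ∣ V.index)
    (hself : Subgroup.centralizer (V : Set X) = V) :
    Nat.card (ConjClasses X) ≤ Nat.card V := by
  have hVp : IsPGroup p V := fun x => ⟨1, Subtype.ext (by simpa using hVexp x x.2)⟩
  obtain ⟨k, hk⟩ := hVp.exists_card_eq
  obtain ⟨G, hGV⟩ := Subgroup.exists_right_complement'_of_coprime (N := V)
    (by rw [hk]; exact Nat.Coprime.pow_left k ((Nat.Prime.coprime_iff_not_dvd hp.out).2 hidx))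
  have := Fintype.ofFinite ↥(G ⊓ Subgroup.centralizer ({(1 : X)} : Set X))
  have ea : H49.IsEA p V := ⟨fun a b => Subtype.ext (hself.ge b.2 a a.2),
    fun a => Subtype.ext (hVexp a a.2)⟩
  let φ := (MulAut.conjNormal (H := V)).comp (G ⊓ Subgroup.centralizer ({(1 : X)} : Set X)).subtype
  obtain ⟨g, hg⟩ := hg p ↥(G ⊓ Subgroup.centralizer ({(1 : X)} : Set X)) ea.V (ea.rep φ)
    (fun h => hidx (hGV.symm.index_eq_card ▸ h.trans (Subgroup.card_dvd_of_le inf_le_left)))
  refine knorr_of_good hVexp hidx hself hGV V.one_mem rfl le_rfl ea φ (fun _ _ => rfl)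
    ((injective_iff_map_eq_one φ).2 fun h hh => Subtype.ext
      (Subgroup.disjoint_def.1 hGV.disjoint (hself.le fun u hu => ?_) h.2.1)) hg
  exact (mul_inv_eq_iff_eq_mul.1 (congrArg Subtype.val (DFunLike.congr_fun hh ⟨u, hu⟩))).symm

end H31.Kgv
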