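/- Tower KU, slot X3: the exception at q = 3. -/
import Cfsg.Agent.H53.KUSpec

set_option autoImplicit false

namespace H31.KuX3

open H53.KU

variable {F : Type} [Field F] [Fintype F] {m : ℕ} {o : Prop}

theorem pow8 (hF : Fintype.card F = 3 ^ 2) (x : Fˣ) : x ^ 8 = 1 := by
  have h := pow_card_eq_one' (x := x)
  rwa [Nat.card_units, Nat.card_eq_fintype_card, hF] at h

theorem eig_sq (hF : Fintype.card F = 3 ^ 2) (a : Fin m → Fˣ) (i : Fin m) (s : Bool) :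
    eig 3 a i s ^ 2 = a i ^ 2 := by
  unfold eig; split_ifs
  · rw [inv_pow, inv_eq_iff_mul_eq_one, ← pow_mul, ← pow_add]; exact pow8 hF _
  · rfl

theorem sw_mem (hF : Fintype.card F = 3 ^ 2) (π : Equiv.Perm (Fin m)) (ε : Fin m → Bool) {a : Fin m → Fˣ}
    (ha : a ∈ Tor F m 3 o) : sw 3 π ε a ∈ Tor F m 3 o := ha.imp id fun h => by
  rw [← Finset.prod_pow] at h ⊢
  rw [← h, ← Equiv.prod_comp π fun i => a i ^ (3 - 1)]
  exact Finset.prod_congr rfl fun i _ => eig_sq hF a _ _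

theorem cj_le (hF : Fintype.card F = 3 ^ 2) {l l' : (Fin m → Fˣ) →* ℂˣ} (h : Cj 3 o l l') :
    (Tor F m 3 o).map l' ≤ (Tor F m 3 o).map l := by
  obtain ⟨π, ε, h⟩ := h
  rintro _ ⟨a, ha, rfl⟩
  exact ⟨_, sw_mem hF π ε ha, (h a ha).symm⟩

omit [Fintype F] in
theorem pair_mem (i j : Fin m) (x : Fˣ) : Pi.mulSingle i x * Pi.mulSingle j x⁻¹ ∈ Tor F m 3 o :=
  Or.inr (by simp [Finset.prod_mul_distrib, Finset.prod_pi_mulSingle'])

omit [Fintype F] in
theorem pm {c : Fˣ} (h : c ^ 2 = 1) : c = 1 ∨ c = -1 := by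
  have : (c : F) * c = 1 := by simpa [sq] using congrArg Units.val h
  exact (mul_self_eq_one_iff.1 this).imp (fun h => Units.ext h) fun h => Units.ext h

theorem jobX3 : JobX3 := by
  intro F _ _ r o hF hr D h3 hI l₂ l₄ i2 i4 o2 o4 k c hc
  by_contra hk
  have c1 : c ≠ 1 := by rintro rfl; exact hk (by simp)
  obtain ⟨φ, hφ⟩ := CommGroup.exists_apply_ne_one_of_hasEnoughRootsOfUnity ((Fin (r + 3) → Fˣ) ⧸ D) ℂ
    (a := (Pi.mulSingle k c : Fin (r + 3) → Fˣ)) (by rwa [Ne, QuotientGroup.eq_one_iff])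
  let l : (Fin (r + 3) → Fˣ) →* ℂˣ := φ.comp (QuotientGroup.mk' D)
  have lD : ∀ a ∈ D, l a = 1 := fun a ha => by
    show φ (a : _ ⧸ D) = 1
    rw [(QuotientGroup.eq_one_iff a).2 ha, map_one]
  have lc : l (Pi.mulSingle k c) ≠ 1 := hφ
  have cT : Pi.mulSingle k c ∈ Tor F (r + 3) 3 o := Or.inr (by simpa [Finset.prod_pi_mulSingle'] using hc)
  have il : In 3 o D l := ⟨⟨_, cT, lc⟩, lD⟩
  have l4 : ∀ a ∈ Tor F (r + 3) 3 o, l a ^ 4 = 1 := fun a ha => by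
    have key : ∀ l' : (Fin (r + 3) → Fˣ) →* ℂˣ, Cj 3 o l' l → l a ^ od 3 o l' = 1 := fun l' h =>
      congrArg Subtype.val (pow_card_eq_one' (x := (⟨l a, cj_le hF h ⟨a, ha, rfl⟩⟩ : (Tor F (r + 3) 3 o).map l')))
    rcases h3 _ _ _ i2 i4 il with h | h | h
    · have := Subgroup.card_dvd_of_le (cj_le hF h)
      change od 3 o l₄ ∣ od 3 o l₂ at this
      rw [o2, o4] at this; omega
    · have := key _ h
      rw [o2] at this
      rw [show 4 = 2 * 2 from rfl, pow_mul, this, one_pow]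
    · simpa [o4] using key _ h
  let sg : Fˣ →* ℂˣ := (l.comp (MonoidHom.mulSingle (fun _ => Fˣ) k)).comp (powMonoidHom 4)
  have sgk : ∀ x, sg x = l (Pi.mulSingle k x) ^ 4 := fun x => by
    simp [sg, Pi.mulSingle_pow]
  have sgi : ∀ i x, sg x = l (Pi.mulSingle i (x ^ 4)) := fun i x => by
    have := l4 _ (pair_mem i k x)
    rw [map_mul, mul_pow, Pi.mulSingle_inv, map_inv, inv_pow, mul_inv_eq_one] at this
    rw [sgk, ← this, Pi.mulSingle_pow, map_pow]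
  have sg2 : ∀ x, sg x ^ 2 = 1 := fun x => by
    rw [← map_pow, sgi k, ← pow_mul, pow8 hF]; simp
  have sge : ∀ a i s, sg (eig 3 (m := r + 3) a i s) = sg (a i) := fun a i s => by
    unfold eig; split_ifs
    · rw [map_inv, map_pow, inv_eq_iff_mul_eq_one, ← pow_succ, show 3 + 1 = 2 * 2 from rfl, pow_mul, sg2, one_pow]
    · rfl
  have sgc : ∀ i, sg ((Pi.mulSingle k c : Fin (r + 3) → Fˣ) i) = 1 := fun i => by
    have : ((Pi.mulSingle k c : Fin (r + 3) → Fˣ) i) ^ 2 = 1 := by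
      rw [Pi.mulSingle_apply]; split_ifs
      · exact hc
      · exact one_pow _
    rw [sgi k, show 4 = 2 * 2 from rfl, pow_mul, this]; simp
  obtain ⟨g, hg⟩ := IsCyclic.exists_ofOrder_eq_natCard (α := Fˣ)
  rw [Nat.card_units, Nat.card_eq_fintype_card, hF] at hg
  have g4 : g ^ 4 = c := by
    have h1 : g ^ 4 ≠ 1 := pow_ne_one_of_lt_orderOf (by decide) (by rw [hg]; decide)
    rw [(pm (c := g ^ 4) (by rw [← pow_mul, pow8 hF])).resolve_left h1, (pm hc).resolve_left c1]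
  have sgg : sg g ≠ 1 := by rwa [sgi k, g4]
  let μ : Fin (r + 3) → (Fin (r + 3) → Fˣ) →* ℂˣ := fun j => sg.comp (Pi.evalMonoidHom (fun _ => Fˣ) j)
  have μa : ∀ j a, μ j a = sg (a j) := fun _ _ => rfl
  have μD : ∀ j, ∀ a ∈ D, μ j a = 1 := fun j a ha => by
    rw [μa, sgi j]
    refine lD _ ?_
    convert D.div_mem ha (hI 1 (fun i => decide (i = j)) a ha) using 1
    funext i
    by_cases h : i = j
    · subst h; simp [sw_apply, eig, ← pow_succ']
    · simp [sw_apply, eig, h]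
  have n01 : (0 : Fin (r + 3)) ≠ 1 := by simp
  have n02 : (0 : Fin (r + 3)) ≠ ⟨2, by omega⟩ := by simp [Fin.ext_iff]
  have n12 : (1 : Fin (r + 3)) ≠ ⟨2, by omega⟩ := by simp [Fin.ext_iff]
  have i0 : In 3 o D (μ 0) := ⟨⟨_, pair_mem 0 ⟨2, by omega⟩ g, by simpa [μa, n02] using sgg⟩, μD 0⟩
  have i01 : In 3 o D (μ 0 * μ 1) := ⟨⟨_, pair_mem 0 ⟨2, by omega⟩ g, by simpa [μa, n02, n12] using sgg⟩,
    fun a ha => by rw [MonoidHom.mul_apply, μD 0 a ha, μD 1 a ha, one_mul]⟩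
  rcases h3 _ _ _ i0 i01 il with ⟨π, ε, h⟩ | ⟨π, ε, h⟩ | ⟨π, ε, h⟩
  · obtain ⟨v, v0, v1, vp⟩ : ∃ v : Fin (r + 3), 0 ≠ v ∧ 1 ≠ v ∧ π 0 ≠ v := by
      by_cases h2 : π 0 = ⟨2, by omega⟩
      · exact ⟨⟨3, by omega⟩, by simp [Fin.ext_iff], by simp [Fin.ext_iff], by simp [h2]⟩
      · exact ⟨_, n02, n12, h2⟩
    by_cases h0 : π 0 = 0
    · have := h _ (pair_mem 1 v g)
      rw [MonoidHom.mul_apply, μa, μa, μa, sw_apply, sge, h0] at this
      exact sgg (by simpa [v0, v1] using this)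
    · have := h _ (pair_mem 0 v g)
      rw [MonoidHom.mul_apply, μa, μa, μa, sw_apply, sge] at this
      exact sgg (by simpa [v0, v1, vp, h0] using this)
  · exact lc (by rw [h _ cT, μa, sw_apply, sge, sgc])
  · exact lc (by rw [h _ cT, MonoidHom.mul_apply, μa, μa, sw_apply, sw_apply, sge, sge, sgc, sgc, one_mul])

end H31.KuX3
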