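import Cfsg.Agent.H3.GHL5
import Cfsg.Agent.H93.S2BR
import Cfsg.Agent.S0249
import Cfsg.Agent.H57.SLCard

/-! A 2-constrained group of sectional rank at most four over `L₃(2)` (row S3105). -/

set_option autoImplicit false

namespace H31.L3C

open Cfsg Subgroup H98 H86.AG H94.GH H3.GHL
open scoped commutatorElement

universe u

variable {G : Type u} [Group G]

theorem coords [Finite G] {X W : Subgroup G} [W.Normal] (idx : X.index = 168) (hW : El 8 W)
    (hc : cen W = X) : ∃ e : V3 → G, (∀ u v, e (u + v) = e u * e v) ∧ (∀ u v, e u = e v → u = v) ∧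
      (∀ w, w ∈ W ↔ ∃ v, w = e v) ∧ (∀ a b c, Ind a b c → ∃ g, Ac e g (lin a b c)) ∧
      ∀ g, g ∈ X ↔ Ac e g id := by
  obtain ⟨ψ⟩ := H12.ea_nonempty_mulEquiv_fun (p := 2) (n := 3) hW.1 hW.2
  let j : V3 ≃+ (Fin 3 → ZMod 2) := ⟨⟨fun v => ![v.1, v.2.1, v.2.2], fun f => (f 0, f 1, f 2),
    fun _ => rfl, fun f => by funext i; fin_cases i <;> rfl⟩,
    fun u v => by funext i; fin_cases i <;> rfl⟩
  let χ : Multiplicative V3 ≃* W := j.toMultiplicative.trans ψ.symm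
  refine ⟨fun v => χ (.ofAdd v), fun u v => by simp, fun u v h => χ.injective (Subtype.ext h),
    fun w => ⟨fun h => ⟨(χ.symm ⟨w, h⟩).toAdd, by simp⟩, fun ⟨v, h⟩ => h ▸ (χ _).2⟩,
    fun a b c h => ?_, fun g => ?_⟩
  · obtain ⟨ε⟩ := H12.nonempty_mulAut_equiv_GL (W := W) (p := 2) (n := 3)
      (fun a b => hW.1.1.1.1 a b) (fun a => Subtype.ext (hW.1.2 a a.2)) hW.2
    have hk : (MulAut.conjNormal : G →* MulAut W).ker = X := by
      rw [← hc]; ext g
      refine ⟨fun h w hw => ?_, fun h => MulEquiv.ext fun w => Subtype.ext ?_⟩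
      · exact (mul_inv_eq_iff_eq_mul.1 (congrArg Subtype.val (DFunLike.congr_fun h ⟨w, hw⟩))).symm
      · exact mul_inv_eq_iff_eq_mul.2 (h w w.2).symm
    have hs : (MulAut.conjNormal : G →* MulAut W).range = ⊤ := eq_top_of_card_eq _ (by
      rw [← index_ker, hk, idx, (Nat.card_congr ε.toEquiv).trans H3.Ru.card_GL32])
    let l : V3 →+ V3 := AddMonoidHom.mk' (lin a b c) (lin_add a b c)
    let l' : V3 ≃+ V3 := AddEquiv.ofBijective l
      (Finite.injective_iff_bijective.1 ((injective_iff_map_eq_zero l).2 h))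
    obtain ⟨g, hg⟩ := hs.ge (mem_top (χ.symm.trans (l'.toMultiplicative.trans χ)))
    refine ⟨g, fun v => ?_⟩
    have := congrArg Subtype.val (DFunLike.congr_fun hg (χ (.ofAdd v)))
    simp at this
    exact this
  · rw [← hc]
    refine ⟨fun h v => by rw [← h _ (χ _).2, mul_inv_cancel_right]; rfl, fun h w hw => ?_⟩
    have := h (χ.symm ⟨w, hw⟩).toAdd
    simp only [id, ofAdd_toAdd, MulEquiv.apply_symm_apply] at this
    exact (mul_inv_eq_iff_eq_mul.1 this).symm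

theorem odd_one {Y : Subgroup G} (two : IsPGroup 2 Y) {x : G} (hx : x ∈ Y) {n : ℕ} (o : Odd n)
    (h : x ^ n = 1) : x = 1 := by
  obtain ⟨k, hk⟩ := two ⟨x, hx⟩
  rw [← pow_one x, ← (Nat.coprime_two_right.2 o).pow_right k, pow_gcd_eq_one]
  exact ⟨h, congrArg Subtype.val hk⟩

theorem c4 [Finite G] (r4 : SectionalPRankLE 2 4 G) {Y M : Subgroup G} {α c : G}
    (two : IsPGroup 2 Y) [nY : Y.Normal] (sm : Sm Y) (hα : α ∉ Y) (MY : M ≤ Y) (cY : c ∈ Y)
    (h8 : Nat.card M = 8) (m2 : ∀ m ∈ M, m * m = 1) (αM : α ∈ nor M)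
    (fpf : ∀ m ∈ M, Commute α m → m = 1) (αc : Commute α c) (cM : c ∈ cen M)
    (dec : ∀ y ∈ Y, ∃ m ∈ M, ∃ k : ℕ, y = m * c ^ k) : c ^ 4 = 1 := by
  by_contra hc
  have cY' : Y ≤ centralizer {c} := fun y hy => by
    obtain ⟨m, hm, k, rfl⟩ := dec y hy
    exact mul_mem (mem_centralizer_singleton_iff.2 (cM m hm))
      (pow_mem (mem_centralizer_singleton_iff.2 rfl) k)
  have ab : ∀ x ∈ Y, ∀ y ∈ Y, x * y = y * x := fun x hx y hy => by
    obtain ⟨m, hm, k, rfl⟩ := dec y hy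
    refine Commute.mul_right ?_ (Commute.pow_right (mem_centralizer_singleton_iff.1 (cY' hx)) k)
    obtain ⟨n, hn, j, rfl⟩ := dec x hx
    exact Commute.mul_left (commutatorElement_eq_one_iff_commute.1
      (H9.Sec.SQ.comm (K := ⊥) m2 hn hm)) (Commute.pow_left (cM m hm).symm j)
  have sqm : ∀ x ∈ Y, ∀ y ∈ Y, x * y * (x * y) = x * x * (y * y) := fun x hx y hy => by
    rw [mul_assoc, ← mul_assoc y, ← ab x hx y hy]; group
  set D := zpowers (c * c) with hD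
  have DY : D ≤ Y := zpowers_le.2 (mul_mem cY cY)
  have sqD : ∀ y ∈ Y, y * y ∈ D := fun y hy => by
    obtain ⟨m, hm, k, rfl⟩ := dec y hy
    rw [sqm m (MY hm) _ (pow_mem cY k), m2 m hm, one_mul, ← (Commute.refl c).mul_pow]
    exact pow_mem (mem_zpowers _) k
  have nD : D.Normal := ⟨by
    rintro _ ⟨k, rfl⟩ g
    beta_reduce
    rw [← conj_zpow, ← conj_mul]
    exact zpow_mem (sqD _ (nY.conj_mem c cY g)) k⟩
  have αD : α ∈ cen D := by
    rintro _ ⟨k, rfl⟩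
    exact ((αc.mul_right αc).zpow_right k).eq.symm
  have zD : ∀ g, ∀ d ∈ D, d * g = g * d := fun g d hd =>
    ((sm.2 (cen D) inferInstance fun y hy d hd => ab d (DY hd) y hy).resolve_left
      (fun e => hα (e.le αD))).ge (mem_top g) d hd
  have MD : ∀ m ∈ M, m ∈ D → m = 1 := fun m hm h => fpf m hm (zD α m h).symm
  have sqc : ∀ g, ∀ y ∈ Y, g * y * g⁻¹ * (g * y * g⁻¹) = y * y := fun g y hy => by
    rw [conj_mul, ← zD g _ (sqD y hy), mul_inv_cancel_right]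
  let π := QuotientGroup.mk' D
  have π1 : ∀ {x y}, π x = π y ↔ x⁻¹ * y ∈ D := QuotientGroup.eq
  have y4 : ∀ y ∈ Y, y * y * (y * y) = 1 → π y ∈ M.map π := fun y hy h => by
    obtain ⟨m, hm, k, rfl⟩ := dec y hy
    obtain ⟨j, rfl⟩ | o := k.even_or_odd
    · exact ⟨m, hm, π1.2 (by rw [inv_mul_cancel_left, pow_add]; exact sqD _ (pow_mem cY j))⟩
    · rw [sqm m (MY hm) _ (pow_mem cY k), m2 m hm, one_mul] at h
      exact (hc (odd_one two (pow_mem cY 4) o (by rw [← h]; group))).elim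
  have nM : (M.map π).Normal := ⟨by
    rintro _ ⟨m, hm, rfl⟩ g
    obtain ⟨g, rfl⟩ := QuotientGroup.mk'_surjective D g
    rw [← map_inv, ← map_mul, ← map_mul]
    exact y4 _ (nY.conj_mem m (MY hm) g) (by rw [sqc g m (MY hm), m2 m hm, mul_one])⟩
  have sm' := sm.map DY
  have Yπ : ∀ {g}, π g ∈ Y.map π ↔ g ∈ Y := fun {g} => by
    rw [← mem_comap, comap_map_eq_self (by rwa [QuotientGroup.ker_mk'])]
  obtain ⟨e, add, inj, mem, sur, ker⟩ := coords (W := M.map π) sm'.1 ⟨⟨⟨⟨by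
      rintro ⟨_, a, ha, rfl⟩ ⟨_, b, hb, rfl⟩
      exact Subtype.ext (by simp only [coe_mul, ← map_mul, ab a (MY ha) b (MY hb)])⟩⟩, by
      rintro _ ⟨a, ha, rfl⟩
      rw [sq, ← map_mul, m2 a ha, map_one]⟩, by
      rw [← relIndex_ker, QuotientGroup.ker_mk', ← inf_relIndex_right,
        show D ⊓ M = ⊥ from eq_bot_iff.2 fun m hm => MD m hm.2 hm.1, relIndex_bot_left, h8]⟩
    ((sm'.2 _ inferInstance (by
      rintro _ ⟨y, hy, rfl⟩ _ ⟨m, hm, rfl⟩
      rw [← map_mul, ← map_mul, ab m (MY hm) y hy])).resolve_right fun h => by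
      rw [show M = ⊥ from eq_bot_iff.2 fun m hm => fpf m hm <| by
        have := h.ge (mem_top (π α)) _ ⟨m, hm, rfl⟩
        rw [← map_mul, ← map_mul, π1] at this
        have h1 := MD _ (by
          simpa [mul_assoc] using mul_mem (conj_mem_of_mem_normalizer (inv_mem αM) (inv_mem hm)) hm)
          (show α⁻¹ * (m⁻¹ * (α * m)) ∈ D by simpa [mul_assoc] using this)
        rwa [inv_mul_eq_one, eq_inv_mul_iff_mul_eq, eq_comm] at h1, card_bot] at h8
      exact absurd h8 (by decide))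
  have lift : ∀ v, ∃ m ∈ M, π m = e v := fun v => (mem _).2 ⟨v, rfl⟩
  have kY : ∀ {g f}, Ac e (π g) f → (g ∈ Y ↔ ∀ v, f v = v) := fun h => by
    rw [← Yπ, ker]
    exact ⟨fun h' v => inj _ _ ((h v).symm.trans (h' v)), fun h' => h.cg h'⟩
  have amul : ∀ {g g' f f'}, Ac e (π g) f → Ac e (π g') f' → Ac e (π (g * g')) (f ∘ f') :=
    fun h h' => map_mul π _ _ ▸ h.mul h'
  have ainv : ∀ {g f} f', Ac e (π g) f → (∀ v, f (f' v) = v) → Ac e (π g⁻¹) f' :=
    fun _ h h' => map_inv π _ ▸ h.inv h'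
  have acj : ∀ {g y f v}, Ac e (π g) f → π y = e v → π (g * y * g⁻¹) = e (f v) := fun h h' => by
    rw [map_mul, map_mul, map_inv, h', h]
  obtain ⟨ρ, hρ, ρ3⟩ : ∃ ρ, Ac e (π ρ) R3 ∧ ρ ^ 3 = 1 := by
    obtain ⟨g, hg⟩ : ∃ g, Ac e g R3 := sur _ _ _ (by decide)
    obtain ⟨g, rfl⟩ := QuotientGroup.mk'_surjective D g
    have h3 : g ^ 3 ∈ Y := (kY (map_pow π g 3 ▸ hg.pow 3)).2 (by decide)
    obtain ⟨k, hk⟩ := two ⟨_, h3⟩
    refine ⟨g ^ 4 ^ k, ?_, ?_⟩
    · have : 4 ^ k % 3 = 1 := by simp [Nat.pow_mod]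
      rw [show 4 ^ k = 3 * (4 ^ k / 3) + 1 by omega, pow_succ', pow_mul]
      exact amul hg ((ker _).1 (Yπ.2 (pow_mem h3 _)))
    · have : (g ^ 3) ^ 2 ^ k = 1 := congrArg Subtype.val hk
      rw [← one_pow (2 ^ k), ← this, ← pow_mul, ← pow_mul, ← pow_mul, ← mul_pow, mul_comm]; rfl
  have hρ' := ainv (R3 ∘ R3) hρ (by decide)
  obtain ⟨t, s, ht, hs, es, eu⟩ : ∃ t s, Ac e (π t) T2 ∧ Ac e (π s) T0 ∧ ρ * t * ρ⁻¹ = s ∧
      ρ * s * ρ⁻¹ = (t * s)⁻¹ := by
    obtain ⟨g, hg⟩ : ∃ g, Ac e g T0 := sur _ _ _ (by decide)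
    obtain ⟨g, rfl⟩ := QuotientGroup.mk'_surjective D g
    have h1 : Ac e (π (g⁻¹ * (ρ * g * ρ⁻¹))) T2 :=
      (amul (ainv T0 hg (by decide)) (amul (amul hρ hg) hρ')).cg (by decide)
    refine ⟨_, _, h1, (amul (amul hρ h1) hρ').cg (by decide), rfl, ?_⟩
    calc _ = ρ ^ 2 * g⁻¹ * (ρ ^ 2)⁻¹ * (ρ ^ 3 * g * (ρ ^ 3)⁻¹) := by
          simp [pow_succ, mul_assoc]
      _ = _ := by rw [ρ3]; group
  have ht' := ainv T2 ht (by decide)
  have hs' := ainv T0 hs (by decide)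
  have yY : t * t ∈ Y := (kY (amul ht ht)).2 (by decide)
  have sY : s * s ∈ Y := (kY (amul hs hs)).2 (by decide)
  obtain ⟨κ, hκ⟩ : ∃ κ, κ = t⁻¹ * s * t * s⁻¹ := ⟨_, rfl⟩
  have κY : κ ∈ Y := hκ ▸ (kY (amul (amul (amul ht' hs) ht) hs')).2 (by decide)
  have e1 : t⁻¹ * κ * t⁻¹⁻¹ * κ = (t * t)⁻¹ * (s * (t * t) * s⁻¹) := by rw [hκ]; group
  have e2 : ρ * (s * s) * ρ⁻¹ = (t * t * κ * (s * s))⁻¹ := by rw [← conj_mul, eu, hκ]; group
  have e3 : ρ * (t * t) * ρ⁻¹ = s * s := by rw [← conj_mul, es]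
  have κ4 : κ * κ * (κ * κ) = 1 := by
    have := congrArg (fun x => x * x) e1
    beta_reduce at this
    rwa [sqm _ (nY.conj_mem κ κY _) κ κY, sqc _ κ κY, sqm _ (inv_mem yY) _ (nY.conj_mem _ yY s),
      sqc _ _ yY, ← mul_inv_rev, inv_mul_cancel] at this
  have t8 : t * t * (t * t) * (t * t * (t * t)) = 1 := by
    have h1 := sqc ρ _ sY
    have h2 := sqc ρ _ yY
    rw [e2, ← mul_inv_rev, sqm _ (mul_mem yY κY) _ sY, sqm _ yY _ κY] at h1
    rw [e3] at h2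
    rw [h2] at h1
    have h3 := zD (κ * κ) _ (sqD _ yY)
    have dY := mul_mem yY yY
    generalize t * t * (t * t) = δ at *
    have h4 : κ * κ = (δ ^ 3)⁻¹ := by
      calc κ * κ = δ⁻¹ * (δ * (κ * κ) * δ) * δ⁻¹ := by group
        _ = _ := by rw [inv_eq_iff_eq_inv.1 h1]; group
    refine odd_one two (mul_mem dY dY) (n := 3) (by decide) (inv_eq_one.1 ?_)
    rw [← κ4, h4]; simp only [pow_succ]; group
  obtain ⟨w, wM, hw⟩ := lift (1, 0, 0)
  have e0 : e 0 = 1 := by simpa using add 0 0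
  let W := (sub (M.map π) ⊥ (fun a ha b hb => by
    obtain ⟨u, rfl⟩ := (mem a).1 ha
    obtain ⟨v, rfl⟩ := (mem b).1 hb
    rw [← add, ← add, add_comm]) ⊓ centralizer {π ρ}).comap π
  have mW : ∀ {x v}, π x = e v → (x ∈ W ↔ R3 v = v) := fun {x v} h => by
    refine ⟨fun h' => inj _ _ ?_, fun h' => ⟨⟨h ▸ (mem _).2 ⟨v, rfl⟩, ?_⟩, ?_⟩⟩
    · rw [← hρ, ← h, ← mem_centralizer_singleton_iff.1 h'.2, mul_inv_cancel_right]
    · rw [h, ← add, (by decide : ∀ v : V3, v + v = 0), e0]; rfl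
    · exact mem_centralizer_singleton_iff.2 (by
        rw [h, eq_comm, ← mul_inv_eq_iff_eq_mul, hρ, h'])
  have dW : ∀ x ∈ W, x ∈ D ∨ w⁻¹ * x ∈ D := fun x hx => by
    obtain ⟨v, hv⟩ := (mem _).1 hx.1.1
    rcases (by decide : ∀ v : V3, R3 v = v → v = 0 ∨ v = (1, 0, 0)) v ((mW hv).1 hx) with rfl | rfl
    exacts [.inl ((QuotientGroup.eq_one_iff x).1 (hv.trans e0)), .inr (π1.1 (hw.trans hv.symm))]
  have cW : ∀ g, g * w = w * g → ∀ x ∈ W, g * x = x * g := fun g h x hx => by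
    rcases dW x hx with h' | h'
    · exact (zD g x h').symm
    · rw [← mul_inv_cancel_left w x, ← mul_assoc, h, mul_assoc, ← zD g _ h', ← mul_assoc]
  have WY : W ≤ Y := fun x hx => Yπ.1 (map_mono MY hx.1.1)
  have mv : ∀ {g f}, Ac e (π g) f → f (1, 0, 0) = (1, 0, 0) → ∃ d ∈ D, g * w * g⁻¹ = d * w :=
    fun {g f} h h' => ⟨_, π1.1 (hw.trans (h' ▸ acj h hw).symm), by
      rw [zD w _ (π1.1 (hw.trans (h' ▸ acj h hw).symm)), mul_inv_cancel_left]⟩
  have ρw : ρ * w = w * ρ := by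
    obtain ⟨d, hd, h⟩ := mv hρ (by decide)
    have := fix_pow (zD ρ d hd).symm h 3
    rw [ρ3, one_mul, inv_one, mul_one, eq_comm, mul_eq_right] at this
    rwa [odd_one two (DY hd) (by decide) this, one_mul, mul_inv_eq_iff_eq_mul] at h
  have ρw' : ρ * w * ρ⁻¹ = w := mul_inv_eq_iff_eq_mul.2 ρw
  obtain ⟨tw, sw⟩ : t * w = w * t ∧ s * w = w * s := by
    obtain ⟨d, hd, h⟩ := mv ht (by decide)
    have k : ∀ g, g * w * g⁻¹ = d * w → ρ * g * ρ⁻¹ * w * (ρ * g * ρ⁻¹)⁻¹ = d * w := fun g h => by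
      calc _ = ρ * (g * (ρ⁻¹ * (ρ * w * ρ⁻¹) * ρ) * g⁻¹) * ρ⁻¹ := by rw [ρw']; group
        _ = ρ * d * ρ⁻¹ * (ρ * w * ρ⁻¹) := by
          rw [show ρ⁻¹ * (ρ * w * ρ⁻¹) * ρ = w by group, h]; group
        _ = _ := by rw [ρw', ← zD ρ d hd, mul_inv_cancel_right]
    have h1 := es ▸ k t h
    have h2 := eu ▸ k s h1
    have h3 : d ^ 3 = 1 := by
      refine mul_eq_right.1 (?_ : d ^ 3 * w = w)
      calc _ = d * d * t * t⁻¹ * (t * w * t⁻¹) := by rw [h]; simp [pow_succ, mul_assoc]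
        _ = t * (d * s * s⁻¹ * (s * w * s⁻¹)) * t⁻¹ := by
          rw [h1, zD t _ (mul_mem hd hd)]; group
        _ = t * s * ((t * s)⁻¹ * w * (t * s)⁻¹⁻¹) * (t * s)⁻¹ := by rw [h2, zD s d hd]; group
        _ = _ := by group
    rw [odd_one two (DY hd) (by decide) h3, one_mul, mul_inv_eq_iff_eq_mul] at h h1
    exact ⟨h, h1⟩
  have κW : κ ∈ W := by
    obtain ⟨v, hv⟩ := (mem _).1 (y4 κ κY κ4)
    refine (mW hv).2 (inj _ _ ?_)
    rw [← acj hρ hv, ← hv]
    congr 1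
    calc _ = (ρ * t * ρ⁻¹)⁻¹ * (ρ * s * ρ⁻¹) * (ρ * t * ρ⁻¹) * (ρ * s * ρ⁻¹)⁻¹ := by rw [hκ]; group
      _ = (s * s)⁻¹ * (κ * (s * s)) := by rw [es, eu, hκ]; group
      _ = κ := by rw [ab κ κY _ sY, inv_mul_cancel_left]
  rw [inv_inv, mul_assoc t⁻¹, ← cW t tw κ κW, inv_mul_cancel_left] at e1
  have yW : t * t ∈ W := by
    obtain ⟨v, hv⟩ := (mem _).1 (y4 _ yY t8)
    refine (mW hv).2 ((by decide : ∀ v, T2 v = v → T0 v = v → R3 v = v) v (inj _ _ ?_) (inj _ _ ?_))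
    · rw [← acj ht hv, ← hv]; congr 1; group
    · rw [← acj hs hv, ← hv, eq_comm, π1, ← e1]; exact sqD κ κY
  rw [cW s sw _ yW, mul_inv_cancel_right, inv_mul_cancel] at e1
  rw [cW ρ ρw _ yW, mul_inv_cancel_right] at e3
  have t4 : t * t * (t * t) = 1 := by
    rw [← e3, cW ρ ρw _ yW, mul_inv_cancel_right, mul_assoc _ κ, ab κ κY _ yY] at e2
    generalize t * t = y at *
    have h4 : κ = (y ^ 3)⁻¹ := by
      calc κ = (y * y)⁻¹ * (y * (y * κ)) := by group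
        _ = _ := by rw [inv_eq_iff_eq_inv.1 e2.symm]; group
    refine odd_one two (mul_mem yY yY) (n := 3) (by decide) (inv_eq_one.1 ?_)
    rw [← e1, h4]; simp only [pow_succ]; group
  let K := sub W (zpowers (c ^ 8)) fun a ha b hb => ab a (WY ha) b (WY hb)
  have mK : ∀ {x}, x ∈ W → x * x = 1 → x ∈ K := fun h h' => ⟨h, h' ▸ one_mem _⟩
  have nK : ∀ g, g * w = w * g → g ∈ nor K := fun g h =>
    centralizer_le_normalizer _ fun x hx => (cW g h x hx.1).symm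
  obtain ⟨a, aM, ha⟩ := lift (0, 1, 0)
  obtain ⟨b, bM, hb⟩ := lift (0, 0, 1)
  have ccW : c * c ∈ W := (mW (((QuotientGroup.eq_one_iff _).2 (mem_zpowers _)).trans e0.symm)).2 rfl
  have br : ∀ {g f m v}, Ac e (π g) f → m ∈ M → π m = e v → R3 (f v + v) = f v + v →
      g * m * g⁻¹ * m⁻¹ ∈ K := fun {g f m v} h hm hv h' => by
    rw [inv_eq_of_mul_eq_one_right (m2 m hm)]
    refine mK ((mW (by rw [map_mul, acj h hv, hv, add])).2 h') ?_
    rw [sqm _ (nY.conj_mem m (MY hm) g) m (MY hm), sqc g m (MY hm), m2 m hm, mul_one]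
  have bk : s * t * s⁻¹ * t⁻¹ ∈ K := by
    have := conj_mem_of_mem_normalizer (nK t tw) (mK κW e1)
    rwa [hκ, show t * (t⁻¹ * s * t * s⁻¹) * t⁻¹ = s * t * s⁻¹ * t⁻¹ by group] at this
  have cD := mem_zpowers (c * c)
  have hH := sq_closure (K := K) (S := {t, s, a, b, c * c}) (by
      simp only [Set.mem_insert_iff, Set.mem_singleton_iff, forall_eq_or_imp, forall_eq]
      exact ⟨nK t tw, nK s sw, nK a (ab a (MY aM) w (MY wM)), nK b (ab b (MY bM) w (MY wM)),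
        nK _ (zD w _ cD)⟩) (by
      have o : ∀ {x y : G}, x * y = y * x → x * y * x⁻¹ * y⁻¹ ∈ K := H70.GH.br_of_comm
      have fl : ∀ {x y : G}, x * y * x⁻¹ * y⁻¹ ∈ K → y * x * y⁻¹ * x⁻¹ ∈ K := H70.GH.flip
      have ta := br ht aM ha (by decide)
      have tb := br ht bM hb (by decide)
      have sa := br hs aM ha (by decide)
      have sb := br hs bM hb (by decide)
      have hab := ab a (MY aM) b (MY bM)
      simp only [Set.mem_insert_iff, Set.mem_singleton_iff, forall_eq_or_imp, forall_eq]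
      exact ⟨⟨o rfl, fl bk, ta, tb, o (zD _ _ cD).symm⟩, ⟨bk, o rfl, sa, sb, o (zD _ _ cD).symm⟩,
        ⟨fl ta, fl sa, o rfl, o hab, o (zD _ _ cD).symm⟩,
        ⟨fl tb, fl sb, o hab.symm, o rfl, o (zD _ _ cD).symm⟩,
        o (zD _ _ cD), o (zD _ _ cD), o (zD _ _ cD), o (zD _ _ cD), o rfl⟩) (by
      simp only [Set.mem_insert_iff, Set.mem_singleton_iff, forall_eq_or_imp, forall_eq]
      exact ⟨mK yW t4, e3 ▸ mK yW t4, m2 a aM ▸ one_mem _, m2 b bM ▸ one_mem _,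
        mul_mem ccW ccW, 1, by simp [pow_succ, mul_assoc]⟩)
  have k := H40.GH.sec r4 hH
  set H := closure {t, s, a, b, c * c}
  have tH : t ∈ H := subset_closure (by simp)
  have sH : s ∈ H := subset_closure (by simp)
  have aH : a ∈ H := subset_closure (by simp)
  have bH : b ∈ H := subset_closure (by simp)
  have cH : c * c ∈ H := subset_closure (by simp)
  have cz : ∀ {g y f v}, Ac e (π g) f → π y = e v → (π y * π g = π g * π y ↔ f v = v) :=
    fun {g y f v} h h' => by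
      rw [eq_comm, ← mul_inv_eq_iff_eq_mul, h', h]
      exact ⟨inj _ _, congrArg _⟩
  have k1 := step (K := K ⊓ H) (L := K ⊓ H) (M := W ⊓ H) le_rfl (inf_le_inf_right H fun x hx => hx.1)
    ⟨ccW, cH⟩ (fun h => hc (by
      obtain ⟨j, hj⟩ := (mem_powers_iff_mem_zpowers.2 h.1.2 :)
      have hj : (c ^ 8) ^ j = c * c * (c * c) := hj
      rw [show c * c * (c * c) = c ^ 4 by simp [pow_succ, mul_assoc]] at hj
      rcases j with _ | j
      · exact hj.symm.trans (pow_zero _)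
      refine odd_one two (pow_mem cY 4) (n := 2 * j + 1) (by simp) (mul_right_cancel (b := c ^ 4) ?_)
      rw [one_mul]; nth_rw 3 [← hj]; group))
    (relIndex_self _).ge
  have k2 := step (K := K ⊓ H) (L := W ⊓ H) (M := Y ⊓ (centralizer {π s}).comap π ⊓ H)
    (inf_le_inf_right H fun x hx => hx.1) (inf_le_inf_right H fun x hx => ⟨WY hx,
      mem_centralizer_singleton_iff.2 (by rw [← map_mul, ← map_mul, cW s sw x hx])⟩)
    ⟨⟨MY aM, mem_centralizer_singleton_iff.2 ((cz hs ha).2 (by decide))⟩, aH⟩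
    (fun h => absurd ((mW ha).1 h.1) (by decide)) k1
  have l2 : K ⊓ H ≤ Y ⊓ (centralizer {π s}).comap π ⊓ H := inf_le_inf_right H fun x hx => ⟨WY hx.1,
      mem_centralizer_singleton_iff.2 (by rw [← map_mul, ← map_mul, cW s sw x hx.1])⟩
  have k3 := step (M := Y ⊓ H) l2 (inf_le_inf_right H inf_le_left) ⟨MY bM, bH⟩
    (fun h => absurd ((cz hs hb).1 (mem_centralizer_singleton_iff.1 h.1.2)) (by decide)) k2
  have l3 : Y ⊓ H ≤ (centralizer {π a}).comap π ⊓ H := inf_le_inf_right H fun x hx =>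
    mem_centralizer_singleton_iff.2 (by rw [← map_mul, ← map_mul, ab x hx a (MY aM)])
  have k4 := step (l2.trans (inf_le_inf_right H inf_le_left)) l3
    ⟨mem_centralizer_singleton_iff.2 ((cz hs ha).2 (by decide)).symm, sH⟩
    (fun h => absurd ((kY hs).1 h.1) (by decide)) k3
  have k5 := step (M := H) ((l2.trans (inf_le_inf_right H inf_le_left)).trans l3) inf_le_right tH
    (fun h => absurd ((cz ht ha).1 (mem_centralizer_singleton_iff.1 h.1).symm) (by decide)) k4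
  rw [inf_relIndex_right] at k5
  omega

theorem s3105 {X : Type u} [Group X] [Finite X] (hc : IsPConstrained 2 X) (hO : oddCore X = ⊥)
    (h4 : SectionalPRankLE 2 4 X) {F : Type*} [Field F] [Fintype F] (hF : Fintype.card F = 2)
    (hQ : Nonempty (X ⧸ pCore 2 X ≃* Matrix.ProjectiveSpecialLinearGroup (Fin 3) F)) :
    (IsElementaryAbelian 2 (pCore 2 X) ∧ (Nat.card (pCore 2 X) = 8 ∨ Nat.card (pCore 2 X) = 16)) ∨
      Nonempty (pCore 2 X ≃* Multiplicative (ZMod 4) × (Fin 3 → Multiplicative (ZMod 2))) := by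
  obtain ⟨ε⟩ := hQ
  have con := H93.S2B.con_of_constrained hc hO
  have nY := con.normal
  have two := con.pg
  have cent := con.cent
  set Y := pCore 2 X
  have := Cfsg.Agent.S0249.result (F := F) 3 le_rfl
  have := ε.isSimpleGroup
  have sm : Sm Y := ⟨by
      have := H57.card_psl_fin (F := F) (n := 3) (by norm_num)
      rw [hF, ← Nat.card_congr ε.toEquiv] at this
      simpa [Fin.prod_univ_three, index] using this, fun N hN l =>
    ((hN.map _ (QuotientGroup.mk'_surjective Y)).eq_bot_or_eq_top).imp (fun e => le_antisymm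
      (by simpa using (Subgroup.map_eq_bot_iff _).1 e) l) fun e => by
        rw [← comap_map_eq_self ((QuotientGroup.ker_mk' Y).le.trans l), e, comap_top]⟩
  have : Fact (Nat.Prime 7) := ⟨by decide⟩
  obtain ⟨α, o⟩ := exists_prime_orderOf_dvd_card' (G := X) 7
    (Dvd.dvd.trans (by rw [sm.1]; decide) (index_dvd_card Y))
  have h7 := o ▸ pow_orderOf_eq_one α
  have hα : α ∉ Y := fun h => by
    rw [eq_one7 two h7 h, orderOf_one] at o
    exact absurd o (by decide)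
  obtain ⟨M, MY, c, cY, h8, m2, αM, fpf, αc, cM, dec⟩ := str h4 two (le_top.trans
    (normalizer_eq_top Y).ge (mem_top α)) h7 (red _ X (Nat.lt_succ_self _) Y h4 two nY sm α h7)
    fun h => hα (cent h)
  have k := c4 h4 two sm hα MY cY h8 m2 αM fpf αc cM dec
  have cm : ∀ (x : zpowers c) (m : M), Commute (inclusion (zpowers_le.2 cY) x) (inclusion MY m) := by
    rintro ⟨_, j, rfl⟩ m
    exact Subtype.ext (Commute.zpow_left (cM m m.2).symm j)
  let E : zpowers c × M ≃* Y := MulEquiv.ofBijective (MonoidHom.noncommCoprod _ _ cm) ⟨by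
      rw [injective_iff_map_eq_one]
      rintro ⟨⟨_, j, rfl⟩, m⟩ h
      have h : c ^ j * m = 1 := congrArg Subtype.val h
      have h1 := fpf m m.2 (eq_inv_of_mul_eq_one_right h ▸ (αc.zpow_right j).inv_right)
      rw [h1, mul_one] at h
      exact Prod.ext (Subtype.ext h) (Subtype.ext h1), fun y => by
      obtain ⟨m, hm, j, e⟩ := dec y y.2
      exact ⟨(⟨c ^ j, pow_mem (mem_zpowers c) j⟩, ⟨m, hm⟩), Subtype.ext
        ((Commute.pow_left (cM m hm).symm j).eq.trans e.symm)⟩⟩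
  have mc : ∀ a b : M, a * b = b * a := fun a b => Subtype.ext
    (commutatorElement_eq_one_iff_mul_comm.1 (H9.Sec.SQ.comm (K := ⊥) m2 a.2 b.2))
  have cY' : Nat.card Y = orderOf c * 8 := by
    rw [← Nat.card_congr E.toEquiv, Nat.card_prod, Nat.card_zpowers, h8]
  by_cases c2 : c ^ 2 = 1
  · have sq' : ∀ y ∈ Y, y * y = 1 := fun y hy => by
      obtain ⟨m, hm, j, rfl⟩ := dec y hy
      rw [← sq, (Commute.pow_right (cM m hm) j).mul_pow, ← pow_mul, mul_comm j, pow_mul, c2, sq, m2 m hm]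
      simp
    refine .inl ⟨⟨⟨⟨fun a b => Subtype.ext (commutatorElement_eq_one_iff_mul_comm.1
      (H9.Sec.SQ.comm (K := ⊥) sq' a.2 b.2))⟩⟩, fun a ha => (sq a).trans (sq' a ha)⟩, ?_⟩
    rcases (Nat.dvd_prime Nat.prime_two).1 (orderOf_dvd_of_pow_eq_one c2) with h | h <;> simp [cY', h]
  obtain ⟨ψ⟩ := H12.nonempty_mulEquiv_fun (p := 2) (n := 3) mc
    (fun a => Subtype.ext ((sq _).trans (m2 a a.2))) h8
  have o4 : orderOf c = 4 := orderOf_eq_prime_pow (p := 2) (n := 1) c2 k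
  exact .inr ⟨E.symm.trans (MulEquiv.prodCongr (mulEquivOfCyclicCardEq (by
    rw [Nat.card_zpowers, o4]; simp)) (ψ.trans (MulEquiv.piMultiplicative _)))⟩

end H31.L3C
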