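import Cfsg.Agent.H31.O7K
import Cfsg.Agent.H61.O7DK
import Cfsg.Agent.H61.O7S3
import Cfsg.Agent.H38.O7SH
import Cfsg.Agent.H1.O7Ext
import Cfsg.Agent.H19.O7Deg
import Cfsg.Agent.H13.O7Rat
import Cfsg.Agent.H19.O7QF
import Cfsg.Agent.H96.O7Step
import Cfsg.Agent.H15.O7Sm
import Cfsg.Agent.H44.O7Col
import Cfsg.Agent.H73.O7Aff
import Cfsg.Agent.H5.O7Sx
import Cfsg.Agent.H41.O7E7
import Cfsg.Agent.H69.StdCondSp
import Cfsg.Agent.H87.Simple
import Cfsg.Agent.S0270
import Cfsg.Agent.S2119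
import Cfsg.Prelude.Def_GeometricClasses

/-! O7: the use of maximality. -/

set_option autoImplicit false

namespace H31.O7

open H56 QuadraticMap Module Cfsg Cfsg.Geo Subgroup
open scoped commutatorElement

universe u

variable {F : Type u} [Field F] {V : Type u} [AddCommGroup V] [Module F V] {Q : QuadraticForm F V}
  {Γ : Type} [Group Γ] {H : Subgroup (O Q)} {ρ : Γ →* O Q}

/-- The setting. -/
structure St (H : Subgroup (O Q)) (ρ : Γ →* O Q) : Prop where
  two : (2 : F) ≠ 0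
  nd : Q.polarBilin.Nondegenerate
  dim : finrank F V = 7
  inj : Function.Injective ρ
  max : IsMaximalIn (commutator (O Q)) H
  le : ρ.range ≤ H
  nor : H ≤ normalizer (ρ.range : Set (O Q))
  simple : IsSimpleGroup Γ
  nab : ¬ IsMulCommutative Γ
  span : Submodule.span F (Set.range fun x => (ρ x).lin) = ⊤
  tr : ∀ k : Subfield F, (∀ x, tr Q (ρ x) ∈ k) → k = ⊤
  om : IsSimpleGroup (commutator (O Q))
  big : 1451520 < Nat.card (commutator (O Q))

theorem eq_bot_or_eq {G : Type*} [Group G] {M N : Subgroup G} (h : IsSimpleGroup M) (le : N ≤ M)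
    (n : M ≤ normalizer (N : Set G)) : N = ⊥ ∨ N = M := by
  have := (normal_subgroupOf_iff_le_normalizer le).2 n
  exact this.eq_bot_or_eq_top.imp
    (fun e => by rwa [subgroupOf_eq_bot, disjoint_iff, inf_eq_left.2 le] at e)
    fun e => le.antisymm (subgroupOf_eq_top.1 e)

theorem perfect_of {G : Type*} [Group G] {M : Subgroup G} (h : IsSimpleGroup M)
    (n : ¬ IsMulCommutative M) : ⁅M, M⁆ = M := by
  rw [← map_subtype_commutator, H87.commutator_eq_top n, ← MonoidHom.range_eq_map, range_subtype]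

theorem card_p6 : Nat.card (PSp 3 (ZMod 2)) = 1451520 :=
  (Nat.card_congr H69.Std.pspEquiv.toEquiv).trans H22.Sp6.card_sp6

theorem nab_of_card {G : Type*} [Group G] [IsSimpleGroup G] (h : ¬ (Nat.card G).Prime) :
    ¬ IsMulCommutative G := fun c =>
  let _ : CommGroup G := { (inferInstance : Group G) with mul_comm := c.1.1 }
  h IsSimpleGroup.prime_card

theorem neg_comm (g : O Q) : Commute (O.negOne Q) g := (mem_center_iff.1 O.negOne_mem_center g).symm

theorem conj_gen (g : O Q) (v : V) :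
    g * (O.negOne Q * refl Q v) * g⁻¹ = O.negOne Q * refl Q (g v) := by
  rw [← conj_refl, ← mul_assoc, ← (neg_comm g).eq]; group

theorem mem_Mg {Ψ : Set V} {v : V} (h : v ∈ Ψ) : O.negOne Q * refl Q v ∈ Mg Q Ψ :=
  subset_closure ⟨v, h, rfl⟩

theorem Mg_mono {Ψ Φ : Set V} (h : Ψ ⊆ Φ) : Mg Q Ψ ≤ Mg Q Φ :=
  closure_mono fun _ ⟨v, a, b⟩ => ⟨v, h a, b⟩

/-- Elements which permute the lines of `Ψ` normalise `Mg Q Ψ`. -/
theorem le_nor_Mg {Ψ : Set V} {A : Subgroup (O Q)}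
    (h : ∀ g ∈ A, ∀ v ∈ Ψ, ∃ w ∈ Ψ, ∃ c : F, c ≠ 0 ∧ g v = c • w) :
    A ≤ normalizer (Mg Q Ψ : Set (O Q)) := by
  have a : ∀ g ∈ A, ∀ x ∈ Mg Q Ψ, g * x * g⁻¹ ∈ Mg Q Ψ := fun g hg =>
    (closure_le ((Mg Q Ψ).comap (MulAut.conj g).toMonoidHom)).2 (by
      rintro _ ⟨v, hv, rfl⟩
      obtain ⟨w, hw, c, c0, e⟩ := h g hg v hv
      change g * _ * g⁻¹ ∈ Mg Q Ψ
      rw [conj_gen, e, refl_smul c0]
      exact mem_Mg hw)
  exact fun g hg x => ⟨a g hg x, fun c => by simpa [mul_assoc] using a _ (inv_mem hg) _ c⟩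

theorem pm_of_Mg {Ψ : Set V} {g : O Q} (hg : g ∈ Mg Q Ψ) :
    g ∈ reflGroup Q Ψ ∨ O.negOne Q * g ∈ reflGroup Q Ψ := by
  induction hg using closure_induction with
  | mem _ a =>
    obtain ⟨v, hv, rfl⟩ := a
    exact .inr (by rw [← mul_assoc, O.negOne_mul_self, one_mul]; exact refl_mem_reflGroup hv)
  | one => exact .inl (one_mem _)
  | mul x y _ _ a b =>
    rcases a with a | a <;> rcases b with b | b <;> have := mul_mem a b
    · exact .inl this
    · exact .inr (by rwa [← mul_assoc, ← (neg_comm x).eq, mul_assoc] at this)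
    · exact .inr (by rwa [mul_assoc] at this)
    · exact .inl (by rwa [mul_assoc, ← mul_assoc x, ← (neg_comm x).eq, mul_assoc, ← mul_assoc,
        O.negOne_mul_self, one_mul] at this)
  | inv x _ a =>
    refine a.imp inv_mem fun a => ?_
    have := inv_mem a
    rwa [mul_inv_rev, inv_eq_of_mul_eq_one_right (O.negOne_mul_self (Q := Q)), ← (neg_comm _).eq] at this

theorem pm_of_refl {Ψ : Set V} {g : O Q} (hg : g ∈ reflGroup Q Ψ) :
    g ∈ Mg Q Ψ ∨ O.negOne Q * g ∈ Mg Q Ψ := by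
  induction hg using reflGroup_induction with
  | h1 => exact .inl (one_mem _)
  | hmul v hv _ g _ a =>
    rcases a with a | a <;> have := mul_mem (mem_Mg hv) a
    · exact .inr (by rwa [mul_assoc] at this)
    · exact .inl (by rwa [mul_assoc, ← mul_assoc (refl Q v), ← (neg_comm _).eq, mul_assoc,
        ← mul_assoc, O.negOne_mul_self, one_mul] at this)

theorem tr_neg (g : O Q) : tr Q (O.negOne Q * g) = -tr Q g := by
  rw [tr, tr, ← map_neg]; rfl

theorem tr_Mg {Ψ : Set V} {k : Subfield F} (h : ∀ g ∈ reflGroup Q Ψ, tr Q g ∈ k) {g : O Q}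
    (hg : g ∈ Mg Q Ψ) : tr Q g ∈ k :=
  (pm_of_Mg hg).elim (h g) fun a => by simpa [tr_neg] using neg_mem (h _ a)

theorem prime_of_bot [Fintype F] (h : (⊥ : Subfield F) = ⊤) {p : ℕ} [CharP F p] :
    Fintype.card F = p := by
  have : Fact p.Prime := ⟨CharP.char_is_prime F p⟩
  have e : (ZMod.castHom (dvd_refl p) F).fieldRange = ⊤ := eq_top_iff.2 (h ▸ bot_le)
  rw [← ZMod.card p]
  exact (Fintype.card_of_bijective ⟨(ZMod.castHom (dvd_refl p) F).injective,
    RingHom.fieldRange_eq_top_iff.1 e⟩).symm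

variable [FiniteDimensional F V]

namespace St

variable (h : St H ρ)
include h

theorem det_om {g : O Q} (hg : g ∈ commutator (O Q)) : O.det Q g = 1 :=
  Abelianization.commutator_subset_ker (O.det Q) hg

theorem det_H {g : O Q} (hg : g ∈ H) : O.det Q g = 1 := h.det_om (h.max.1.le hg)

theorem det_P {g : O Q} (hg : g ∈ ρ.range) : O.det Q g = 1 := h.det_H (h.le hg)

theorem neg_ne : (-1 : Fˣ) ≠ 1 := fun e => h.two (by
  have := congrArg Units.val e
  simp only [Units.val_neg, Units.val_one] at this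
  linear_combination -this)

omit [FiniteDimensional F V] in
theorem simpleP : IsSimpleGroup ρ.range :=
  have := h.simple
  (MonoidHom.ofInjective h.inj).symm.isSimpleGroup

omit [FiniteDimensional F V] in
theorem nabP : ¬ IsMulCommutative ρ.range := fun c => h.nab ⟨⟨fun a b =>
  (MonoidHom.ofInjective h.inj).injective (by rw [map_mul, map_mul, c.1.1])⟩⟩

theorem eq_one {g : O Q} (hd : O.det Q g = 1) (c : ∀ x, Commute g (ρ x)) : g = 1 := by
  have : g.lin ∈ Set.center (End F V) := Semigroup.mem_center_iff.2 fun f => by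
    have hf : f ∈ Submodule.span F (Set.range fun x => (ρ x).lin) := h.span ▸ Submodule.mem_top
    induction hf using Submodule.span_induction with
    | mem _ a => obtain ⟨x, rfl⟩ := a; exact congrArg O.lin (c x).eq.symm
    | zero => simp
    | add _ _ _ _ a b => rw [add_mul, mul_add, a, b]
    | smul c _ _ a => rw [smul_mul_assoc, mul_smul_comm, a]
  obtain ⟨a, ha, e⟩ := End.mem_center_iff.1 this
  have e' : g.lin = a • LinearMap.id := e.trans (by ext; simp)
  have : Nontrivial V := nontrivial_of_finrank_pos (R := F) (h.dim ▸ by decide)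
  obtain ⟨v, hv⟩ : ∃ v, Q v ≠ 0 := by
    by_contra! c
    obtain ⟨v, hv⟩ := exists_ne (0 : V)
    exact hv (h.nd.1 v fun w => by simp [polar, c])
  have e2 : a * a = 1 := mul_right_cancel₀ hv (by
    rw [← Q_smul, one_mul, ← g.map_Q v]; exact congrArg Q (LinearMap.congr_fun e' v).symm)
  rw [O.det_eq_one_iff, e', LinearMap.det_smul, h.dim, LinearMap.det_id, mul_one] at hd
  have e1 : a = 1 := by linear_combination hd - a * (a ^ 4 + a ^ 2 + 1) * e2
  exact O.ext fun v => by simpa [e1] using LinearMap.congr_fun e' v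

/-- A simple subgroup normalised by `H` is the socle. -/
theorem eq_of_nor {M : Subgroup (O Q)} (s : IsSimpleGroup M) (n : ¬ IsMulCommutative M)
    (ne : M ≠ commutator (O Q)) (hn : H ≤ normalizer (M : Set (O Q))) : ρ.range = M := by
  have le : M ≤ commutator (O Q) := perfect_of s n ▸ commutator_mono le_top le_top
  have mb : M ≠ ⊥ := fun e => n (e ▸ inferInstance)
  have mh : M ≤ H := by
    rcases h.max.2 (H ⊔ M) le_sup_left (sup_le h.max.1.le le) with e | e
    · exact e ▸ le_sup_right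
    · exact ((eq_bot_or_eq h.om le (e ▸ sup_le hn le_normalizer)).elim mb ne).elim
  have nb : ρ.range ⊓ M ≠ ⊥ := fun e => mb (eq_bot_iff.2 fun g hg =>
    h.eq_one (h.det_om (le hg)) fun x => commutatorElement_eq_one_iff_commute.1 (by
      rw [← mem_bot, ← e, commutatorElement_def]
      refine ⟨ρ.range.mul_mem ((h.nor (mh hg) _).1 ⟨x, rfl⟩) (ρ.range.inv_mem ⟨x, rfl⟩), ?_⟩
      rw [mul_assoc, mul_assoc, ← mul_assoc (ρ x)]
      exact mul_mem hg ((hn (h.le ⟨x, rfl⟩) _).1 (inv_mem hg))))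
  have a := (eq_bot_or_eq s inf_le_right fun g hg x => ⟨fun c =>
    ⟨(h.nor (mh hg) x).1 c.1, (le_normalizer hg x).1 c.2⟩, fun c =>
    ⟨(h.nor (mh hg) x).2 c.1, (le_normalizer hg x).2 c.2⟩⟩).resolve_left nb
  have b := (eq_bot_or_eq h.simpleP inf_le_left fun g hg x => ⟨fun c =>
    ⟨(le_normalizer hg x).1 c.1, (hn (h.le hg) x).1 c.2⟩, fun c =>
    ⟨(le_normalizer hg x).2 c.1, (hn (h.le hg) x).2 c.2⟩⟩).resolve_left nb
  exact b.symm.trans a

theorem eq_RE {x : Fin 8 → V} {N : F} (hN : N ≠ 0) (hx : Sx Q x N)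
    (hn : H ≤ normalizer (Mg Q (RE (K := F) x) : Set (O Q))) : ρ.range = Mg Q (RE (K := F) x) := by
  obtain ⟨e⟩ := H41.E7.jobE7 F V Q h.two h.nd h.dim N x hN hx
  have := Cfsg.Agent.S0270.result (F := ZMod 2) 3 (by decide) (by decide)
  have c := (Nat.card_congr e.toEquiv).trans card_p6
  have := e.isSimpleGroup
  exact h.eq_of_nor this (nab_of_card (by rw [c]; norm_num)) (fun a => h.big.ne' (a ▸ c)) hn

omit [FiniteDimensional F V] in
theorem exists_aut {g : O Q} (hg : g ∈ H) : ∃ α : Γ ≃* Γ, ∀ x, ρ (α x) = g * ρ x * g⁻¹ := by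
  let e := MonoidHom.ofInjective h.inj
  exact ⟨e.trans ((ρ.range.normalizerMonoidHom ⟨g, h.nor hg⟩).trans e.symm), fun x =>
    MonoidHom.apply_ofInjective_symm h.inj _⟩

omit [FiniteDimensional F V] in
theorem irr (W : Submodule F V) (hW : ∀ x, ∀ v ∈ W, ρ x v ∈ W) : W = ⊥ ∨ W = ⊤ := by
  refine or_iff_not_imp_left.2 fun c => eq_top_iff.2 fun y _ => ?_
  obtain ⟨v, hv, v0⟩ := Submodule.exists_mem_ne_zero_of_ne_bot c
  obtain ⟨φ, hφ⟩ := Module.Projective.exists_dual_eq_one F v0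
  have : ∀ f ∈ Submodule.span F (Set.range fun x => (ρ x).lin), f v ∈ W := fun f hf => by
    induction hf using Submodule.span_induction with
    | mem _ a => obtain ⟨x, rfl⟩ := a; exact hW x v hv
    | zero => exact W.zero_mem
    | add _ _ _ _ a b => exact W.add_mem a b
    | smul c _ _ a => exact W.smul_mem c a
  simpa [hφ] using this (φ.smulRight y) (h.span ▸ Submodule.mem_top)

/-! ### Negative reflections -/

omit h in
variable (ρ) in
/-- The roots. -/
def Ph : Set V := {v | Q v ≠ 0 ∧ O.negOne Q * refl Q v ∈ ρ.range}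

theorem gen_ne {v : V} (hv : Q v ≠ 0) : O.negOne Q * refl Q v ≠ 1 := fun e => by
  have e1 : ∀ x, -refl Q v x = x := DFunLike.congr_fun e
  have : perp Q (F ∙ v) = ⊥ := eq_bot_iff.2 fun x hx => by
    have := e1 x
    rw [refl_apply_of_orth (mem_perp_span_singleton.1 hx), neg_eq_iff_add_eq_zero,
      ← two_smul F x] at this
    exact (smul_eq_zero.1 this).resolve_left h.two
  have a := finrank_perp h.nd (F ∙ v)
  rw [this, finrank_bot, h.dim, finrank_span_singleton (by rintro rfl; simp at hv)] at a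
  omega

theorem range_eq {Ψ : Set V} (le : Ψ ⊆ Ph ρ) (ne : Ψ.Nonempty)
    (n : ρ.range ≤ normalizer (Mg Q Ψ : Set (O Q))) : Mg Q Ψ = ρ.range := by
  obtain ⟨v, hv⟩ := ne
  refine (eq_bot_or_eq h.simpleP ((closure_le _).2 ?_) n).resolve_left fun e =>
    h.gen_ne (le hv).1 (by rw [← mem_bot, ← e]; exact mem_Mg hv)
  rintro _ ⟨v, hv, rfl⟩
  exact (le hv).2

theorem Mg_Ph (ne : (Ph ρ).Nonempty) : Mg Q (Ph ρ) = ρ.range :=
  h.range_eq subset_rfl ne (le_nor_Mg fun g hg v hv => ⟨g v, ⟨by simpa using hv.1, by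
    rw [← conj_gen]; exact mul_mem (mul_mem hg hv.2) (inv_mem hg)⟩, 1, one_ne_zero, by simp⟩)

theorem Mg_eq {Ψ : Set V} (le : Ψ ⊆ Ph ρ) (ne : Ψ.Nonempty) (i : Inv Q (Ph ρ) Ψ) :
    Mg Q Ψ = ρ.range := by
  refine h.range_eq le ne ?_
  rw [← h.Mg_Ph (ne.mono le)]
  refine (closure_le _).2 ?_
  rintro _ ⟨u, hu, rfl⟩
  refine le_nor_Mg (A := zpowers _) ?_ (mem_zpowers _)
  have : ∀ g ∈ zpowers (O.negOne Q * refl Q u), g = 1 ∨ g = O.negOne Q * refl Q u := by
    have e : O.negOne Q * refl Q u * (O.negOne Q * refl Q u) = 1 := by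
      rw [mul_assoc, ← mul_assoc (refl Q u), ← (neg_comm _).eq, mul_assoc, refl_mul_self, mul_one,
        O.negOne_mul_self]
    rintro _ ⟨k, rfl⟩
    rcases Int.even_or_odd' k with ⟨m, rfl | rfl⟩
    · exact .inl (by simp only [zpow_mul, zpow_two, e, one_zpow])
    · exact .inr (by simp only [zpow_add, zpow_mul, zpow_two, e, one_zpow, one_mul, zpow_one])
  intro g hg v hv
  rcases this g hg with rfl | rfl
  · exact ⟨v, hv, 1, one_ne_zero, by simp⟩
  · exact ⟨_, i u hu v hv, -1, by simp, by simp⟩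

theorem mem_of_refl (ne : (Ph ρ).Nonempty) {g : O Q} (hg : g ∈ reflGroup Q (Ph ρ)) :
    (O.det Q g = 1 → g ∈ ρ.range) ∧ (O.det Q g = -1 → O.negOne Q * g ∈ ρ.range) := by
  have := pm_of_refl hg
  rw [h.Mg_Ph ne] at this
  refine ⟨fun d => this.resolve_right fun c => ?_, fun d => this.resolve_left fun c => ?_⟩
  · have := h.det_P c
    rw [map_mul, d, H5.O7.det_negOne h.dim, mul_one] at this
    exact h.neg_ne this
  · exact h.neg_ne (d ▸ h.det_P c)

theorem rs (ne : (Ph ρ).Nonempty) : RS Q (Ph ρ) where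
  two := h.two
  nd := h.nd
  dim := h.dim
  ne := fun _ a => a.1
  full := fun _ a b => ⟨a, (h.mem_of_refl ne b).2 (O.det_refl a)⟩
  nonempty := ne
  irr := fun Ψ le n i U hU => h.irr U fun x => by
    have : ρ x ∈ Mg Q Ψ := h.Mg_eq le n i ▸ ⟨x, rfl⟩
    generalize ρ x = g at this
    have st : ∀ v ∈ Ψ, ∀ w ∈ U, (O.negOne Q * refl Q v) w ∈ U := fun v hv w hw => by
      refine neg_mem (show refl Q v w ∈ U from ?_)
      rcases hU v hv with c | c
      · rw [refl_apply]; exact sub_mem hw (U.smul_mem _ c)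
      · rwa [refl_apply_of_orth (mem_perp'.1 c w hw)]
    induction this using closure_induction'' with
    | mem _ a => obtain ⟨v, hv, rfl⟩ := a; exact st v hv
    | inv_mem _ a =>
      obtain ⟨v, hv, rfl⟩ := a
      rw [mul_inv_rev, refl_inv, inv_eq_of_mul_eq_one_right (O.negOne_mul_self (Q := Q)), ← (neg_comm _).eq]
      exact st v hv
    | one => simp
    | mul x y _ _ a b => exact fun v hv => a _ (b v hv)

theorem not_le (ne : (Ph ρ).Nonempty) : ¬ commutator (O Q) ≤ reflGroup Q (Ph ρ) := fun c =>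
  h.max.1.not_ge fun g hg => h.le ((h.mem_of_refl ne (c hg)).1 (h.det_om hg))

/-- Case A. -/
theorem caseA [Fintype F] (ne : (Ph ρ).Nonempty) :
    Nonempty (Γ ≃* PSp 3 (ZMod 2)) ∧ (Fintype.card F).Prime := by
  have r := h.rs ne
  have qf := H19.O7.jobQF.{u}
  have ext := H1.O7E.jobExt qf (H96.O7Step.jobStep qf) F V Q _ r
  have l3 := H61.O7.jobDK F V Q _ r
  obtain ⟨dg, ln⟩ := H19.O7.jobDeg F V Q _ r
  by_cases c : ∃ k, Lie Q (Ph ρ) k
  · obtain ⟨k, ⟨k5, N, Λ, a, b⟩, d⟩ := H13.O7.jobRat qf F V Q _ r l3 dg (ln l3) c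
    obtain ⟨e1, e2⟩ := ext k N Λ a d (.inl ⟨k5, b⟩)
    exact (h.not_le ne (e2 (h.tr k fun x => tr_Mg e1 (h.Mg_Ph ne ▸ ⟨x, rfl⟩)))).elim
  obtain ⟨Ψ, N, le, i, s⟩ := H15.O7.jobSm H44.O7Col.jobCol H38.SH.jobSH F V Q _ r l3 dg (ln l3)
    (not_exists.1 c)
  have e := h.Mg_eq le s.nonempty i
  obtain ⟨a1, a2, a3⟩ := H73.O7Aff.jobAff F V Q Ψ N s
  obtain ⟨p, hp⟩ := CharP.exists F
  have pp := CharP.char_is_prime F p
  have cp : Fintype.card F = p := prime_of_bot (h.tr ⊥ fun x => tr_Mg a1 (e ▸ ⟨x, rfl⟩))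
  refine ⟨?_, cp ▸ pp⟩
  obtain ⟨b1, b2⟩ := H5.O7.jobSx F V Q h.two h.nd h.dim N s.ne
  by_cases t : Tri Q Ψ N
  · rcases H61.O7S.jobS3 F V Q Ψ N s t with ⟨n, x, n8, hx, rfl⟩ | ⟨x, hx, rfl⟩ | ⟨f, f1, f2, rfl⟩
    · exact (H5.O7.comm_ne h.two s.ne hx (by omega) (e ▸ perfect_of h.simpleP h.nabP)).elim
    · obtain ⟨f⟩ := H41.E7.jobE7 F V Q h.two h.nd h.dim N x s.ne hx
      exact ⟨((MonoidHom.ofInjective h.inj).trans (MulEquiv.subgroupCongr e.symm)).trans f⟩
    · exact (b2 f f1 f2 (e ▸ ⟨h.simpleP, h.nabP⟩)).elim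
  have p3 : p = 3 := (Nat.prime_dvd_prime_iff_eq pp Nat.prime_three).1
    ((CharP.cast_eq_zero_iff F p 3).1 (by simpa using by_contra fun c => t (a2 c)))
  obtain ⟨Λ, f, d⟩ := a3 (by rw [Nat.card_eq_fintype_card, cp, p3]) t
  exact (h.not_le ne ((ext ⊤ N Λ ⟨f.ne, f.val, f.nd, fun x a t b c d => le (f.full x a t b c d)⟩
    (fun _ _ _ _ _ _ _ => ⟨1, one_ne_zero, trivial, fun _ _ => trivial⟩) (.inr d.ge)).2 rfl)).elim

/-! ### No negative reflections -/

theorem rp (e : ¬ (Ph ρ).Nonempty) (p : ℕ) [Finite F] [CharP F p] : Rp p ρ where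
  prime := CharP.char_is_prime F p
  odd := fun c => h.two (by subst c; exact_mod_cast CharP.cast_eq_zero F 2)
  char := ‹_›
  dim := h.dim
  nd := h.nd
  inj := h.inj
  det := fun x => (O.det_eq_one_iff _).1 (h.det_P ⟨x, rfl⟩)
  span := h.span
  simple := h.simple
  nab := h.nab
  w24 := fun x x1 xx => by
    obtain ⟨k, hk⟩ := rk_even h.nd h.two ((O.det_eq_one_iff _).1 (h.det_P ⟨x, rfl⟩))
    have a := (ρ x).rk_add_finrank_fix
    have b : (ρ x).rk ≠ 0 := mt rk_eq_zero.1 (mt (map_eq_one_iff ρ h.inj).1 x1)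
    have t : ρ x * ρ x = 1 := by rw [← map_mul, xx, map_one]
    rw [h.dim] at a
    by_contra c
    obtain ⟨⟨v, hv⟩, v0, f⟩ := finrank_eq_one_iff'.1 (show finrank F (ρ x).fix = 1 by omega)
    have g : ∀ w, ∃ c : F, w + ρ x w = c • v := fun w => by
      obtain ⟨c, hc⟩ := f ⟨w + ρ x w, O.mem_fix.2 (by
        rw [map_add, ← O.mul_apply, t, O.one_apply, add_comm])⟩
      exact ⟨c, (congrArg Subtype.val hc).symm⟩
    have k : ∀ w (c : F), w + ρ x w = c • v → polar Q v w = c * Q v := fun w c hc => by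
      apply mul_left_cancel₀ h.two
      have := congrArg (polar Q v) hc
      rw [polar_add_right, O.polar_apply_right, (O.inv_apply_eq _).2 (O.mem_fix.1 hv).symm,
        polar_smul_right, polar_self', smul_eq_mul] at this
      linear_combination this
    have q : Q v ≠ 0 := fun q => v0 (Subtype.ext (h.nd.1 v fun w => by
      obtain ⟨c, hc⟩ := g w
      simpa [q] using k w c hc))
    refine e ⟨v, q, x, O.ext fun w => ?_⟩
    obtain ⟨c, hc⟩ := g w
    rw [O.mul_apply, O.negOne_apply, refl_apply, k w c hc, mul_comm c, ← mul_assoc,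
      inv_mul_cancel₀ q, one_mul, ← hc]
    abel

theorem not_RE (e : ¬ (Ph ρ).Nonempty) {x : Fin 8 → V} {N : F} (hN : N ≠ 0) (hx : Sx Q x N) :
    ¬ H ≤ normalizer (Mg Q (RE (K := F) x) : Set (O Q)) := fun c =>
  e ⟨x 0 - x 1, (hx 0 1 (by decide)).trans_ne hN,
    h.eq_RE hN hx c ▸ mem_Mg (.inl ⟨0, 1, by decide, rfl⟩)⟩

theorem caseL (e : ¬ (Ph ρ).Nonempty) {x : Fin 8 → V} {N : F} (hN : N ≠ 0) (hx : Sx Q x N)
    (h1 : RE (K := F) x ⊆ EV ρ) (h2 : ∀ v ∈ EV ρ, ∃ r ∈ RE (K := F) x, ∃ c : F, v = c • r) :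
    False := by
  refine h.not_RE e hN hx (le_nor_Mg fun g hg v hv => ?_)
  obtain ⟨α, hα⟩ := h.exists_aut hg
  obtain ⟨v0, A, a1, a2⟩ := h1 hv
  have g0 : g v ≠ 0 := by simpa using v0
  obtain ⟨r, hr, c, hc⟩ := h2 (g v) ⟨g0, A.map α.toMonoidHom,
    (card_map_of_injective α.injective).trans a1, by
      rintro _ ⟨a, ha, rfl⟩
      obtain ⟨c, hc⟩ := a2 a ha
      exact ⟨c, by simp [hα, hc]⟩⟩
  exact ⟨r, hr, c, fun c0 => g0 (by rw [hc, c0, zero_smul]), hc⟩

theorem caseAN [Fintype F] (e : ¬ (Ph ρ).Nonempty) {n : ℕ} (hn : 8 ≤ n)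
    (f : Γ ≃* alternatingGroup (Fin n)) {x : Fin n → V} {N : F} (hx : Sx Q x N)
    (s : SL Q (RA x) N) (sp : Submodule.span F (RA x) = ⊤)
    (a : ∀ g i j, ρ g (x i - x j) = x ((f g).1 i) - x ((f g).1 j)) :
    n = 9 ∧ Fintype.card F = 3 := by
  have act : ∀ g, H5.O7.Act x (ρ g) (f g).1 1 := fun g i j => by simpa using a g i j
  rcases H5.O7.dim_eq h.dim s.ne hx (by omega) sp with rfl | ⟨rfl, c⟩
  · refine (h.not_RE e s.ne hx (le_trans (fun g hg => Mg_mono Set.subset_union_left ?_)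
      le_normalizer)).elim
    obtain ⟨α, hα⟩ := h.exists_aut hg
    obtain ⟨σ, hσ⟩ := (Cfsg.Agent.S2119.result 8 (by decide) (by decide)).2
      (f.symm.trans (α.trans f))
    obtain ⟨ψ, m, b⟩ := H5.O7.exists_psi s.ne hx σ
    have : ψ⁻¹ * g = 1 := h.eq_one (by
      rw [map_mul, map_inv, H5.O7.det_Mg h.dim (fun v hv => (s.norm v hv).trans_ne s.ne) m,
        h.det_H hg]; simp) fun y => by
      have e1 : ρ (α y) = ψ * ρ y * ψ⁻¹ := H5.O7.ext_of_span sp fun i j => by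
        have e2 := congrArg Subtype.val (DFunLike.congr_fun hσ (f y))
        simp only [MulAut.conjNormal_apply, MulEquiv.trans_apply,
          MulEquiv.symm_apply_apply] at e2
        rw [a, ← e2, ((b.mul (act y)).mul b.inv) i j]
        simp
      rw [hα] at e1
      rw [Commute, SemiconjBy, mul_assoc, inv_mul_eq_iff_eq_mul, ← mul_assoc, ← mul_assoc, ← e1]
      group
    exact (inv_mul_eq_one.1 this) ▸ m
  · have : CharP F 3 := (CharP.charP_iff_prime_eq_zero Nat.prime_three).2 (by exact_mod_cast c)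
    exact ⟨rfl, prime_of_bot (h.tr ⊥ fun g => tr_Mg (H73.O7Aff.jobAff F V Q _ N s).1
      (H5.O7.mem_Mg h.two h.dim s.ne hx sp ((O.det_eq_one_iff _).1 (h.det_P ⟨g, rfl⟩)) (act g)))⟩

end St

end H31.O7
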