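import Cfsg.Agent.H31.O7E
import Cfsg.Agent.H46.O7SK

/-! O7: groups which fix the line of a spinor. -/

set_option autoImplicit false

namespace H31.O7

open H56 QuadraticMap Module Cfsg Subgroup
open scoped commutatorElement

universe u

/-- Eigenvectors of the lifts of a perfect group are fixed by suitable lifts. -/
theorem fix_of_eig {Γ L K M : Type*} [Group Γ] [Group L] [Field K] [AddCommGroup M] [Module K M]
    (hp : commutator Γ = ⊤) (R : Subgroup (Γ × L)) (θ : L →* M ≃ₗ[K] M) (m : M)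
    (h : ∀ x, ∃ G, (x, G) ∈ R ∧ ∃ c : K, θ G m = c • m) (x : Γ) :
    ∃ G, (x, G) ∈ R ∧ θ G m = m := by
  have : commutator Γ ≤ (R ⊓ (MulAction.stabilizer _ m).comap (θ.comp (MonoidHom.snd Γ L))).map
      (MonoidHom.fst Γ L) := commutator_le.2 fun a _ b _ => by
    obtain ⟨A, a1, c, a2⟩ := h a⁻¹
    obtain ⟨B, b1, d, b2⟩ := h b⁻¹
    refine ⟨((b⁻¹, B) * (a⁻¹, A))⁻¹ * ((a⁻¹, A) * (b⁻¹, B)),
      ⟨R.mul_mem (R.inv_mem (R.mul_mem b1 a1)) (R.mul_mem a1 b1), ?_⟩, by
        simp [commutatorElement_def, mul_assoc]⟩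
    change θ ((B * A)⁻¹ * (A * B)) m = m
    rw [map_mul, map_inv, LinearEquiv.mul_apply]
    exact (θ (B * A)).symm_apply_eq.2 (by simp [a2, b2, smul_smul, mul_comm])
  obtain ⟨⟨_, G⟩, a, rfl⟩ := this (hp ▸ mem_top x)
  exact ⟨G, a⟩

variable {F : Type u} [Field F] {V : Type u} [AddCommGroup V] [Module F V] {Q : QuadraticForm F V}
  {S : Type u} [AddCommGroup S] [Module F S] {β : QuadraticForm F S} {γ : V →ₗ[F] S →ₗ[F] S}
  {Γ : Type} [Group Γ] {H : Subgroup (O Q)} {ρ : Γ →* O Q} {s t : S}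

variable (γ ρ) in
/-- The lifts. -/
def lifts : Subgroup (Γ × (S ≃ₗ[F] S)) where
  carrier := {z | Lf γ (ρ z.1) z.2}
  one_mem' := by simpa using Lf.one γ
  mul_mem' := fun a b => by simpa using Lf.mul a b
  inv_mem' := fun a => by simpa using Lf.inv a

namespace Spin

variable (σ : Spin Q β γ)
include σ

theorem orth (v : V) (s : S) : polar β s (γ v s) = 0 :=
  mul_left_cancel₀ σ.two (by linear_combination σ.skew v s s - polar_comm β (γ v s) s)

theorem ann (hs : β s ≠ 0) {v : V} (hv : γ v s = 0) : v = 0 := σ.ndV.1 v fun u => by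
  have := congrArg (polar β s) (σ.anti v u s)
  rw [hv, map_zero, add_zero, ← neg_inj, ← σ.skew, hv, polar_smul_right, polar_self'] at this
  simpa [σ.two, hs] using this.symm

/-- The invertible map attached to a nonsingular vector. -/
def gE {v : V} (hv : Q v ≠ 0) : S ≃ₗ[F] S :=
  LinearEquiv.ofLinear (γ v) ((Q v)⁻¹ • γ v) (LinearMap.ext fun s => by simp [σ.sq, hv])
    (LinearMap.ext fun s => by simp [σ.sq, hv])

theorem lf_two {u v : V} (hu : Q u ≠ 0) (hv : Q v ≠ 0) :
    Lf γ (refl Q u * refl Q v) (σ.gE hu * σ.gE hv) := fun x s => by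
  change γ u (γ v _) = γ (refl Q u (refl Q v x)) (γ u (γ v s))
  rw [H46.O7.refl_tw σ hv, map_neg, H46.O7.refl_tw σ hu, neg_neg]

variable [FiniteDimensional F V]

theorem lift {g : O Q} (hg : O.det Q g = 1) : ∃ G, Lf γ g G := by
  have key : ∀ g : O Q, ∃ G : S ≃ₗ[F] S,
      ∀ x s, G (γ x s) = (O.det Q g : F) • γ (g x) (G s) := fun g => by
    induction g using O.refl_induction σ.ndV (not_isExc_of_two_ne σ.two) with
    | h1 => exact ⟨1, by simp⟩
    | hmul u hu g ih =>
      obtain ⟨G, a⟩ := ih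
      refine ⟨σ.gE hu * G, fun x s => ?_⟩
      change γ u (G (γ x s)) = _ • γ (refl Q u (g x)) (γ u (G s))
      rw [a, map_smul, H46.O7.refl_tw σ hu, map_mul, O.det_refl hu]
      simp
  exact (key g).imp fun G a x s => by simpa [hg] using a x s

variable [FiniteDimensional F S]

theorem dec (hs : β s ≠ 0) (t : S) : ∃ (a : F) (v : V), t = a • s + γ v s := by
  have i : Function.Injective ((LinearMap.toSpanSingleton F S s).coprod (γ.flip s)) :=
    (injective_iff_map_eq_zero _).2 fun ⟨a, v⟩ e => by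
      change a • s + γ v s = 0 at e
      have := congrArg (polar β s) e
      rw [polar_add_right, σ.orth, polar_smul_right, polar_self', polar_zero_right] at this
      obtain rfl : a = 0 := by simpa [σ.two, hs] using this
      rw [σ.ann hs (v := v) (by simpa using e)]
      rfl
  obtain ⟨⟨a, v⟩, e⟩ := (LinearMap.injective_iff_surjective_of_finrank_eq_finrank
    (by simp [σ.dim, σ.dimV])).1 i t
  exact ⟨a, v, e.symm⟩

/-- Transitivity on nonsingular lines. -/
theorem conj (hs : β s ≠ 0) (ht : β t ≠ 0) :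
    ∃ a : O Q, ∀ g ∈ Fix γ s, a * g * a⁻¹ ∈ Fix γ t := by
  obtain ⟨y, y0, hy⟩ : ∃ y, Q y ≠ 0 ∧ polar β t (γ y s) = 0 := by
    by_contra! c
    let U := LinearMap.ker (β.polarBilin t ∘ₗ γ.flip s)
    have q : ∀ y ∈ U, Q y = 0 := fun y hy => by_contra fun e => c y e hy
    have a : finrank F U ≤ finrank F (perp Q U) := Submodule.finrank_mono fun x hx w hw => by
      simp [polar, q _ hx, q _ hw, q _ (add_mem hw hx)]
    have b := finrank_perp σ.ndV U
    have d := (β.polarBilin t ∘ₗ γ.flip s).finrank_range_add_finrank_ker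
    have e := (LinearMap.range (β.polarBilin t ∘ₗ γ.flip s)).finrank_le
    rw [σ.dimV] at b d
    rw [finrank_self] at e
    change _ + finrank F U = 7 at d
    omega
  obtain ⟨a, x, e⟩ := σ.dec ht (γ y s)
  rw [e, polar_add_right, σ.orth, polar_smul_right, polar_self'] at hy
  obtain rfl : a = 0 := by simpa [σ.two, ht] using hy
  rw [zero_smul, zero_add] at e
  have x0 : Q x ≠ 0 := fun z => by simpa [σ.norm, z, y0, hs] using congrArg β e
  refine ⟨_, fun g ⟨G, a, b⟩ => mem_Fix_of_eig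
    (((σ.lf_two x0 y0).mul a).mul (σ.lf_two x0 y0).inv) (by rintro rfl; simp at ht) (c := 1) ?_⟩
  have k : (σ.gE x0 * σ.gE y0) ((Q x)⁻¹ • s) = t := by
    change γ x (γ y _) = t
    rw [map_smul, e, map_smul, σ.sq, smul_smul, inv_mul_cancel₀ x0, one_smul]
  rw [one_smul, LinearEquiv.mul_apply, LinearEquiv.mul_apply,
    show (σ.gE x0 * σ.gE y0)⁻¹ t = _ from (LinearEquiv.symm_apply_eq _).2 k.symm, map_smul, b, k]

end Spin

namespace St

variable [FiniteDimensional F V] [FiniteDimensional F S] (h : St H ρ) (σ : Spin Q β γ)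
  (hs : s ≠ 0) (hρ : ∀ x, ρ x ∈ Fix γ s)
include h σ hs hρ

theorem ns : β s ≠ 0 := fun z => by
  rcases h.irr (LinearMap.ker (γ.flip s)) (fun x v hv => by
    obtain ⟨G, a, b⟩ := hρ x
    have := a v s
    rw [show γ v s = 0 from hv, map_zero, b] at this
    exact this.symm) with e | e
  · have q : ∀ y ∈ LinearMap.range (γ.flip s), β y = 0 := by
      rintro _ ⟨v, rfl⟩
      simp [σ.norm, z]
    have a : finrank F (LinearMap.range (γ.flip s)) ≤
        finrank F (perp β (LinearMap.range (γ.flip s))) :=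
      Submodule.finrank_mono fun x hx w hw => by simp [polar, q _ hx, q _ hw, q _ (add_mem hw hx)]
    have b := finrank_perp σ.nd (LinearMap.range (γ.flip s))
    have d := (γ.flip s).finrank_range_add_finrank_ker
    rw [e, finrank_bot, σ.dimV] at d
    rw [σ.dim] at b
    omega
  · have : Nontrivial V := nontrivial_of_finrank_pos (R := F) (h.dim ▸ by decide)
    obtain ⟨v, hv⟩ := exists_ne (0 : V)
    obtain ⟨y, hy⟩ := exists_Q_ne_zero h.nd hv
    have := σ.sq y s
    rw [show γ y s = 0 from (e ▸ Submodule.mem_top : y ∈ LinearMap.ker (γ.flip s)), map_zero] at this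
    exact hs ((smul_eq_zero.1 this.symm).resolve_left hy)

theorem le_Fix {e : V} {v w : Fin 3 → V} (b : Hb Q e v w) : H ≤ Fix γ s := fun g hg => by
  have := h.simple
  obtain ⟨L, hL⟩ := σ.lift (h.det_H hg)
  obtain ⟨α, hα⟩ := h.exists_aut hg
  obtain ⟨a, y, c⟩ := σ.dec (h.ns σ hs hρ) (L s)
  have k := fix_of_eig (H87.commutator_eq_top h.nab)
    (lifts γ ρ ⊓ (MulAction.stabilizer _ s).comap (MonoidHom.snd _ _)) (MonoidHom.id _) (L s)
    fun x => by
      obtain ⟨x, rfl⟩ := α.surjective x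
      obtain ⟨G, a1, a2⟩ := hρ (α x)
      obtain ⟨G', b1, b2⟩ := hρ x
      obtain ⟨d, hd⟩ := H46.O7.uniq σ b (hα x ▸ (hL.mul b1).mul hL.inv) a1
      exact ⟨G, ⟨a1, a2⟩, d, by simp [hd, b2]⟩
  have y0 : y = 0 := by
    rcases h.irr (F ∙ y) (fun x z hz => by
      obtain ⟨G, ⟨a1, a2⟩, a3⟩ := k x
      change G s = s at a2
      change G (L s) = L s at a3
      rw [c, map_add, map_smul, a1, a2, add_right_inj, ← sub_eq_zero, ← LinearMap.sub_apply,
        ← map_sub] at a3
      obtain ⟨d, rfl⟩ := Submodule.mem_span_singleton.1 hz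
      rwa [map_smul, sub_eq_zero.1 (σ.ann (h.ns σ hs hρ) a3)]) with e | e
    · exact Submodule.span_singleton_eq_bot.1 e
    · have := finrank_span_le_card (R := F) {y}
      rw [e, finrank_top, h.dim] at this
      simp at this
  exact mem_Fix_of_eig hL hs (c := a) (by simpa [y0] using c)

end St

end H31.O7
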