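import Cfsg.Agent.H31.O7G
import Cfsg.Agent.H54.G2Oct
import Cfsg.Agent.H55.E7Rep
import Cfsg.Agent.H58.QStd
import Cfsg.Agent.S1055

/-! O7: base change and the octonion model of the spin module. -/

set_option autoImplicit false

namespace H31.O7

open H56 QuadraticMap Module Cfsg Cfsg.Lie Matrix H35.Oct H54.G2O H58

universe u

section bc

variable {F K : Type u} [Field F] [Field K] (φ : F →+* K) {ι κ : Type} [Fintype ι] [DecidableEq ι]
  [Fintype κ] [DecidableEq κ]

/-- Base change of endomorphisms. -/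
noncomputable def bl : End F (ι → F) →+* End K (ι → K) :=
  (toLinAlgEquiv' (R := K) (n := ι)).toRingEquiv.toRingHom.comp
    (φ.mapMatrix.comp (LinearMap.toMatrixAlgEquiv' (R := F) (n := ι)).toRingEquiv.toRingHom)

theorem bl_eq (f : End F (ι → F)) : bl φ f = toLin' ((LinearMap.toMatrix' f).map φ) := rfl

theorem bl_apply (f : End F (ι → F)) (v : ι → F) : bl φ f (φ ∘ v) = φ ∘ f v := funext fun i => by
  rw [bl_eq, toLin'_apply, ← φ.map_mulVec, LinearMap.toMatrix'_mulVec]; rfl

theorem bl_ext {M : Type*} [AddCommGroup M] [Module K M] {f g : (ι → K) →ₗ[K] M}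
    (h : ∀ v : ι → F, f (φ ∘ v) = g (φ ∘ v)) : f = g := (Pi.basisFun K ι).ext fun i => by
  have := h (Pi.single i 1)
  rwa [show φ ∘ Pi.single i 1 = Pi.basisFun K ι i from funext fun j => by
    by_cases e : j = i <;> simp [e]] at this

theorem bl_ext₂ {M : Type*} [AddCommGroup M] [Module K M] {f g : (ι → K) →ₗ[K] (κ → K) →ₗ[K] M}
    (h : ∀ (v : ι → F) (w : κ → F), f (φ ∘ v) (φ ∘ w) = g (φ ∘ v) (φ ∘ w)) (v : ι → K)
    (w : κ → K) : f v w = g v w := by
  rw [bl_ext φ fun v => bl_ext φ (h v)]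

theorem bl_det (f : End F (ι → F)) : LinearMap.det (bl φ f) = φ (LinearMap.det f) := by
  rw [bl_eq, LinearMap.det_toLin', ← LinearMap.det_toMatrix', φ.map_det]; rfl

theorem bl_rk (f : End F (ι → F)) :
    finrank K (LinearMap.range (bl φ f)) = finrank F (LinearMap.range f) := by
  have := H55.E7S.rank_map φ (LinearMap.toMatrix' f)
  rwa [Matrix.rank, Matrix.rank, ← toLin'_apply', ← toLin'_apply', toLin'_toMatrix'] at this

theorem bl_span {T : Set (End F (ι → F))} (h : Submodule.span F T = ⊤) :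
    Submodule.span K (bl φ '' T) = ⊤ := by
  have h1 : ∀ A : Matrix ι ι F, toLin' (A.map φ) ∈ Submodule.span K (bl φ '' T) := fun A => by
    rw [← LinearMap.toMatrix'_toLin' A, ← bl_eq]
    have : toLin' A ∈ Submodule.span F T := h ▸ Submodule.mem_top
    generalize toLin' A = f at this
    induction this using Submodule.span_induction with
    | mem x a => exact Submodule.subset_span ⟨x, a, rfl⟩
    | zero => simp
    | add _ _ _ _ a b => rw [map_add]; exact add_mem a b
    | smul c x _ a =>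
      rw [show bl φ (c • x) = φ c • bl φ x from bl_ext φ fun v => by
        rw [LinearMap.smul_apply, bl_apply, bl_apply]; ext; simp]
      exact Submodule.smul_mem _ _ a
  refine eq_top_iff.2 fun f _ => ?_
  obtain ⟨M, rfl⟩ := toLin'.surjective f
  rw [matrix_eq_sum_single M, map_sum]
  refine sum_mem fun i _ => ?_
  rw [map_sum]
  refine sum_mem fun j _ => ?_
  rw [show single i j (M i j) = M i j • (single i j (1 : F)).map φ by
    rw [Matrix.map_single _ _ _ φ, map_one, smul_single, smul_eq_mul, mul_one], map_smul]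
  exact Submodule.smul_mem _ _ (h1 _)

theorem bl_desc [Algebra F K] (l : K →ₗ[F] F) (f : End F (ι → F)) (s : ι → K) :
    f (l ∘ s) = l ∘ bl (algebraMap F K) f s := funext fun i => by
  rw [← LinearMap.toMatrix'_mulVec, bl_eq, toLin'_apply]
  simp [mulVec, dotProduct, ← Algebra.smul_def]

/-- Base change of automorphisms. -/
noncomputable def be : ((ι → F) ≃ₗ[F] (ι → F)) →* ((ι → K) ≃ₗ[K] (ι → K)) :=
  (LinearMap.GeneralLinearGroup.generalLinearEquiv K _).toMonoidHom.comp
    ((Units.map (bl φ).toMonoidHom).comp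
      (LinearMap.GeneralLinearGroup.generalLinearEquiv F _).symm.toMonoidHom)

theorem be_apply (G : (ι → F) ≃ₗ[F] (ι → F)) (v : ι → K) : be φ G v = bl φ G v := rfl

variable {Q : QuadraticForm F (ι → F)} {Q' : QuadraticForm K (ι → K)}
  (hq : ∀ v, Q' (φ ∘ v) = φ (Q v)) (two : (2 : K) ≠ 0)

/-- Base change of isometries. -/
noncomputable def bo : O Q →* O Q' :=
  ((be φ).comp (OG Q).subtype).codRestrict (OG Q') fun (g : O Q) v => mul_left_cancel₀ two (by
    rw [← H56.polar_self', ← H56.polar_self']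
    have p : ∀ x y, polar Q' (φ ∘ x) (φ ∘ y) = φ (polar Q x y) := fun x y => by
      rw [polar, show φ ∘ x + φ ∘ y = φ ∘ (x + y) by ext; simp, hq, hq, hq, polar, map_sub, map_sub]
    exact bl_ext₂ φ (f := Q'.polarBilin.compl₁₂ (bl φ g.lin) (bl φ g.lin)) (g := Q'.polarBilin)
      (fun x y => by simp [bl_apply, p]) v v)

theorem bo_lin (g : O Q) : (bo φ hq two g).lin = bl φ g.lin := rfl

theorem bo_rk (g : O Q) : (bo φ hq two g).rk = g.rk := by
  rw [O.rk, O.rk, O.mov, O.mov, ← bl_rk φ, map_sub, bo_lin, ← End.one_eq_id, ← End.one_eq_id,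
    map_one]

theorem Rp.bc {Γ : Type} [Group Γ] {ρ : Γ →* O Q} {p : ℕ} (h : Rp p ρ)
    (nd : Q'.polarBilin.Nondegenerate) : Rp p ((bo φ hq two).comp ρ) where
  prime := h.prime
  odd := h.odd
  char := have := h.char; charP_of_injective_ringHom φ.injective p
  dim := by simpa using h.dim
  nd := nd
  inj := (injective_iff_map_eq_one _).2 fun x e => h.eq_one.1 (rk_eq_zero.1 (by
    rw [← bo_rk φ hq two]; exact rk_eq_zero.2 e))
  det := fun x => by rw [MonoidHom.comp_apply, bo_lin, bl_det, h.det, map_one]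
  span := by rw [← bl_span φ h.span, ← Set.range_comp]; rfl
  w24 := fun x a b => by simpa only [MonoidHom.comp_apply, bo_rk] using h.w24 x a b
  simple := h.simple
  nab := h.nab

end bc

section zorn

/-- The index set. -/
abbrev I7 := Unit ⊕ (Fin 3 ⊕ Fin 3)

variable (K : Type u) [Field K]

/-- The imaginary octonions. -/
def im : (I7 → K) →ₗ[K] Fin 8 → K where
  toFun v := ![v (.inl ()), v (.inr (.inl 0)), v (.inr (.inl 1)), v (.inr (.inl 2)),
    v (.inr (.inr 0)), v (.inr (.inr 1)), v (.inr (.inr 2)), -v (.inl ())]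
  map_add' x y := by apply ext8 <;> simp [add_comm]
  map_smul' c x := by apply ext8 <;> simp

/-- The coordinates of an imaginary octonion. -/
def re : (Fin 8 → K) →ₗ[K] I7 → K :=
  LinearMap.funLeft K K (Sum.elim (fun _ => 0) (Sum.elim ![1, 2, 3] ![4, 5, 6]))

/-- The norm. -/
noncomputable def nm : QuadraticForm K (Fin 8 → K) :=
  proj 0 7 - (proj 1 4 + proj 2 5 + proj 3 6)

/-- The Clifford action. -/
def gm : (I7 → K) →ₗ[K] (Fin 8 → K) →ₗ[K] Fin 8 → K := zb K ∘ₗ im K

variable {K}

theorem gm_apply (v : I7 → K) (s : Fin 8 → K) : gm K v s = zornMul (im K v) s := rfl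

theorem q7 (v : I7 → K) : qOdd 3 K v = v (.inl ()) ^ 2 + (v (.inr (.inl 0)) * v (.inr (.inr 0)) +
    v (.inr (.inl 1)) * v (.inr (.inr 1)) + v (.inr (.inl 2)) * v (.inr (.inr 2))) := by
  rw [qOdd_apply, Fin.sum_univ_three]

theorem pol_nm (s t : Fin 8 → K) : polar (nm K) s t = s 0 * t 7 + s 7 * t 0 -
    (s 1 * t 4 + s 2 * t 5 + s 3 * t 6 + s 4 * t 1 + s 5 * t 2 + s 6 * t 3) := by
  simp [polar, nm]; ring

theorem spin (two : (2 : K) ≠ 0) : Spin (qOdd 3 K) (nm K) (gm K) where
  two := two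
  dimV := by simp
  ndV := qOdd_nondeg 3 two
  dim := by simp
  nd := by
    have : ∀ s, (∀ t, polar (nm K) s t = 0) → s = 0 := fun s h => by
      have a := fun i => h (Pi.single i 1)
      simp only [pol_nm] at a
      exact ext8 (by simpa using a 7) (by simpa using a 4) (by simpa using a 5) (by simpa using a 6)
        (by simpa using a 1) (by simpa using a 2) (by simpa using a 3) (by simpa using a 0)
    exact ⟨this, fun s h => this s fun t => (polar_comm _ s t).trans (h t)⟩
  sq := fun v s => by apply ext8 <;> simp [gm_apply, zm, im, q7] <;> ring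
  skew := fun v s t => by simp [gm_apply, zm, im, pol_nm]; ring

theorem hb7 : Hb (qOdd 3 K) (Pi.single (.inl ()) 1) (fun i => Pi.single (.inr (.inl i)) 1)
    fun i => Pi.single (.inr (.inr i)) 1 := by
  refine ⟨by simp [q7], fun i => ?_, fun i => ?_, fun i j => ?_, fun i j => ?_, fun i j => ?_⟩ <;>
    fin_cases i <;> (try fin_cases j) <;> simp [polar, q7]

theorem re_im (v : I7 → K) : re K (im K v) = v := funext fun i => by
  rcases i with _ | i | i
  · rfl
  · fin_cases i <;> rfl
  · fin_cases i <;> rfl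

theorem im_re {x : Fin 8 → K} (h : x 0 + x 7 = 0) : im K (re K x) = x :=
  ext8 rfl rfl rfl rfl rfl rfl rfl (neg_eq_of_add_eq_zero_right h)

theorem im_sq (v : I7 → K) : zornMul (im K v) (im K v) = qOdd 3 K v • one8 := by
  apply ext8 <;> simp [zm, im, q7, one8] <;> ring

theorem dec8 (two : (2 : K) ≠ 0) (x : Fin 8 → K) : ∃ (a : K) (v : I7 → K), x = a • one8 + im K v :=
  ⟨(x 0 + x 7) / 2, re K (x - ((x 0 + x 7) / 2) • one8), by
    rw [im_re (by simp [one8]; field_simp; ring), add_sub_cancel]⟩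

theorem im_smul (two : (2 : K) ≠ 0) (g : G2 K) (v : I7 → K) :
    im K (re K (g • im K v)) = g • im K v := by
  obtain ⟨a, w, e⟩ := dec8 two (g • im K v)
  refine im_re (by_contra fun c => ?_)
  have a0 : 2 * a ≠ 0 := fun z => c (by rw [e, ← z]; simp [one8, im]; ring)
  have := smul_mul g (im K v) (im K v)
  rw [im_sq, smul_smul', smul_one8, e, zm_add_left, zm_add_right, zm_add_right, im_sq] at this
  simp only [zm_smul_left, zm_smul_right, one_mul8, mul_one8] at this
  have w0 : im K w = (2 * a)⁻¹ • (qOdd 3 K v - a * a - qOdd 3 K w) • one8 := by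
    rw [eq_inv_smul_iff₀ a0, sub_smul, sub_smul, this]; module
  have k : ∀ (b : K) (u : I7 → K), im K u = b • one8 → b = 0 := fun b u z =>
    mul_left_cancel₀ two (by
      have z0 := congrFun z 0
      have z7 := congrFun z 7
      simp [im, one8] at z0 z7
      linear_combination -z0 - z7)
  rw [smul_smul] at w0
  rw [w0, k _ _ w0, zero_smul, add_zero, smul_eq_iff_eq_inv_smul, smul_smul', smul_one8] at e
  exact a0 (by rw [k _ _ e, mul_zero])

/-- `G₂` in `O₇`. -/
noncomputable def psi (two : (2 : K) ≠ 0) : G2 K →* O (qOdd 3 K) :=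
  MonoidHom.mk' (fun g => O.ofInv (re K ∘ₗ toLin' g.1.1 ∘ₗ im K) (re K ∘ₗ toLin' g⁻¹.1.1 ∘ₗ im K)
    (fun v => by
      have := im_sq (re K (g • im K v))
      rw [im_smul two, ← H35.Oct.smul_mul, im_sq, smul_smul', smul_one8] at this
      change qOdd 3 K (re K (g • im K v)) = _
      simpa [one8] using (congrFun this 0).symm)
    (fun v => by
      change re K (g • im K (re K (g⁻¹ • im K v))) = v
      rw [im_smul two, smul_inv_smul, re_im])
    fun v => by
      change re K (g⁻¹ • im K (re K (g • im K v))) = v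
      rw [im_smul two, inv_smul_smul, re_im])
    fun g h => O.ext fun v => by
      change re K ((g * h) • im K v) = re K (g • im K (re K (h • im K v)))
      rw [im_smul two, mul_smul]

theorem psi_inj (two : (2 : K) ≠ 0) : Function.Injective (psi two) :=
  (injective_iff_map_eq_one _).2 fun g e => ext' fun x => by
    obtain ⟨a, v, rfl⟩ := dec8 two x
    rw [one_smul, smul_add', smul_smul', smul_one8, ← im_smul two,
      show re K (g • im K v) = v from DFunLike.congr_fun e v]

theorem Fix_le (two : (2 : K) ≠ 0) : Fix (gm K) one8 ≤ (psi two).range := fun g ⟨G, a, b⟩ => by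
  have c : ∀ v, G (im K v) = im K (g v) := fun v => by
    simpa only [gm_apply, b, mul_one8] using a v one8
  refine ⟨mk G G.symm G.apply_symm_apply fun x y => ?_, O.ext fun v => ?_⟩
  · obtain ⟨a', v, rfl⟩ := dec8 two x
    simp only [LinearEquiv.coe_coe, zm_add_left, zm_smul_left, one_mul8, map_add, map_smul, b, c]
    exact congrArg _ (a v y)
  · exact (congrArg (re K) ((mk_smul ..).trans (c v))).trans (re_im _)

end zorn

variable {F : Type u} [Field F] {Γ : Type} [Group Γ] {H : Subgroup (O (qOdd 3 F))}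
  {ρ : Γ →* O (qOdd 3 F)}

theorem q7_bc {K : Type u} [Field K] (φ : F →+* K) (v : I7 → F) :
    qOdd 3 K (φ ∘ v) = φ (qOdd 3 F v) := by simp [q7]

theorem Lf.bc {K : Type u} [Field K] (φ : F →+* K) (two : (2 : K) ≠ 0) {g : O (qOdd 3 F)}
    {L : (Fin 8 → F) ≃ₗ[F] Fin 8 → F} (h : Lf (gm F) g L) :
    Lf (gm K) (bo φ (q7_bc φ) two g) (be φ L) := fun v t => by
  have e : ∀ v t, gm K (φ ∘ v) (φ ∘ t) = φ ∘ gm F v t := fun v t => by
    apply ext8 <;> simp [gm_apply, zm, im]
  rw [be_apply, be_apply, ← O.lin_apply, bo_lin]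
  exact bl_ext₂ φ (f := (gm K).compr₂ (bl φ L)) (g := (gm K).compl₁₂ (bl φ g.lin) (bl φ L))
    (fun v t => by
      simp only [LinearMap.compr₂_apply, LinearMap.compl₁₂_apply, e, bl_apply]
      exact congrArg _ (h v t)) v t

theorem St.desc (h : St H ρ) {K : Type u} [Field K] [Algebra F K] (two : (2 : K) ≠ 0)
    (f : FixS (gm K) ((bo (algebraMap F K) (q7_bc _) two).comp ρ)) : FixS (gm F) ρ := by
  obtain ⟨s, s0, hs⟩ := f
  have := h.simple
  have k := fix_of_eig (H87.commutator_eq_top h.nab) (lifts (gm F) ρ) (be (algebraMap F K)) s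
    fun x => by
      obtain ⟨L, hL⟩ := (spin h.two).lift (h.det_P ⟨x, rfl⟩)
      obtain ⟨G, a, b⟩ := hs x
      obtain ⟨c, hc⟩ := H46.O7.uniq (spin two) hb7 a (hL.bc _ two)
      exact ⟨L, hL, c, (hc s).trans (by rw [b])⟩
  obtain ⟨i, hi⟩ := Function.ne_iff.1 s0
  obtain ⟨l, hl⟩ := Module.Projective.exists_dual_eq_one F hi
  refine ⟨l ∘ s, fun z => one_ne_zero (hl.symm.trans (congrFun z i)), fun x => ?_⟩
  obtain ⟨G, a, b⟩ := k x
  rw [be_apply] at b
  exact ⟨G, a, (bl_desc l G.1 s).trans (by rw [b])⟩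

theorem St.caseG [Fintype F] (h : St H ρ) (f : FixS (gm F) ρ)
    (c : Nat.card (G2 F) ≠ Nat.card (commutator (O (qOdd 3 F)))) : Nonempty (Γ ≃* G2 F) := by
  obtain ⟨s, s0, hs⟩ := f
  obtain ⟨a, ha⟩ := (spin h.two).conj (h.ns (spin h.two) s0 hs) (t := one8) (by simp [nm, one8])
  obtain ⟨s1, s2⟩ := Cfsg.Agent.S1055.result (F := F) ⟨-1, by simp, fun e => h.two (by
    linear_combination -e)⟩
  obtain ⟨e⟩ := nonempty_equiv F
  let ψ := (MulAut.conj a⁻¹).toMonoidHom.comp (psi h.two)
  let e' := MonoidHom.ofInjective (f := ψ) ((MulAut.conj a⁻¹).injective.comp (psi_inj h.two))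
  have := h.eq_of_nor (M := ψ.range) (e.trans e').symm.isSimpleGroup
    (fun c => s2 ⟨⟨fun x y => (e.trans e').injective (by rw [map_mul, map_mul, c.1.1])⟩⟩)
    (fun z => c (z ▸ Nat.card_congr e'.toEquiv)) (le_trans (fun g hg => by
      obtain ⟨x, hx⟩ := Fix_le h.two (ha g (h.le_Fix (spin h.two) s0 hs hb7 hg))
      exact ⟨x, by simp [ψ, hx, mul_assoc]⟩) Subgroup.le_normalizer)
  exact ⟨((MonoidHom.ofInjective h.inj).trans (MulEquiv.subgroupCongr this)).trans e'.symm⟩

end H31.O7
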