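/- Spec of the PN tower (S3399): fixed points of a pronormal subgroup. Blueprint: blueprints/PN.md. -/
import Cfsg.Agent.H2.LnSpec

set_option autoImplicit false
set_option linter.unusedSectionVars false

namespace H31.PN
open Equiv MulAction H2.Ln Finset

section
variable {α : Type} [Fintype α] [DecidableEq α]

/-- `g K g⁻¹`. -/
def cj (K : Subgroup (Perm α)) (g : Perm α) : Subgroup (Perm α) := K.map (MulAut.conj g).toMonoidHom

def Pron (H K : Subgroup (Perm α)) : Prop := K ≤ H ∧ ∀ g ∈ H, ∃ w ∈ K ⊔ cj K g, cj K w = cj K g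

variable {H K : Subgroup (Perm α)} {g : Perm α}

theorem mem_cj {x : Perm α} : x ∈ cj K g ↔ g⁻¹ * x * g ∈ K := by
  refine ⟨?_, fun h => ⟨_, h, by simp [mul_assoc]⟩⟩
  rintro ⟨y, hy, rfl⟩
  simpa [mul_assoc] using hy

theorem mem_sp_cj {a : α} : a ∈ sp (cj K g) ↔ g⁻¹ a ∈ sp K := by
  simp only [mem_sp, mem_cj]
  refine ⟨fun ⟨x, h1, h2⟩ => ⟨_, h1, fun e => h2 (by simpa using e)⟩, fun ⟨x, h1, h2⟩ =>
    ⟨g * x * g⁻¹, by simpa [mul_assoc] using h1, fun e => h2 ?_⟩⟩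
  have := congrArg (fun b => g⁻¹ b) e
  simpa using this

theorem fix_of {a : α} (h : a ∉ sp K) {k : Perm α} (hk : k ∈ K) : k a = a :=
  by_contra fun e => h (mem_sp.2 ⟨k, hk, e⟩)

theorem sp_apply {a : α} {k : Perm α} (hk : k ∈ K) : k a ∈ sp K ↔ a ∈ sp K := by
  refine not_iff_not.1 ⟨fun h e => ?_, fun h => by rwa [fix_of h hk]⟩
  have : a = k a := by simpa using fix_of h (K.inv_mem hk)
  exact h (this ▸ e)

theorem Pron.mono (h : Pron H K) {L : Subgroup (Perm α)} (h1 : K ≤ L) (h2 : L ≤ H) : Pron L K :=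
  ⟨h1, fun g hg => h.2 g (h2 hg)⟩

open Pointwise in
/-- `w` carries the fixed set `F` of `K` to `g F` and keeps every set invariant under `K` and `g K g⁻¹`. -/
theorem Pron.pp (h : Pron H K) (hg : g ∈ H) : ∃ w ∈ H, (∀ b, w⁻¹ b ∈ sp K ↔ g⁻¹ b ∈ sp K) ∧
    ∀ U : Set α, (∀ k ∈ K, ∀ a ∈ U, k a ∈ U) → (∀ k ∈ K, ∀ a ∈ U, (g * k * g⁻¹) a ∈ U) →
      ∀ a ∈ U, w a ∈ U := by
  obtain ⟨w, hw, e⟩ := h.2 g hg
  refine ⟨w, (sup_le h.1 fun x hx => ?_ : K ⊔ cj K g ≤ H) hw, fun b => by rw [← mem_sp_cj, e, mem_sp_cj],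
    fun U h1 h2 => ?_⟩
  · have := H.mul_mem (H.mul_mem hg (h.1 (mem_cj.1 hx))) (H.inv_mem hg)
    simpa [mul_assoc] using this
  · have key : ∀ x : Perm α, (∀ a ∈ U, x a ∈ U) → x ∈ stabilizer (Perm α) U := fun x hx =>
      mem_stabilizer_set_iff_smul_set_subset (Set.toFinite U) |>.2 (by
        rintro _ ⟨a, ha, rfl⟩; exact hx a ha)
    have : w ∈ stabilizer (Perm α) U := (sup_le (fun x hx => key x (h1 x hx)) fun x hx => key x (by
      have := h2 _ (mem_cj.1 hx)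
      simpa [mul_assoc] using this) : K ⊔ cj K g ≤ _) hw
    exact fun a ha => (mem_stabilizer_set.1 this a).2 ha

/-- On the points of `F` that `g` keeps in `F`, `g` agrees with an element preserving `F`. -/
theorem Pron.witt (h : Pron H K) (hg : g ∈ H) : ∃ y ∈ H, (∀ b, y b ∈ sp K ↔ b ∈ sp K) ∧
    ∀ a, a ∉ sp K → g a ∉ sp K → y a = g a := by
  obtain ⟨w, hw, h1, h2⟩ := h.pp hg
  refine ⟨w⁻¹ * g, H.mul_mem (H.inv_mem hw) hg, fun b => by simpa using h1 (g b), fun a ha hb => ?_⟩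
  have : w (g a) = g a := h2 {g a} (by rintro k hk _ rfl; exact fix_of hb hk)
    (by rintro k hk _ rfl; simp [fix_of ha hk]) _ rfl
  rw [Perm.mul_apply, Perm.inv_eq_iff_eq, this]

/-- A `K`-invariant set that `g` maps into `F` lies in `F`. -/
theorem Pron.norb (h : Pron H K) (hg : g ∈ H) (U : Set α) (h1 : ∀ k ∈ K, ∀ a ∈ U, k a ∈ U)
    (h2 : ∀ a ∈ U, g a ∉ sp K) : ∀ a ∈ U, a ∉ sp K := by
  obtain ⟨w, -, h3, h4⟩ := h.pp (H.inv_mem hg)
  intro a ha e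
  have := h4 U h1 (fun k hk b hb => by simpa [fix_of (h2 b hb) hk] using hb) a ha
  exact h2 _ this (by simpa using (h3 (w a)).1 (by simpa using e))

def IsOrb (H : Subgroup (Perm α)) (O : Finset α) : Prop :=
  (∀ h ∈ H, ∀ a ∈ O, h a ∈ O) ∧ ∀ a ∈ O, ∀ b ∈ O, ∃ h ∈ H, h a = b

theorem isOrb_orb (H : Subgroup (Perm α)) (a : α) : IsOrb H (orb H a) := by
  refine ⟨fun h hh b hb => ?_, fun b hb c hc => ?_⟩
  · obtain ⟨x, hx, rfl⟩ := mem_orb.1 hb
    exact mem_orb.2 ⟨h * x, H.mul_mem hh hx, rfl⟩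
  · obtain ⟨x, hx, rfl⟩ := mem_orb.1 hb
    obtain ⟨y, hy, rfl⟩ := mem_orb.1 hc
    exact ⟨y * x⁻¹, H.mul_mem hy (H.inv_mem hx), by simp⟩

open Classical in
/-- The points of `O` whose orbit under the stabiliser of `a` is fixed by `K`. -/
noncomputable def cl (H K : Subgroup (Perm α)) (O : Finset α) (a : α) : Finset α :=
  O.filter fun b => ∀ y ∈ H, y a = a → y b ∉ sp K

theorem mem_cl {O : Finset α} {a b : α} :
    b ∈ cl H K O a ↔ b ∈ O ∧ ∀ y ∈ H, y a = a → y b ∉ sp K := by simp only [cl, mem_filter]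

def T2 (H : Subgroup (Perm α)) (O : Finset α) : Prop :=
  ∀ a ∈ O, ∀ b ∈ O, ∀ c ∈ O, ∀ d ∈ O, a ≠ b → c ≠ d → ∃ h ∈ H, h a = c ∧ h b = d

def T3 (G : Subgroup (Perm α)) : Prop := ∀ a b c a' b' c' : α, [a, b, c].Nodup → [a', b', c'].Nodup →
  ∃ g ∈ G, g a = a' ∧ g b = b' ∧ g c = c'

/-- The orbital of `(c, w)` under the stabiliser of `a, b`. -/
def R (G : Subgroup (Perm α)) (a b c w s t : α) : Prop :=
  ∃ y ∈ G, y a = a ∧ y b = b ∧ y c = s ∧ y w = t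

def Clq (G : Subgroup (Perm α)) (a b c w : α) : Prop :=
  (∀ s t, R G a b c w s t → R G a b c w t s) ∧
  ∀ s t t', R G a b c w s t → R G a b c w s t' → t ≠ t' → R G a b c w t t'

def Deg (G : Subgroup (Perm α)) (f : ℕ) : Prop := ∀ x ∈ G, x ≠ 1 → f ≤ x.support.card + 1

/-- `|S ∩ g S|` for the support `S` of `K`. -/
noncomputable def X (K : Subgroup (Perm α)) (g : Perm α) : ℕ :=
  ((sp K).filter fun d => g⁻¹ d ∈ sp K).card

/-- The number of points of `S \ g S` that `u` maps into `g S`. -/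
noncomputable def a1 (K : Subgroup (Perm α)) (g u : Perm α) : ℕ :=
  ((sp K).filter fun d => g⁻¹ d ∉ sp K ∧ g⁻¹ (u d) ∈ sp K).card

def Ineq (K : Subgroup (Perm α)) (g : Perm α) : Prop :=
  ((el K).erase 1).card * ((sp K).card - 1) ≤ ((el K).erase 1).card * X K g +
    ∑ u ∈ (el K).erase 1, a1 K g u + ∑ u ∈ (el K).erase 1, a1 K g⁻¹ u

theorem X_inv (K : Subgroup (Perm α)) (g : Perm α) : X K g⁻¹ = X K g :=
  card_bij' (fun d _ => g d) (fun d _ => g⁻¹ d) (fun d hd => by simpa [and_comm] using hd)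
    (fun d hd => by simpa [and_comm] using hd) (by simp) (by simp)

theorem Ineq.inv (h : Ineq K g⁻¹) : Ineq K g := by
  unfold Ineq at h ⊢
  rw [X_inv, inv_inv] at h
  omega

/-- The commutator bound. -/
def CB (K : Subgroup (Perm α)) (g : Perm α) : Prop := ∀ u ∈ K, ∀ v ∈ K, ¬ Commute u (g * v * g⁻¹) →
  (sp K).card ≤ X K g + a1 K g u + a1 K g⁻¹ v + 1
end

def Thm (n : ℕ) : Prop := ∀ (α : Type) [Fintype α] [DecidableEq α], Fintype.card α = n →
  ∀ G K : Subgroup (Perm α), (∀ a b, ∃ g ∈ G, g a = b) → Pron G K → K ≠ ⊥ →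
    2 * (sp K)ᶜ.card + 1 ≤ n

/-- What the induction hypothesis gives on `α`. -/
structure Ind (α : Type) [Fintype α] [DecidableEq α] : Prop where
  ob : ∀ (H K : Subgroup (Perm α)) (O : Finset α), Pron H K → IsOrb H O → O.card < Fintype.card α →
    (∃ a ∈ O, a ∈ sp K) → 2 * (O \ sp K).card + 1 ≤ O.card
  blk : ∀ (H K : Subgroup (Perm α)) (O : Finset α) (a : α), Pron H K → IsOrb H O → a ∈ O → a ∉ sp K →
    (∃ b ∈ O, b ∈ sp K) → 2 ≤ (cl H K O a).card → 2 * (O \ sp K).card + (cl H K O a).card ≤ O.card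

/-- An invariant set all of whose orbits are moved by `K`. -/
theorem Ind.dge {α : Type} [Fintype α] [DecidableEq α] (I : Ind α) {H K : Subgroup (Perm α)} (h : Pron H K)
    (U : Finset α) (h1 : ∀ y ∈ H, ∀ a ∈ U, y a ∈ U) (h2 : U.card < Fintype.card α)
    (h3 : ∀ b ∈ U, ∃ y ∈ H, y b ∈ sp K) :
    2 * (U \ sp K).card ≤ U.card ∧ (U.Nonempty → 2 * (U \ sp K).card + 1 ≤ U.card) := by
  induction U using Finset.strongInduction with | H U ih =>
  rcases U.eq_empty_or_nonempty with rfl | ⟨b, hb⟩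
  · simp
  have s : orb H b ⊆ U := fun c hc => by obtain ⟨y, hy, rfl⟩ := mem_orb.1 hc; exact h1 y hy b hb
  have bb : b ∈ orb H b := mem_orb.2 ⟨1, H.one_mem, rfl⟩
  have k1 := I.ob H K _ h (isOrb_orb H b) ((card_le_card s).trans_lt h2) (by
    obtain ⟨y, hy, e⟩ := h3 b hb; exact ⟨_, mem_orb.2 ⟨y, hy, rfl⟩, e⟩)
  have k2 := (ih (U \ orb H b) (sdiff_ssubset s ⟨b, bb⟩) (fun y hy a ha => mem_sdiff.2
    ⟨h1 y hy a (mem_sdiff.1 ha).1, fun e => (mem_sdiff.1 ha).2 (by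
      simpa using (isOrb_orb H b).1 _ (H.inv_mem hy) _ e)⟩) ((card_le_card sdiff_subset).trans_lt h2)
    fun a ha => h3 a (mem_sdiff.1 ha).1).1
  have k3 := card_sdiff_add_card_eq_card s
  have k4 : (U \ sp K).card ≤ ((U \ orb H b) \ sp K).card + (orb H b \ sp K).card :=
    (card_le_card fun a ha => by
      simp only [mem_union, mem_sdiff] at ha ⊢; tauto).trans (card_union_le _ _)
  exact ⟨by omega, fun _ => by omega⟩

/-- A statement about all pairs of subgroups of all finite symmetric groups. -/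
def All2 (P : ∀ (α : Type) [Fintype α] [DecidableEq α], Subgroup (Perm α) → Subgroup (Perm α) → Prop) : Prop :=
  ∀ (α : Type) [Fintype α] [DecidableEq α] (G K : Subgroup (Perm α)), P α G K

def JobA : Prop := ∀ (α : Type) [Fintype α] [DecidableEq α], (∀ m < Fintype.card α, Thm m) → Ind α

def JobD : Prop := All2 fun α _ _ H K => Ind α → ∀ O : Finset α, Pron H K → IsOrb H O →
  (∃ a ∈ O, a ∈ sp K) → O.card = 2 * (O \ sp K).card + 1 → T2 H O

def JobB : Prop := All2 fun α _ _ G K => T3 G → Pron G K → Fintype.card α = 2 * (sp K).card →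
  ∀ a b c d : α, [a, b, c, d].Nodup → a ∉ sp K → b ∉ sp K → c ∉ sp K →
  (∀ e, (∀ y ∈ G, y a = a → y b = b → y c = c → y e ∉ sp K) ↔ e = a ∨ e = b ∨ e = c ∨ e = d) → False

def JobN1 : Prop := All2 fun α _ _ G K => T3 G → Pron G K → Fintype.card α = 2 * (sp K).card →
  ∀ (a b c : α) (Γ : Finset α), [a, b, c].Nodup → a ∉ sp K → b ∉ sp K → c ∉ sp K →
  IsOrb (fx G {a, b, c}) Γ → T2 (fx G {a, b, c}) Γ → a ∉ Γ → b ∉ Γ → c ∉ Γ → 3 ≤ Γ.card →
  Γ.card = 2 * (Γ \ sp K).card + 1 →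
  ∃ w, [a, b, c, w].Nodup ∧ Clq G a b c w ∧ ∀ s ∈ Γ, ∀ t ∈ Γ, s ≠ t → R G a b c w s t

def JobN2 : Prop := All2 fun α _ _ G K => T3 G → Pron G K → Fintype.card α = 2 * (sp K).card →
  ∀ a b c w : α, [a, b, c, w].Nodup → a ∉ sp K → b ∉ sp K → c ∉ sp K → Clq G a b c w →
  2 ≤ (orb (fx G {a, b, c}) w).card →
  (orb (fx G {a, b, c}) w).card = 2 * (orb (fx G {a, b, c}) w \ sp K).card + 1 → False

def JobN3 : Prop := All2 fun α _ _ G _ => T3 G → ∀ (a b c w q : α), [a, b, c, w].Nodup →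
  [a, b, c, q].Nodup → Clq G a b c w →
  (∀ s ∈ orb (fx G {a, b, c}) q, ∀ t ∈ orb (fx G {a, b, c}) q, s ≠ t → R G a b c w s t) →
  (∀ e, e = a ∨ e = b ∨ e = c ∨ e ∈ orb (fx G {a, b, c}) q ∨ e ∈ orb (fx G {a, b, c}) w) →
  (orb (fx G {a, b, c}) q).card ≠ (orb (fx G {a, b, c}) w).card → False

def Job4a : Prop := All2 fun α _ _ G _ => IsMultiplyPretransitive G α 4 → ¬ alternatingGroup α ≤ G →
  ∀ f, 4 ≤ f → Fintype.card α = 2 * f → Deg G f ∧ ∀ x ∈ G, x ≠ 1 → 6 ≤ x.support.card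

def JobC : Prop := All2 fun _ _ _ G K => K ≤ G → Deg G (sp K).card → ∀ g ∈ G, CB K g

def JobE : Prop := All2 fun α _ _ G K => Pron G K → Fintype.card α = 2 * (sp K).card →
  Deg G (sp K).card → (∀ a ∈ sp K, 5 ≤ (orb K a).card) → ∀ g ∈ G, CB K g →
  ∀ u ∈ K, u ≠ 1 → (∀ v ∈ K, Commute u (g * v * g⁻¹)) → Ineq K g

def JobG : Prop := All2 fun _ _ _ _ K => ∀ g, CB K g →
  (∀ u ∈ K, u ≠ 1 → ∃ v ∈ K, ¬ Commute u (g * v * g⁻¹)) →
  (∀ v ∈ K, v ≠ 1 → ∃ u ∈ K, ¬ Commute u (g * v * g⁻¹)) → Ineq K g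

def Job4c : Prop := All2 fun α _ _ G K => IsMultiplyPretransitive G α 4 →
  Fintype.card α = 2 * (sp K).card → 6 ≤ (sp K).card → (∀ g ∈ G, Ineq K g) → False

end H31.PN
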