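/- Slot CO of the tower SP4: coordinates on a Sylow `p`-subgroup of `Sp₄(q)`. -/
import Cfsg.Agent.H87.S4Spec
import Cfsg.Agent.H54.SpCard

set_option autoImplicit false

namespace H31.S4CO
open Matrix H87.S4

universe v

variable {K : Type v} [Field K]

/-- The matrix. -/
def mm (c y w a : K) : Matrix (Fin 2 ⊕ Fin 2) (Fin 2 ⊕ Fin 2) K :=
  fromBlocks !![1, a; 0, 1] !![w - a * y, y; y - a * c, c] 0 !![1, 0; -a, 1]

theorem mm_mem (c y w a : K) : mm c y w a ∈ Matrix.symplecticGroup (Fin 2) K := by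
  unfold mm
  rw [SymplecticGroup.fromBlocks_mem_iff]
  refine ⟨by simp, ?_, ?_⟩
  · ext i j
    fin_cases i <;> fin_cases j <;> simp [Matrix.mul_apply, Fin.sum_univ_two] <;> ring
  · ext i j
    fin_cases i <;> fin_cases j <;> simp [Matrix.mul_apply, Fin.sum_univ_two]

/-- The element of the symplectic group. -/
def m0 (c y w a : K) : Matrix.symplecticGroup (Fin 2) K := ⟨mm c y w a, mm_mem c y w a⟩

theorem m0_mul (c y w a c' y' w' a' : K) : m0 c y w a * m0 c' y' w' a' =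
    m0 (c + c') (y + y' + a * c') (w + w' + 2 * a * y' + a ^ 2 * c') (a + a') := by
  apply Subtype.ext
  change mm c y w a * mm c' y' w' a' = mm _ _ _ _
  unfold mm
  rw [fromBlocks_multiply, fromBlocks_inj]
  refine ⟨?_, ?_, by simp, ?_⟩ <;> ext i j <;> fin_cases i <;> fin_cases j <;>
    simp [Matrix.mul_apply, Fin.sum_univ_two] <;> ring

theorem m0_inj {c y w a c' y' w' a' : K} (h : m0 c y w a = m0 c' y' w' a') :
    c = c' ∧ y = y' ∧ w = w' ∧ a = a' := by
  have h1 : mm c y w a = mm c' y' w' a' := congrArg Subtype.val h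
  unfold mm at h1
  rw [fromBlocks_inj] at h1
  obtain ⟨hA, hB, -, -⟩ := h1
  have ha : a = a' := by simpa using congrFun (congrFun hA 0) 1
  have hc : c = c' := by simpa using congrFun (congrFun hB 1) 1
  have hy : y = y' := by simpa using congrFun (congrFun hB 0) 1
  have hw : w - a * y = w' - a' * y' := by simpa using congrFun (congrFun hB 0) 0
  subst ha hc hy
  exact ⟨rfl, rfl, by linear_combination hw, rfl⟩

theorem m0_zero : (m0 0 0 0 0 : Matrix.symplecticGroup (Fin 2) K) = 1 := by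
  have h := m0_mul (0 : K) 0 0 0 0 0 0 0
  simp only [add_zero, mul_zero] at h
  exact mul_left_cancel (h.trans (mul_one _).symm)

/-- The subgroup. -/
def U0 (K : Type v) [Field K] : Subgroup (Matrix.symplecticGroup (Fin 2) K) where
  carrier := {g | ∃ c y w a, g = m0 c y w a}
  one_mem' := ⟨0, 0, 0, 0, m0_zero.symm⟩
  mul_mem' := by
    rintro _ _ ⟨c, y, w, a, rfl⟩ ⟨c', y', w', a', rfl⟩
    exact ⟨_, _, _, _, m0_mul ..⟩
  inv_mem' := by
    rintro _ ⟨c, y, w, a, rfl⟩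
    refine ⟨-c, -y + a * c, -w + 2 * a * y - a ^ 2 * c, -a, ?_⟩
    rw [inv_eq_iff_mul_eq_one, m0_mul, ← m0_zero]
    congr 1 <;> ring

theorem card_U0 [Finite K] : Nat.card (U0 K) = Nat.card K ^ 4 := by
  have e : (K × K × K × K) ≃ U0 K := Equiv.ofBijective
    (fun x => ⟨m0 x.1 x.2.1 x.2.2.1 x.2.2.2, _, _, _, _, rfl⟩) ⟨by
      rintro ⟨c, y, w, a⟩ ⟨c', y', w', a'⟩ h
      obtain ⟨h1, h2, h3, h4⟩ := m0_inj (congrArg Subtype.val h)
      simp only at h1 h2 h3 h4
      rw [h1, h2, h3, h4], by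
      rintro ⟨_, c, y, w, a, rfl⟩
      exact ⟨(c, y, w, a), rfl⟩⟩
  rw [← Nat.card_congr e]
  simp only [Nat.card_prod]
  ring

theorem jobCO : H87.S4.JobCO.{v} := by
  intro p hp K _ _ _ T
  obtain ⟨n, -, hn⟩ := FiniteField.card K p
  have hq : Nat.card K = p ^ (n : ℕ) := by rw [Nat.card_eq_fintype_card, hn]
  have hpq : p ∣ Nat.card K := by rw [hq]; exact dvd_pow_self p n.ne_zero
  have hP : IsPGroup p (U0 K) := IsPGroup.of_card (n := n * 4) (by rw [card_U0, hq, pow_mul])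
  have hpos : 0 < Nat.card K := Nat.card_pos
  have hnd : ∀ k, k ≠ 0 → ¬ p ∣ Nat.card K ^ k - 1 := fun k hk h => by
    have h1 : p ∣ Nat.card K ^ k := hpq.trans (dvd_pow_self _ hk)
    have h2 : 1 ≤ Nat.card K ^ k := Nat.one_le_pow _ _ hpos
    have h3 : p ∣ Nat.card K ^ k - (Nat.card K ^ k - 1) := Nat.dvd_sub h1 h
    rw [Nat.sub_sub_self h2] at h3
    exact hp.out.one_lt.ne' (Nat.dvd_one.1 h3)
  have hI : (U0 K).index = (Nat.card K ^ 2 - 1) * (Nat.card K ^ 4 - 1) := by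
    have h := (U0 K).card_mul_index
    rw [card_U0, H54.card_sp, H54.spOrder_def] at h
    simp only [Fintype.card_fin, Finset.prod_range_succ, Finset.prod_range_zero, one_mul] at h
    exact Nat.eq_of_mul_eq_mul_left (pow_pos hpos 4) h
  have hI' : ¬ p ∣ (U0 K).index := by
    rw [hI, hp.out.dvd_mul]
    exact not_or.2 ⟨hnd 2 (by decide), hnd 4 (by decide)⟩
  let S : Sylow p (Matrix.symplecticGroup (Fin 2) K) := hP.toSylow hI'
  obtain ⟨g, hg⟩ := MulAction.exists_smul_eq (Matrix.symplecticGroup (Fin 2) K) S T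
  have hT : ∀ x, x ∈ (T : Subgroup _) ↔ g⁻¹ * x * g ∈ U0 K := fun x => by
    rw [← hg, Sylow.coe_subgroup_smul, Subgroup.mem_pointwise_smul_iff_inv_smul_mem]
    simp [S]
  refine ⟨fun c y w a => g * m0 c y w a * g⁻¹, fun c y w a => ?_, fun x hx => ?_,
    fun c y w a c' y' w' a' => ?_, fun h => ?_⟩
  · rw [hT]
    exact ⟨c, y, w, a, by group⟩
  · obtain ⟨c, y, w, a, h⟩ := (hT x).1 hx
    exact ⟨c, y, w, a, by rw [← h]; group⟩
  · rw [← m0_mul]; group
  · exact m0_inj (mul_left_cancel (mul_right_cancel h))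

end H31.S4CO
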