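import Cfsg.Agent.S2202
import Cfsg.Agent.S5748
import Cfsg.Agent.H17.FrobSys
import Cfsg.Agent.H56.SL2M1
import Cfsg.Agent.H96.Pure2

/-! Groups whose non-abelian subgroups are self-normalizing. -/

set_option autoImplicit false

namespace H31.SN

open Subgroup Cfsg H7
open H56.SL2M (xx hh)
open scoped MatrixGroups IsMulCommutative

variable {G X : Type*} [Group G] [Group X]

variable (G) in
/-- Every non-abelian subgroup is self-normalizing. -/
def SN : Prop := ∀ H : Subgroup G, ¬ IsMulCommutative H → normalizer (H : Set G) = H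

theorem comm_iff {H : Subgroup G} : IsMulCommutative H ↔ ∀ a ∈ H, ∀ b ∈ H, a * b = b * a :=
  ⟨fun c a ha b hb => congrArg Subtype.val (c.1.1 ⟨a, ha⟩ ⟨b, hb⟩),
    fun c => ⟨⟨fun a b => Subtype.ext (c _ a.2 _ b.2)⟩⟩⟩

theorem SN.of_inj (h : SN G) (f : X →* G) (hf : Function.Injective f) : SN X := fun H c =>
  le_normalizer.antisymm' fun x hx => (mem_map_iff_mem hf).1 (h (H.map f) (fun d => c
    (comm_iff.2 fun a ha b hb => hf (by
      rw [map_mul, map_mul, comm_iff.1 d _ (mem_map_of_mem f ha) _ (mem_map_of_mem f hb)]))) ▸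
        le_normalizer_map f (mem_map_of_mem f hx))

theorem SN.comm (h : SN G) {H : Subgroup G} {g : G} (a : g ∈ normalizer (H : Set G)) (b : g ∉ H) :
    IsMulCommutative H := by_contra fun c => b (h H c ▸ a)

theorem SN.star (h : SN G) {U : Subgroup G} (hU : IsMulCommutative U) {D : Subgroup (MulAut U)}
    {x y : normalizer (U : Set G)} (a : U.normalizerMonoidHom x ∈ D)
    (b : U.normalizerMonoidHom x ≠ 1) (c : U.normalizerMonoidHom y ∈ normalizer (D : Set _)) :
    U.normalizerMonoidHom y ∈ D := by_contra fun d => b (by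
  have k := (h.of_inj _ (subtype_injective _)).comm (le_normalizer_comap U.normalizerMonoidHom c) d
  rw [← MonoidHom.mem_ker, normalizerMonoidHom_ker]
  refine fun u hu => congrArg Subtype.val (comm_iff.1 k ⟨u, le_normalizer hu⟩ ?_ x a)
  have : (⟨u, le_normalizer hu⟩ : normalizer (U : Set G)) ∈ U.normalizerMonoidHom.ker := by
    rw [normalizerMonoidHom_ker]; exact fun v hv => comm_iff.1 hU v hv u hu
  rw [mem_comap, this]
  exact one_mem _)

theorem mem_nor [Finite X] {x y : X} (h : y * x * y⁻¹ ∈ zpowers x) :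
    y ∈ normalizer (zpowers x : Set X) := mem_normalizer_of_forall (by
  rintro _ ⟨k, rfl⟩
  simpa only [← conj_zpow] using zpow_mem h k)

theorem mem_of_inv [Finite X] (f : G →* X)
    (h : ∀ x y, f x ≠ 1 → f y ∈ normalizer (zpowers (f x) : Set X) → f y ∈ zpowers (f x)) {s : G}
    (s1 : f s ≠ 1) (s2 : f s * f s = 1) (g : G) : f g * f g = 1 := by
  have i := inv_eq_of_mul_eq_one_right s2
  by_cases d : f (s * (g * s * g⁻¹)) = 1
  · obtain ⟨k, hk⟩ := h s g s1 (mem_nor (by
      rw [map_mul, map_mul, map_mul, map_inv, mul_eq_one_iff_inv_eq, i] at d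
      exact d ▸ mem_zpowers _))
    rw [← hk, ← (Commute.refl _).mul_zpow, s2, one_zpow]
  have t2 : f (g * s * g⁻¹) * f (g * s * g⁻¹) = 1 := by
    rw [map_mul, map_mul, map_inv, conj_mul, s2]; group
  obtain ⟨k, hk⟩ := h _ s d (mem_nor (by
    rw [map_mul, ← mul_assoc, s2, one_mul]
    simpa only [mul_inv_rev, inv_eq_of_mul_eq_one_right t2] using
      inv_mem (mem_zpowers (f s * f (g * s * g⁻¹)))))
  have c : Commute (f s) (f (g * s * g⁻¹)) := by
    have : Commute (f s) (f s * f (g * s * g⁻¹)) := by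
      rw [← map_mul, ← hk]; exact Commute.zpow_self _ _
    exact mul_left_cancel (this.eq.trans (mul_assoc _ _ _))
  simp only [map_mul f s, c.mul_zpow] at hk
  rcases Int.even_or_odd' k with ⟨m, rfl | rfl⟩
  · exact (s1 (by simpa only [zpow_mul, zpow_two, s2, t2, one_zpow, one_mul] using hk.symm)).elim
  · simp only [zpow_add, zpow_mul, zpow_two, s2, t2, one_zpow, one_mul, zpow_one,
      mul_eq_left] at hk
    exact (s1 (by simpa using hk)).elim

variable [Finite G]

theorem SN.syl (h : SN G) (n : ¬ HasNormalPComplement 2 G) (S : Sylow 2 G) :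
    IsMulCommutative S := by
  obtain ⟨T, hT, g, g1, g2, g3⟩ : ∃ T : Subgroup G, IsPGroup 2 T ∧ ∃ g ∈ normalizer (T : Set G),
      (orderOf g).Coprime 2 ∧ g ∉ centralizer (T : Set G) := by
    by_contra! c
    exact n (hasNPC_of_normalizer_centralizer c)
  obtain ⟨U, le, m⟩ := Finite.exists_le_maximal
    (p := fun U : Subgroup G => IsPGroup 2 U ∧ g ∈ normalizer (U : Set G)) ⟨hT, g1⟩
  replace g3 : g ∉ centralizer (U : Set G) := fun c => g3 (centralizer_le le c)
  have uc := h.comm m.prop.2 fun c => g3 (by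
    obtain ⟨k, hk⟩ := m.prop.1 ⟨g, c⟩
    rw [orderOf_eq_one_iff.1 ((g2.pow_right k).eq_one_of_dvd
      (orderOf_dvd_of_pow_eq_one (congrArg Subtype.val hk)))]
    exact one_mem _)
  have cc := comm_iff.1 (h.comm (normalizer_le_normalizer_centralizer U m.prop.2) g3)
  obtain ⟨R, hR⟩ := m.prop.1.exists_le_sylow
  obtain ⟨a, rfl⟩ := MulAction.exists_smul_eq G R S
  suffices (R : Subgroup G) = U from comm_iff.2 (by
    rintro _ ⟨x, hx, rfl⟩ _ ⟨y, hy, rfl⟩
    exact (Commute.map (comm_iff.1 uc x (this ▸ hx) y (this ▸ hy)) (MulAut.conj a)).eq)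
  by_contra c
  obtain ⟨s, ⟨s1, s2⟩, s3⟩ := SetLike.exists_of_lt
    (lt_inf_normalizer R.isPGroup' (hR.lt_of_ne' c))
  let W : Subgroup G :=
    { carrier := {x | x ∈ centralizer (U : Set G) ∧ ∃ k, x ^ 2 ^ k = 1}
      one_mem' := ⟨one_mem _, 0, by simp⟩
      mul_mem' := fun {x y} ⟨a, k, b⟩ ⟨c, l, d⟩ => ⟨mul_mem a c, k + l, by
        rw [Commute.mul_pow (cc x a y c), pow_add, pow_mul, b, pow_mul', d]; simp⟩
      inv_mem' := fun ⟨a, k, b⟩ => ⟨inv_mem a, k, by simp [b]⟩ }
  obtain ⟨k, hk⟩ := R.isPGroup' ⟨s, s1⟩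
  replace hk : s ^ 2 ^ k = 1 := congrArg Subtype.val hk
  have ker : ∀ x : normalizer (U : Set G), U.normalizerMonoidHom x = 1 ↔
      x.1 ∈ centralizer (U : Set G) := fun x => by
    rw [← MonoidHom.mem_ker, normalizerMonoidHom_ker, mem_subgroupOf]
  refine s3 (m.le_of_ge (y := W) ⟨fun ⟨_, _, k, hk⟩ => ⟨k, Subtype.ext hk⟩,
    mem_normalizer_of_forall fun x ⟨a, k, b⟩ => ⟨conj_mem_of_mem_normalizer
      (normalizer_le_normalizer_centralizer U m.prop.2) a, k, by simp [b]⟩⟩
    (fun x hx => ⟨U.le_centralizer hx, (m.prop.1 ⟨x, hx⟩).imp fun _ => congrArg Subtype.val⟩)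
    ⟨(ker ⟨s, s2⟩).1 (by_contra fun s4 => g3 ((ker ⟨g, m.prop.2⟩).1 ?_)), k, hk⟩)
  obtain ⟨j, j1, j2⟩ := Nat.exists_not_and_succ_of_not_zero_of_exists
    (p := fun j => U.normalizerMonoidHom (⟨s, s2⟩ ^ 2 ^ j) = 1) (by simpa using s4)
    ⟨k, by rw [show (⟨s, s2⟩ ^ 2 ^ k : normalizer (U : Set G)) = 1 from Subtype.ext hk, map_one]⟩
  have e := mem_of_inv U.normalizerMonoidHom (fun x y a b => h.star uc (mem_zpowers _) a b) j1
    (by rwa [← map_mul, ← pow_two, ← pow_mul, ← pow_succ]) ⟨g, m.prop.2⟩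
  exact orderOf_eq_one_iff.1 ((g2.coprime_dvd_left ((orderOf_map_dvd _ _).trans
    (orderOf_coe _).symm.dvd)).eq_one_of_dvd (orderOf_dvd_of_pow_eq_one (by rwa [pow_two])))

theorem SN.of_burnside (h : SN G) {p : ℕ} [Fact p.Prime] (S : Sylow p G)
    (a : normalizer (S : Set G) ≤ centralizer (S : Set G)) (b : ¬ IsCyclic S) (x y : G) :
    x * y = y * x := by
  have sc : IsMulCommutative S := ⟨⟨fun a' b => Subtype.ext (a (le_normalizer b.2) a' a'.2)⟩⟩
  let τ := MonoidHom.transferSylow S a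
  have k := MonoidHom.ker_transferSylow_isComplement' S a
  have c : ∀ s : G, IsMulCommutative ((zpowers (τ s)).comap τ) := fun s => by_contra fun c => b (by
    have e := h _ c
    rw [normalizer_eq_top] at e
    refine ⟨τ s, fun z => ?_⟩
    obtain ⟨w, rfl⟩ := (S.2.powEquiv' S.not_dvd_index).surjective z
    exact (MonoidHom.transferSylow_eq_pow S a w w.2).subst (motive := (· ∈ zpowers (τ s)))
      (e.le (mem_top w.1)))
  have m : ∀ (s : G) (z : τ.ker), z.1 ∈ (zpowers (τ s)).comap τ := fun s z => by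
    rw [mem_comap, z.2]; exact one_mem _
  obtain ⟨⟨u, s⟩, rfl⟩ := k.2 x
  obtain ⟨⟨v, t⟩, rfl⟩ := k.2 y
  have c1 : ∀ (z : τ.ker) (w : G), Commute z.1 w := fun z w =>
    comm_iff.1 (c w) _ (m w z) _ (mem_zpowers _)
  exact (c1 u _).mul_left ((c1 v _).symm.mul_right (comm_iff.1 sc _ s.2 _ t.2))

theorem SN.l2 [IsSimpleGroup G] (h : SN G) (na : ¬ IsMulCommutative G) : H31.L2Even G := by
  have ev : Even (Nat.card G) := Nat.not_odd_iff_even.1 fun o =>
    na ⟨⟨IsSimpleGroup.comm_iff_isSolvable.2 (Cfsg.Agent.S0205.result o)⟩⟩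
  have npc : ¬ HasNormalPComplement 2 G := fun ⟨P, N, a, b⟩ => by
    rcases a.eq_bot_or_eq_top with rfl | rfl
    · have := (P.2.of_equiv ((MulEquiv.subgroupCongr (isComplement'_bot_left.1 b)).trans
        topEquiv)).isNilpotent
      exact na ⟨⟨IsSimpleGroup.comm_iff_isSolvable.2 inferInstance⟩⟩
    · exact P.ne_bot_of_dvd_card ev.two_dvd (isComplement'_top_left.1 b)
  have bu : ∀ S : Sylow 2 G, ¬ normalizer (S : Set G) ≤ centralizer (S : Set G) := fun S a =>
    npc ⟨S, _, inferInstance, MonoidHom.ker_transferSylow_isComplement' S a⟩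
  have cy : ∀ S : Sylow 2 G, ¬ IsCyclic S := fun S a =>
    bu S (a.normalizer_le_centralizer ((Nat.minFac_eq_two_iff _).2 ev.two_dvd))
  have ab : ∀ t : G, orderOf t = 2 → IsMulCommutative (centralizer ({t} : Set G)) := fun t ht => by
    obtain ⟨S, hS⟩ := (IsPGroup.of_card (p := 2) (n := 1) (G := zpowers t)
      (by simp [ht])).exists_le_sylow
    have ts := hS (mem_zpowers t)
    have sc := h.syl npc S
    have le : S.1 ≤ centralizer {t} := fun x hx =>
      mem_centralizer_singleton_iff.2 (comm_iff.1 sc x hx t ts)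
    refine ⟨⟨(h.of_inj _ (subtype_injective _)).of_burnside (S.subtype le) (fun x hx => ?_)
      fun c => cy S ((subgroupOfEquivOfLe le).isCyclic.1 c)⟩⟩
    have xn : x.1 ∈ normalizer (S.1 : Set G) := by
      have := le_normalizer_map (centralizer {t}).subtype (mem_map_of_mem _ hx)
      rwa [Sylow.coe_subtype, map_subgroupOf_eq_of_le le] at this
    let f := S.1.normalizerMonoidHom
    by_cases x1 : f ⟨_, xn⟩ = 1
    · rw [← MonoidHom.mem_ker, normalizerMonoidHom_ker] at x1
      exact fun y hy => Subtype.ext (x1 y.1 hy)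
    have od : Odd (Nat.card f.range) := by
      rw [← index_ker, normalizerMonoidHom_ker, ← Nat.not_even_iff_odd, even_iff_two_dvd]
      exact fun d => S.not_dvd_index (d.trans ((relIndex_dvd_of_le_left _ S.1.le_centralizer).trans
        (relIndex_dvd_index_of_le le_normalizer)))
    have := Cfsg.Agent.S0205.result od
    have : Nontrivial f.range := ⟨⟨⟨_, _, rfl⟩, 1, fun e => x1 (congrArg Subtype.val e)⟩⟩
    have cb : ⁅f.range, f.range⁆ = ⊥ := by_contra fun c => by
      obtain ⟨_, z, z1⟩ := (bot_or_exists_ne_one _).resolve_left c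
      obtain ⟨w, rfl⟩ := commutator_le_self _ z
      refine (Group.IsSolvable.commutator_lt_top_of_nontrivial f.range).not_ge ?_
      rintro ⟨_, y, rfl⟩ -
      rw [← mem_map_iff_mem f.range.subtype_injective, map_subtype_commutator]
      exact h.star sc z z1 (normalizer_commutator_ge_left _ _ ⟨y, rfl⟩)
    have nt : ∀ y ∈ normalizer (S.1 : Set G), y * t * y⁻¹ = t := fun y hy => by
      have := h.star sc (D := MulAction.stabilizer _ (⟨t, ts⟩ : S.1) ⊓ f.range) (x := ⟨_, xn⟩)
        (y := ⟨y, hy⟩) ⟨Subtype.ext (mul_inv_eq_of_eq_mul (mem_centralizer_singleton_iff.1 x.2)),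
          _, rfl⟩ x1 (mem_normalizer_of_forall fun z hz => by
            rwa [commutator_eq_bot_iff_le_centralizer.1 cb hz.2 _ ⟨⟨y, hy⟩, rfl⟩,
              mul_inv_cancel_right])
      exact congrArg Subtype.val this.1
    have e := MonoidHom.transfer_eq_pow (MonoidHom.id S.1) t fun k g a => by
      obtain ⟨n, n1, n2⟩ := S.conj_eq_normalizer_conj_of_mem _ g (pow_mem ts k) a
      simpa only [n2, inv_inv] using conj_pow.symm.trans (congrArg (· ^ k) (nt _ (inv_mem n1)))
    rw [Abelianization.commutator_subset_ker _ (H87.commutator_eq_top na ▸ mem_top t)] at e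
    exact (S.not_dvd_index (ht.symm.dvd.trans
      (orderOf_dvd_of_pow_eq_one (congrArg Subtype.val e.symm)))).elim
  rcases Cfsg.Agent.S2202.result ev ab with c | c | ⟨F, _, _, A, _, _, _, -, ⟨e⟩⟩
  · exact (cy default (c _)).elim
  · rcases (c default).eq_bot_or_eq_top with e | e
    · exact ((default : Sylow 2 G).ne_bot_of_dvd_card ev.two_dvd e).elim
    · exact (npc ⟨default, ⊥, inferInstance, isComplement'_bot_left.2 e⟩).elim
  have i : Function.Injective ((MonoidHom.fst _ _).comp e.toMonoidHom) :=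
    (MonoidHom.ker_eq_bot_iff _).1 ((MonoidHom.normal_ker _).eq_bot_or_eq_top.resolve_right
      fun k => na ⟨⟨fun a b => e.injective (Prod.ext (by
        have : ∀ x, (e x).1 = 1 := fun x => k.ge (mem_top x)
        rw [this, this]) (by simp [mul_comm]))⟩⟩)
  exact (Cfsg.Agent.S5748.result na).1 fun a b c _ hb _ x y => (H17.sl_two_comm CharTwo.two_eq_zero
    ((map_ne_one_iff _ i).2 hb) (x.map _) (y.map _)).of_map i

theorem SN.prime {F : Type*} [Field F] [Fintype F] (h2 : (2 : F) = 0) (h : SN SL(2, F))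
    (q : 2 < Fintype.card F) : (Fintype.card F - 1).Prime := by
  let U : Subgroup SL(2, F) := (MonoidHom.mk' (fun t : Multiplicative F => xx t.toAdd)
    fun a b => H56.SL2M.xx_add _ _).range
  have uc : IsMulCommutative U := inferInstance
  have n : ∀ s : Fˣ, hh s ∈ normalizer (U : Set SL(2, F)) := fun s =>
    mem_normalizer_of_forall (by
      rintro _ ⟨t, rfl⟩
      exact ⟨.ofAdd (s * s * t.toAdd), (mul_inv_eq_of_eq_mul (H56.SL2M.hh_xx _ _)).symm⟩)
  let φ : Fˣ →* MulAut U := U.normalizerMonoidHom.comp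
    ((MonoidHom.mk' hh H56.SL2M.hh_mul).codRestrict _ n)
  have i : Function.Injective φ := (injective_iff_map_eq_one φ).2 fun s e => by
    have a : (φ s ⟨xx 1, .ofAdd 1, rfl⟩).1 = xx 1 := by rw [e]; rfl
    change hh s * xx 1 * (hh s)⁻¹ = xx 1 at a
    have b := congrArg (fun g : SL(2, F) => g.1 0 1)
      ((mul_inv_eq_of_eq_mul (H56.SL2M.hh_xx s 1)).symm.trans a)
    simp only [H56.SL2M.xx_coe, mul_one, Matrix.of_apply, Matrix.cons_val', Matrix.cons_val_one,
      Matrix.cons_val_zero] at b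
    exact Units.ext (show s.1 = 1 from sub_eq_zero.1 (pow_eq_zero_iff two_ne_zero |>.1
      (by linear_combination b + (1 - s.1) * h2)))
  classical
  have c : Nat.card Fˣ = Fintype.card F - 1 := by rw [Nat.card_units, Nat.card_eq_fintype_card]
  have : Nontrivial Fˣ := Finite.one_lt_card_iff_nontrivial.1 (by omega)
  have : IsSimpleGroup Fˣ := ⟨fun A _ => (bot_or_exists_ne_one A).imp_right fun ⟨s, a, b⟩ =>
    eq_top_iff.2 fun t _ => (mem_map_iff_mem i).1 (h.star uc (mem_map_of_mem φ a)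
      ((map_ne_one_iff φ i).2 b) (le_normalizer_map φ (mem_map_of_mem φ
        ((normalizer_eq_top (H := A)).ge (mem_top t)))))⟩
  exact c ▸ IsSimpleGroup.prime_card

theorem of_ct (ct : ∀ {a b c : G}, b ≠ 1 → Commute a b → Commute b c → Commute a c)
    (q : ∀ y h g : G, Commute (h * y * h⁻¹) y → ¬ Commute h y → Commute (g * y * g⁻¹) y →
      ∃ k : ℕ, Commute (g * h ^ k) y) : SN G := fun H na => by
  refine le_normalizer.antisymm' fun g hg => ?_
  obtain ⟨p, pp, hp⟩ := Nat.exists_prime_and_dvd (n := Nat.card (commutator H)) fun e =>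
    na ⟨⟨fun a b => commutatorElement_eq_one_iff_mul_comm.1 (mem_bot.1
      (card_eq_one.1 e ▸ commutator_mem_commutator (mem_top a) (mem_top b)))⟩⟩
  have := Fact.mk pp
  let P : Sylow p H := default
  obtain ⟨h, h1, h2⟩ := SetLike.not_le_iff_exists.1
    fun a : normalizer (P : Set H) ≤ centralizer (P : Set H) =>
    have : IsMulCommutative P := ⟨⟨fun a' b => Subtype.ext (a (le_normalizer b.2) a' a'.2)⟩⟩
    MonoidHom.not_dvd_card_ker_transferSylow P a
      (hp.trans (card_dvd_of_le (Abelianization.commutator_subset_ker _)))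
  obtain ⟨y, y1, y2⟩ : ∃ y ∈ P, ¬ Commute h.1 (y : H).1 := by
    by_contra! c
    exact h2 fun y hy => Subtype.ext (c y hy).symm
  have y0 : y.1 ≠ 1 := fun e => y2 (e ▸ Commute.one_right _)
  have : Nontrivial P := ⟨⟨⟨y, y1⟩, 1, fun e => y0 (congrArg (fun x : P => x.1.1) e)⟩⟩
  have := P.2.center_nontrivial
  obtain ⟨⟨z, z1⟩, z0⟩ := exists_ne (1 : center P)
  have pc : ∀ a ∈ P.1.map H.subtype, Commute a y.1 := by
    rintro _ ⟨a, ha, rfl⟩
    exact ct (b := z.1.1) (fun e => z0 (Subtype.ext (Subtype.ext (Subtype.ext e))))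
      (congrArg (fun x : P => x.1.1) (mem_center_iff.1 z1 ⟨a, ha⟩))
      (congrArg (fun x : P => x.1.1) (mem_center_iff.1 z1 ⟨y, y1⟩)).symm
  have hy := pc _ (mem_map_of_mem _ (conj_mem_of_mem_normalizer h1 y1))
  obtain ⟨u, hu, m, hm, rfl⟩ := (isSylowIn_map_subtype P).frattini hg
  obtain ⟨k, hk⟩ := q _ h.1 m hy y2 (pc _ (conj_mem_of_mem_normalizer hm (mem_map_of_mem _ y1)))
  obtain ⟨h, hH⟩ := h
  obtain ⟨y, yH⟩ := y
  have mem : ∀ d ∈ normalizer (H : Set G), h * d * h⁻¹ * d⁻¹ ∈ H := fun d hd => by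
    simpa only [mul_assoc] using mul_mem hH (conj_mem_of_mem_normalizer hd (inv_mem hH))
  let φ : {d : G // d ∈ normalizer (H : Set G) ∧ Commute d y} → {d : G //
      d ∈ normalizer (H : Set G) ∧ Commute d y} := fun d => ⟨h * d.1 * h⁻¹ * d.1⁻¹,
    le_normalizer (mem _ d.2.1), (ct (by simpa using y0) (d.2.2.map (MulAut.conj h)) hy).mul_left
      d.2.2.inv_left⟩
  have i : Function.Injective φ := fun d e a => Subtype.ext (by_contra fun c => y2 (ct
    (mt inv_mul_eq_one.1 (Ne.symm c)) (Commute.inv_left_iff.1 (by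
      have : h * d.1 * h⁻¹ * d.1⁻¹ = h * e.1 * h⁻¹ * e.1⁻¹ := congrArg Subtype.val a
      calc h⁻¹ * (e.1⁻¹ * d.1) = e.1⁻¹ * h⁻¹ * (h * e * h⁻¹ * e.1⁻¹) * d := by group
        _ = _ := by rw [← this]; group)) (e.2.2.inv_left.mul_left d.2.2)))
  obtain ⟨d, hd⟩ := Finite.injective_iff_surjective.1 i ⟨m * h ^ k, mul_mem
    ((mul_mem_cancel_left (le_normalizer hu)).1 hg) (le_normalizer (pow_mem hH k)), hk⟩
  have := mem _ d.2.1
  rw [show h * d.1 * h⁻¹ * d.1⁻¹ = m * h ^ k from congrArg Subtype.val hd] at this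
  exact mul_mem hu ((mul_mem_cancel_right (pow_mem hH k)).1 this)

theorem sl_q {F : Type*} [Field F] [Fintype F] (h2 : (2 : F) = 0) (pr : (Fintype.card F - 1).Prime)
    (y h g : SL(2, F)) (a : Commute (h * y * h⁻¹) y) (b : ¬ Commute h y)
    (c : Commute (g * y * g⁻¹) y) : ∃ k : ℕ, Commute (g * h ^ k) y := by
  have key : ∀ g : SL(2, F), Commute (g * y * g⁻¹) y → ∃ u v : F,
      g.1 * y.1 = (u • 1 + v • y.1) * g.1 ∧ (v - 1) * y.1.trace = 0 ∧
        u * u + u * v * y.1.trace + v * v = 1 := fun g c => by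
    obtain ⟨u, v, e⟩ : ∃ u v : F, (g * y * g⁻¹).1 = u • 1 + v • y.1 := by
      generalize g * y * g⁻¹ = w at c
      have e := fun i j => congrFun (congrFun (congrArg Subtype.val c.eq) i) j
      have e1 := e 0 0
      have e2 := e 0 1
      have e3 := e 1 0
      simp only [Matrix.SpecialLinearGroup.coe_mul, Matrix.mul_apply, Fin.sum_univ_two] at e1 e2 e3
      have f : ∀ v, w.1 0 1 = v * y.1 0 1 → w.1 1 0 = v * y.1 1 0 →
          w.1 0 0 - w.1 1 1 = v * (y.1 0 0 - y.1 1 1) → ∃ u v : F, w.1 = u • 1 + v • y.1 :=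
        fun v a b c => ⟨w.1 0 0 - v * y.1 0 0, v, Matrix.ext fun i j => by
          fin_cases i <;> fin_cases j <;> simp [a, b]
          linear_combination -c⟩
      by_cases y1 : y.1 0 1 = 0
      · by_cases y2 : y.1 1 0 = 0
        · by_cases y3 : y.1 0 0 - y.1 1 1 = 0
          · refine (b (Subtype.ext (Matrix.ext fun i j => ?_))).elim
            fin_cases i <;> fin_cases j <;>
              simp [Matrix.mul_apply, Fin.sum_univ_two, y1, y2, sub_eq_zero.1 y3, mul_comm]
          · refine f ((w.1 0 0 - w.1 1 1) / (y.1 0 0 - y.1 1 1)) ?_ ?_ ?_ <;> field_simp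
            exacts [by linear_combination -e2, by linear_combination e3]
        · refine f (w.1 1 0 / y.1 1 0) ?_ ?_ ?_ <;> field_simp
          exacts [by linear_combination e1, by linear_combination -e3]
      · refine f (w.1 0 1 / y.1 0 1) ?_ ?_ ?_ <;> field_simp
        exacts [by linear_combination -e1, by linear_combination e2]
    have d := (g * y * g⁻¹).2
    have d' := y.2
    have t : (g * y * g⁻¹).1.trace = y.1.trace := by
      rw [Matrix.SpecialLinearGroup.coe_mul, Matrix.trace_mul_comm,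
        ← Matrix.SpecialLinearGroup.coe_mul, inv_mul_cancel_left]
    refine ⟨u, v, by rw [← e, ← Matrix.SpecialLinearGroup.coe_mul,
      ← Matrix.SpecialLinearGroup.coe_mul, inv_mul_cancel_right], ?_, ?_⟩
    · rw [e] at t
      simp at t
      linear_combination t - u * h2
    · rw [e, Matrix.det_fin_two] at d
      rw [Matrix.det_fin_two] at d'
      simp at d
      rw [Matrix.trace_fin_two]
      linear_combination d - v * v * d'
  obtain ⟨u, v, h1, h3, h4⟩ := key h a
  obtain ⟨u', v', g1, g3, g4⟩ := key g c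
  have nz : ¬ (u = 0 ∧ v = 1) := fun ⟨x, z⟩ => b (Subtype.ext (by simpa [x, z] using h1))
  by_cases t : y.1.trace = 0
  · rw [t, mul_zero, add_zero] at h4 g4
    have sq : ∀ {u v : F}, u * u + v * v = 1 → u = 1 - v := fun {u v} e => sub_eq_zero.1
      (pow_eq_zero_iff two_ne_zero |>.1 (by linear_combination e + (1 - u - v + u * v) * h2))
    have v0 : ∀ {g : SL(2, F)} {u v : F}, g.1 * y.1 = (u • 1 + v • y.1) * g.1 → v ≠ 0 := by
      rintro g u _ e rfl
      have : y.1 = u • 1 := (Matrix.isUnit_iff_isUnit_det g.1).2 (by simp) |>.mul_left_cancel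
        (by simpa using e)
      exact b (Subtype.ext (by simp [this]))
    obtain rfl := sq h4
    obtain rfl := sq g4
    classical
    obtain ⟨k, hk⟩ := (Submonoid.mem_powers_iff _ _).1 (mem_powers_of_prime_card
      (hp := ⟨pr⟩) (by rw [Nat.card_units, Nat.card_eq_fintype_card]) (g := Units.mk0 v (v0 h1))
      (g' := (Units.mk0 v' (v0 g1))⁻¹) fun e => nz (by simp [show v = 1 from congrArg Units.val e]))
    have hp : ∀ k : ℕ, (h ^ k).1 * (y.1 - 1) = v ^ k • ((y.1 - 1) * (h ^ k).1) := fun k => by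
      induction k with
      | zero => simp
      | succ k ih =>
        rw [pow_succ, Matrix.SpecialLinearGroup.coe_mul, mul_assoc, mul_sub h.1, h1,
          show ((1 - v) • 1 + v • y.1) * h.1 - h.1 * 1 = v • ((y.1 - 1) * h.1) by
            simp [add_mul, sub_mul, sub_smul, smul_sub]; abel,
          mul_smul_comm, ← mul_assoc, ih, smul_mul_assoc, smul_smul, pow_succ', mul_assoc]
    have kk : v ^ k * v' = 1 := by
      rw [show v ^ k = v'⁻¹ by simpa using congrArg Units.val hk, inv_mul_cancel₀ (v0 g1)]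
    refine ⟨k, Subtype.ext ?_⟩
    have e := congrArg (g.1 * ·) (hp k)
    rw [mul_smul_comm, ← mul_assoc g.1 (_ - _), mul_sub g.1, g1,
      show ((1 - v') • 1 + v' • y.1) * g.1 - g.1 * 1 = v' • ((y.1 - 1) * g.1) by
        simp [add_mul, sub_mul, sub_smul, smul_sub]; abel, smul_mul_assoc, smul_smul, kk] at e
    simpa [mul_sub, sub_mul, mul_assoc] using e
  obtain rfl := sub_eq_zero.1 ((mul_eq_zero.1 h3).resolve_right t)
  obtain rfl := sub_eq_zero.1 ((mul_eq_zero.1 g3).resolve_right t)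
  have u0 : u ≠ 0 := fun z => nz ⟨z, rfl⟩
  by_cases z : u' = 0
  · exact ⟨0, Subtype.ext (by simpa [z] using g1)⟩
  obtain rfl : u' = u := (mul_left_cancel₀ z (by linear_combination g4) : u' = -y.1.trace).trans
    (mul_left_cancel₀ u0 (by linear_combination h4) : u = -y.1.trace).symm
  refine ⟨1, Subtype.ext ?_⟩
  simp only [pow_one, Matrix.SpecialLinearGroup.coe_mul, mul_assoc, h1, one_smul]
  rw [← mul_assoc, mul_add, g1, one_smul, add_mul _ y.1, ← add_assoc, mul_smul_comm, smul_mul_assoc,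
    mul_one, one_mul, ← add_smul, ← two_mul, h2, zero_mul, zero_smul, zero_add, mul_assoc]

end H31.SN
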