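import Cfsg.Agent.H51.TESpec

/-! # S1308, tower TE part 2: the centre of a class two pair is a point. -/

set_option autoImplicit false

namespace H31.TE2C4a

open Cfsg Subgroup MulAction H14 H98 H1.Gold H31.S2 H14.GC H14.FE H14.NF H51.TE
open scoped commutatorElement

universe u

variable {G : Type u} [Group G] {Q E Q₁ E₁ Q₂ E₂ : Subgroup G}

theorem share (gx : Gx Q E) (c : C2 Q E Q₁ E₁ Q₂ E₂) {r a : G} (hr : r ∈ E₁) (r1 : r ≠ 1)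
    (ha : a ∈ E₂) (a1 : a ≠ 1) {Qa Va Qr Vr : Subgroup G} (pa : Pt Q E Qa Va) (pr : Pt Q E Qr Vr)
    (va : ∀ v : G, v ∈ Va ↔ ∃ r ∈ E₁, v = ⁅r, a⁆) (vr : ∀ v : G, v ∈ Vr ↔ ∃ a ∈ E₂, v = ⁅a, r⁆) :
    Qa = Qr ∧ Va = Vr := by
  have w1 : ⁅r, a⁆ ∈ Va := (va _).2 ⟨r, hr, rfl⟩
  have w2 : ⁅r, a⁆ ∈ Vr := by
    rw [← commutatorElement_inv]; exact inv_mem ((vr _).2 ⟨a, ha, rfl⟩)
  have w3 : ⁅r, a⁆ ≠ 1 := fun e => c.o2 a ha a1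
    (pt_cen gx.tg c.p1 (pt_le gx.tg c.p1 hr) ⟨r1, pt_el gx.tg c.p1 r hr⟩
      (mem_centralizer_singleton_iff.2 (commutatorElement_eq_one_iff_mul_comm.1 e).symm))
  have e : Qa = Qr := by
    by_contra h
    exact pt_ti gx.tg pa pr h _ ⟨pt_le gx.tg pa w1, pt_le gx.tg pr w2⟩ ⟨w3, pt_el gx.tg pa _ w1⟩
  subst e
  have m : ∀ x ∈ E₁ ⊔ E₂, ∀ y ∈ E₁ ⊔ E₂, ⁅x, y⁆ ∈ E₁ ⊔ E₂ := fun x hx y hy =>
    mul_mem (mul_mem (mul_mem hx hy) (inv_mem hx)) (inv_mem hy)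
  have l1 : Va ≤ E₁ ⊔ E₂ := fun v hv => by
    obtain ⟨s, hs, rfl⟩ := (va v).1 hv
    exact m _ (mem_sup_left hs) _ (mem_sup_right ha)
  have l2 : Vr ≤ E₁ ⊔ E₂ := fun v hv => by
    obtain ⟨s, hs, rfl⟩ := (vr v).1 hv
    exact m _ (mem_sup_right hs) _ (mem_sup_left hr)
  exact ⟨rfl, le_antisymm (fun d hd => gx.cu Qa Vr Va pr pa _ c.two l2 d hd (l1 hd))
    (fun d hd => gx.cu Qa Va Vr pa pr _ c.two l1 d hd (l2 hd))⟩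

theorem job : JobC4a.{u} := by
  intro cpa cpb c3 G _ _ Q E gx Q₁ E₁ Q₂ E₂ c
  have one : ∀ {Q₁ E₁ Q₂ E₂ : Subgroup G}, C2 Q E Q₁ E₁ Q₂ E₂ → ∀ r ∈ E₁, ∀ s ∈ E₁, r ≠ 1 → s ≠ 1 →
      r ≠ s → Col Q E Q₂ E₂ (cj r Q₂) (cj r E₂) ∨ Col Q E Q₂ E₂ (cj s Q₂) (cj s E₂) := by
    intro Q₁ E₁ Q₂ E₂ c r hr s hs r1 s1 rs
    by_contra h
    rw [not_or] at h
    obtain ⟨R, h1, h2⟩ := cpa G Q E gx Q₁ E₁ Q₂ E₂ c r hr s hs r1 s1 rs h.1 h.2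
    exact cpb G Q E gx Q₁ E₁ Q₂ E₂ c r hr s hs r1 s1 rs R h1 h2
  have ex : ∀ {Q₁ E₁ Q₂ E₂ : Subgroup G}, C2 Q E Q₁ E₁ Q₂ E₂ →
      ∃ r ∈ E₁, r ≠ 1 ∧ Col Q E Q₂ E₂ (cj r Q₂) (cj r E₂) := by
    intro Q₁ E₁ Q₂ E₂ c
    obtain ⟨s, hs, t, ht, s1, t1, st, -⟩ := pt_four gx.tg c.p1
    rcases one c s hs t ht s1.1 t1.1 st with h | h
    · exact ⟨s, hs, s1.1, h⟩
    · exact ⟨t, ht, t1.1, h⟩
  obtain ⟨r₀, hr₀, r1, gr⟩ := ex c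
  obtain ⟨Q₀, V, col₀, hV⟩ := c3 G Q E gx Q₂ E₂ Q₁ E₁ c.symm r₀ hr₀ r1 gr
  have good : ∀ a ∈ E₂, a ≠ 1 → Col Q E Q₁ E₁ (cj a Q₁) (cj a E₁) →
      Col Q E Q₁ E₁ Q₀ V ∧ ∀ r ∈ E₁, ⁅r, a⁆ ∈ V := by
    intro a ha a1 ga
    obtain ⟨Qa, Va, col, hVa⟩ := c3 G Q E gx Q₁ E₁ Q₂ E₂ c a ha a1 ga
    obtain ⟨rfl, rfl⟩ := share gx c hr₀ r1 ha a1 col.p2 col₀.p2 hVa hV
    exact ⟨col, fun r hr => (hVa _).2 ⟨r, hr, rfl⟩⟩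
  obtain ⟨a₀, ha₀, a1, ga⟩ := ex c.symm
  refine ⟨Q₀, V, gx.tg.sym _ _ _ _ (good a₀ ha₀ a1 ga).1, gx.tg.sym _ _ _ _ col₀,
    fun r hr a ha => ?_⟩
  by_cases h1 : a = 1
  · rw [h1, commutatorElement_one_right]; exact one_mem _
  by_cases hg : Col Q E Q₁ E₁ (cj a Q₁) (cj a E₁)
  · exact (good a ha h1 hg).2 r hr
  have oth : ∀ b ∈ E₂, b ≠ 1 → b ≠ a → ⁅r, b⁆ ∈ V := fun b hb b1 ba =>
    (good b hb b1 ((one c.symm b hb a ha b1 h1 ba).resolve_right hg)).2 r hr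
  have el : El E₂ := pt_el gx.tg c.p2
  obtain ⟨b, hb, b1, ba⟩ : ∃ b ∈ E₂, b ≠ 1 ∧ b ≠ a := by
    obtain ⟨s, hs, t, ht, s1, t1, st, -⟩ := pt_four gx.tg c.p2
    by_cases e : s = a
    · exact ⟨t, ht, t1.1, fun e' => st (e.trans e'.symm)⟩
    · exact ⟨s, hs, s1.1, e⟩
  have m : b * a ∈ E₂ := mul_mem hb ha
  have k1 : b * a ≠ 1 := fun e => ba (mul_right_cancel (e.trans (el a ha).symm))
  have k2 : b * a ≠ a := fun e => b1 (mul_right_cancel (e.trans (one_mul a).symm))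
  have e1 : a = b * (b * a) := by rw [← mul_assoc, el b hb, one_mul]
  have e2 : ⁅r, b * (b * a)⁆ = ⁅r, b⁆ * (b * ⁅r, b * a⁆ * b⁻¹) := by
    simp only [commutatorElement_def]; group
  have e3 : b * ⁅r, b * a⁆ = ⁅r, b * a⁆ * b := mem_centralizer_iff.1 (c.cm r hr _ m).2 b hb
  rw [e1, e2, e3, mul_inv_cancel_right]
  exact mul_mem (oth b hb b1 ba) (oth _ m k1 k2)

end H31.TE2C4a
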