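import Cfsg.Agent.H59.U5FX
import Cfsg.Agent.H67.SAFA

/-! STD-U5: facts on `SU₅(2)`. -/

set_option autoImplicit false
set_option linter.unusedSectionVars false

namespace H31.U5

open H67

open H64.SG (Cz Cs Ns fx mem_fx)
open H67 H59.UV Module Matrix H57
open H67.SA (la SLn Au)

variable {n : ℕ} {K : Type} [Field K] [StarRing K] [CharP K 2] [Finite K] [hp : Par n K]

omit hp in
theorem q_cases [FQ K] : qK K = 2 ∨ 4 ≤ qK K := by
  obtain ⟨f, f1, hf⟩ := FQ.pow2 (K := K)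
  rcases f1.eq_or_lt with rfl | h
  · exact Or.inl hf
  · exact Or.inr (hf ▸ Nat.pow_le_pow_right two_pos h)

omit hp in
theorem sa01 [FQ K] (h : qK K = 2) {c : K} (hc : star c = c) : c = 0 ∨ c = 1 := by
  rw [FQ.star_eq, h] at hc
  rcases eq_or_ne c 0 with e | e
  · exact Or.inl e
  · exact Or.inr (mul_left_cancel₀ e (by rw [← sq, hc, mul_one]))

omit hp in
theorem cube [FQ K] (h : qK K = 2) {a : K} (ha : a ≠ 0) : a ^ 3 = 1 := by
  have h1 := (sa01 h (star_nm a)).resolve_left (mul_ne_zero ha (by simpa using ha))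
  rw [nm, FQ.star_eq, h] at h1
  linear_combination h1

omit hp in
theorem aut2 [FQ K] (h : qK K = 2) (σ : RingAut K) : σ = 1 ∨ σ = sg K :=
  FQ.gal σ fun a ha => by rcases sa01 h ha with rfl | rfl <;> simp

theorem cenSL [FQ K] (h : qK K = 2) {s : SLn n K} (hs : s ∈ Subgroup.center (SLn n K)) : s = 1 := by
  obtain ⟨r, h1, h2⟩ := Matrix.SpecialLinearGroup.mem_center_iff.1 hs
  rw [Fintype.card_fin, show n + 1 = 4 + 1 from congrArg (· + 1) hp.five] at h1
  have r0 : r ≠ 0 := by rintro rfl; simp at h1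
  have h3 := cube h r0
  have h4 : r = 1 := by
    have : r ^ 6 = r := by rw [show 6 = 4 + 1 + 1 from rfl, pow_succ, h1, one_mul]
    rw [← this, show 6 = 3 * 2 from rfl, pow_mul, h3, one_pow]
  refine Subtype.ext ?_
  rw [← h2, h4, map_one]; rfl

theorem cenX [FQ K] [FV n K] (h : qK K = 2) : Subgroup.center (XU n K) = ⊥ :=
  eq_bot_iff.2 fun g hg => Subtype.ext (cenSL h ((FV.cen' g).1 hg))

theorem dg_inner [FQ K] (h : qK K = 2) (g : GL (Fin (n + 1)) K) :
    ∃ s : SLn n K, slDiag _ K g = MulAut.conj s := by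
  have d0 : g.1.det ≠ 0 := (g.isUnit.map detMonoidHom).ne_zero
  have h3 := cube h d0
  refine ⟨⟨g.1.det • g.1, ?_⟩, SA.dg_eq_conj (a := g.1.det ^ 2) ?_⟩
  · rw [det_smul, Fintype.card_fin]
    generalize g.1.det = d at h3
    rw [hp.five]
    linear_combination (d ^ 3 + 1) * h3
  · change g.1 = _ • g.1.det • g.1
    rw [smul_smul, ← pow_succ, h3, one_smul]

theorem mem_of_comm [FQ K] (h : qK K = 2) {s : SLn n K}
    (e : MulAut.conj s * tau n K = tau n K * MulAut.conj s) : s ∈ fx (tau n K) := by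
  have h1 : MulAut.conj (tau n K s) = MulAut.conj s := MulEquiv.ext fun a => by
    obtain ⟨a, rfl⟩ := (tau n K).surjective a
    have := congrArg (fun f : Au n K => f a) e
    simp only [MulAut.mul_apply, MulAut.conj_apply, map_mul, map_inv] at this
    exact this.symm
  exact mem_fx.2 (mul_inv_eq_one.1 (cenSL h (GA.conj_eq_one.1 (by
    rw [map_mul, map_inv, h1, mul_inv_cancel]))))

theorem inn2 [Base n K] (h : qK K = 2) {β : MulAut (XU n K)} (h1 : GA.out (XU n K) β = 1) :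
    ∃ s, β = MulAut.conj s := by
  obtain ⟨γ, hγ⟩ := FX.ext β
  obtain ⟨g, rfl⟩ := (SA.out_eq_one_iff (H59.UVX.two_le K)).1
    (Prod.ext ((FX.out_eq β γ hγ).symm.trans h1) hγ.2)
  obtain ⟨s, hs⟩ := dg_inner h g
  rw [hs] at hγ
  exact ⟨⟨s, mem_of_comm h (FX.comm β _ hγ.1)⟩, MulEquiv.ext fun a => Subtype.ext (hγ.1 a)⟩

theorem odd_inner [Base n K] (h : qK K = 2) (β : MulAut (XU n K)) (h1 : Odd (orderOf β)) :
    ∃ s, β = MulAut.conj s := by
  refine inn2 h (H64.SG.Is2.eq_one ⟨1, ?_⟩ (h1.of_dvd_nat (orderOf_map_dvd _ _)))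
  rcases aut2 h (GA.out (XU n K) β) with e | e <;> rw [e]
  · exact one_pow _
  · exact RingEquiv.ext fun a => star_star a

end H31.U5
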