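/- Numerical facts on ZT-groups, normal forms of `L2Even`. -/
import Cfsg.Agent.H31.CITSimple
import Cfsg.Agent.H31.ConjCount
import Cfsg.Agent.H55.Basic

set_option autoImplicit false

namespace H31

open Cfsg Subgroup H98

universe u

variable {G : Type u} [Group G] [Finite G]

omit [Finite G] in
theorem L2Even.galois (h : L2Even G) : ∃ n : ℕ, 2 ≤ n ∧
    Nonempty (G ≃* Matrix.ProjectiveSpecialLinearGroup (Fin 2) (GaloisField 2 n)) := by
  obtain ⟨F, _, _, n, hn, hF, ⟨e⟩⟩ := h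
  have := Fintype.ofFinite (GaloisField 2 n)
  exact ⟨n, hn, ⟨e.trans (H55.pslCongr (FiniteField.ringEquivOfCardEq (by
    rw [hF, ← Nat.card_eq_fintype_card, GaloisField.card 2 n (by omega)])))⟩⟩

omit [Finite G] in
theorem l2Even_of_galois {n : ℕ} (hn : 2 ≤ n)
    (e : G ≃* Matrix.ProjectiveSpecialLinearGroup (Fin 2) (GaloisField 2 n)) : L2Even G := by
  have := Fintype.ofFinite (GaloisField 2 n)
  exact ⟨GaloisField 2 n, inferInstance, this, n, hn, by
    rw [← Nat.card_eq_fintype_card, GaloisField.card 2 n (by omega)], ⟨e⟩⟩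

theorem card_sylow_of_regular {p : ℕ} [Fact p.Prime] (S : Sylow p G) (hn : ¬ (S : Subgroup G).Normal)
    (h : ∀ y z : Sylow p G, y ≠ S → z ≠ S → ∃! u : (S : Subgroup G), (u : G) • y = z) :
    Nat.card (Sylow p G) = Nat.card (S : Subgroup G) + 1 := by
  obtain ⟨y, hy⟩ : ∃ y : Sylow p G, y ≠ S := by
    by_contra hc
    push Not at hc
    have : Subsingleton (Sylow p G) := ⟨fun a b => (hc a).trans (hc b).symm⟩
    exact hn (Sylow.normal_of_subsingleton S)
  have hne : ∀ u : (S : Subgroup G), (u : G) • y ≠ S := fun u e => hy (by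
    rw [← inv_smul_smul (u : G) y, e]
    exact Sylow.smul_eq_iff_mem_normalizer.2 (le_normalizer (inv_mem u.2)))
  have : Nat.card (S : Subgroup G) = Nat.card {z : Sylow p G // z ≠ S} :=
    Nat.card_eq_of_bijective (fun u => ⟨(u : G) • y, hne u⟩) ⟨fun a b e =>
      (h y _ hy (hne a)).unique rfl (congrArg Subtype.val e).symm, fun z => by
        obtain ⟨u, hu⟩ := (h y z hy z.2).exists
        exact ⟨u, Subtype.ext hu⟩⟩
  rw [this]
  classical
  have := Fintype.ofFinite (Sylow p G)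
  have hpos : 0 < Fintype.card (Sylow p G) := Fintype.card_pos_iff.2 ⟨S⟩
  simp only [Nat.card_eq_fintype_card, ne_eq, Fintype.card_subtype_compl, Fintype.card_unique]
  omega

/-- The orders in a ZT-group: `|S| = q²`, `|N(S) : S| = q - 1`. -/
theorem IsZT.exists_numbers (h : IsZT G) : ∃ (S : Sylow 2 G) (m : ℕ), 1 ≤ m ∧
    (∃ u ∈ (S : Subgroup G), ∃ v ∈ (S : Subgroup G), u * v ≠ v * u) ∧
    Nat.card (S : Subgroup G) = (2 ^ (2 * m + 1)) ^ 2 ∧
    ((S : Subgroup G).subgroupOf (normalizer ((S : Subgroup G) : Set G))).index =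
      2 ^ (2 * m + 1) - 1 := by
  obtain ⟨-, m, hm, hc⟩ := H30.ztOrd G h
  obtain ⟨hs, -, S, hna, hreg⟩ := h
  have hG : ¬ Group.IsSolvable G := not_solvable_of_simple (by
    obtain ⟨u, -, v, -, e⟩ := hna; exact ⟨u, v, e⟩)
  have h1 := card_sylow_of_regular S (fun hn => sylow_ne_bot_of_even S (even_of_not_solvable hG)
    (eq_bot_of_simple_of_isPGroup hG hn S.isPGroup')) hreg
  have hS : Nat.card (S : Subgroup G) = (2 ^ (2 * m + 1)) ^ 2 := by
    obtain ⟨s, hs⟩ := IsPGroup.iff_card.1 S.isPGroup'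
    have h2 := (S : Subgroup G).card_mul_index
    have h3 : Odd (S : Subgroup G).index := Nat.not_even_iff_odd.1 fun e => S.not_dvd_index e.two_dvd
    have he : Even (2 ^ (2 * m + 1)) := (Nat.even_pow' (by omega)).2 even_two
    have h4 : Odd (((2 ^ (2 * m + 1)) ^ 2 + 1) * (2 ^ (2 * m + 1) - 1)) :=
      (he.pow_of_ne_zero two_ne_zero).add_one.mul (Nat.Even.sub_odd Nat.one_le_two_pow he odd_one)
    rw [hc, hs, mul_assoc] at h2
    rw [hs]
    refine Nat.dvd_antisymm ?_ ?_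
    · exact (Nat.Coprime.pow_left _ (Nat.coprime_two_left.2 h4)).dvd_of_dvd_mul_right ⟨_, h2.symm⟩
    · exact (Nat.Coprime.pow_left _ (Nat.Coprime.pow_left _
        (Nat.coprime_two_left.2 h3))).dvd_of_dvd_mul_right ⟨_, h2⟩
  refine ⟨S, m, hm, hna, hS, ?_⟩
  have h2 := (S : Subgroup G).card_mul_index
  rw [← relIndex_mul_index (le_normalizer (H := (S : Subgroup G))), S.coe_coe,
    ← S.card_eq_index_normalizer, h1, hc, hS, mul_assoc, mul_comm (_ + 1)] at h2
  exact Nat.eq_of_mul_eq_mul_right (by positivity) (Nat.eq_of_mul_eq_mul_left (by positivity) h2)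

theorem dvd_of_two_pow_sub_one_dvd {k a : ℕ} (h : 2 ^ k - 1 ∣ 2 ^ a - 1) : k ∣ a := by
  have h1 := Nat.pow_sub_one_gcd_pow_sub_one 2 k a
  rw [Nat.gcd_eq_left h] at h1
  have h2 : 2 ^ k = 2 ^ k.gcd a := by
    have := Nat.one_le_two_pow (n := k)
    have := Nat.one_le_two_pow (n := k.gcd a)
    omega
  exact Nat.pow_right_injective le_rfl h2 ▸ Nat.gcd_dvd_right k a

end H31
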